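import Mathlib
import Cfsg.Prelude.Def_Characters
import Cfsg.Agent.Lib.OO.Defs
import Cfsg.Agent.Lib.Char.Induction

/-!
# Odd order theorem project: vocabulary (character part)

Class functions of a subgroup `H` of the ambient finite group `G` are functions `G → ℂ` vanishing off
`H` (as in mathcomp).  FROZEN FILE: do not edit; put API lemmas in `Lib/OO/CF*.lean`.
-/

set_option autoImplicit false

namespace Cfsg.Agent.OO

open Subgroup Cfsg.Agent.Coprime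
open scoped Pointwise ComplexConjugate

universe u

variable {G : Type u} [Group G] [Finite G]

/-- a subset of the finite group as a `Finset` -/
noncomputable def elts (A : Set G) : Finset G := (Set.toFinite A).toFinset

omit [Group G] in
@[simp] theorem mem_elts {A : Set G} {x : G} : x ∈ elts A ↔ x ∈ A := Set.Finite.mem_toFinset _

/-- class functions of `H` -/
def CF (H : Subgroup G) : Submodule ℂ (G → ℂ) where
  carrier := {φ | (∀ x, x ∉ H → φ x = 0) ∧ ∀ h ∈ H, ∀ x, φ (h * x * h⁻¹) = φ x}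
  zero_mem' := ⟨fun _ _ => rfl, fun _ _ _ => rfl⟩
  add_mem' := fun ha hb => ⟨fun x hx => by simp [ha.1 x hx, hb.1 x hx],
    fun h hh x => by simp [ha.2 h hh x, hb.2 h hh x]⟩
  smul_mem' := fun c _ ha => ⟨fun x hx => by simp [ha.1 x hx], fun h hh x => by simp [ha.2 h hh x]⟩

/-- functions vanishing off `A` -/
def suppOn (A : Set G) : Submodule ℂ (G → ℂ) where
  carrier := {φ | ∀ x, x ∉ A → φ x = 0}
  zero_mem' := fun _ _ => rfl
  add_mem' := fun ha hb x hx => by simp [ha x hx, hb x hx]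
  smul_mem' := fun c _ ha x hx => by simp [ha x hx]

/-- `CF(H, A)` -/
def CFon (H : Subgroup G) (A : Set G) : Submodule ℂ (G → ℂ) := CF H ⊓ suppOn A

/-- inner product of class functions of `H` -/
noncomputable def cfdot (H : Subgroup G) (φ ψ : G → ℂ) : ℂ :=
  (♯H : ℂ)⁻¹ * ∑ x ∈ elts (H : Set G), φ x * conj (ψ x)

@[inherit_doc] scoped notation "⟪" φ ", " ψ "⟫[" H "]" => cfdot H φ ψ

/-- squared norm `‖φ‖²` (a real number) -/
noncomputable def cfnorm (H : Subgroup G) (φ : G → ℂ) : ℝ :=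
  (♯H : ℝ)⁻¹ * ∑ x ∈ elts (H : Set G), ‖φ x‖ ^ 2

/-- characters of `H` -/
def IsChar (H : Subgroup G) (χ : G → ℂ) : Prop := ∃ θ, IsCharacter H θ ∧ χ = extendByZero H θ
/-- irreducible characters of `H` -/
def IsIrr (H : Subgroup G) (χ : G → ℂ) : Prop := ∃ θ, IsIrrCharacter H θ ∧ χ = extendByZero H θ

theorem finite_isIrr (H : Subgroup G) : {χ | IsIrr H χ}.Finite := by
  have := Char.instFiniteIrrCharacter (G := H)
  refine (Set.finite_range fun θ : IrrCharacter H => extendByZero H θ.1).subset ?_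
  rintro _ ⟨θ, hθ, rfl⟩
  exact ⟨⟨θ, hθ⟩, rfl⟩

/-- `Irr(H)` -/
noncomputable def Irr (H : Subgroup G) : Finset (G → ℂ) := (finite_isIrr H).toFinset

@[simp] theorem mem_Irr {H : Subgroup G} {χ : G → ℂ} : χ ∈ Irr H ↔ IsIrr H χ :=
  Set.Finite.mem_toFinset _

/-- linear characters -/
def IsLinChar (H : Subgroup G) (χ : G → ℂ) : Prop := IsChar H χ ∧ χ 1 = 1
/-- `± χ` with `χ` irreducible -/
def IsDirr (H : Subgroup G) (χ : G → ℂ) : Prop := IsIrr H χ ∨ IsIrr H (-χ)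
/-- `ℤ[S]` -/
def Zspan (S : Finset (G → ℂ)) : Submodule ℤ (G → ℂ) := Submodule.span ℤ (S : Set (G → ℂ))
/-- `ℤ[S, A]` -/
def ZspanOn (S : Finset (G → ℂ)) (A : Set G) : Submodule ℤ (G → ℂ) :=
  Zspan S ⊓ (suppOn A).restrictScalars ℤ
/-- virtual characters `ℤ[Irr H]` -/
noncomputable def ZIrr (H : Subgroup G) : Submodule ℤ (G → ℂ) := Zspan (Irr H)
/-- `ℤ[Irr H, A]` -/
noncomputable def ZIrrOn (H : Subgroup G) (A : Set G) : Submodule ℤ (G → ℂ) := ZspanOn (Irr H) A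

/-- the principal character `1_H` -/
noncomputable def cf1 (H : Subgroup G) : G → ℂ := (H : Set G).indicator 1

/-- restriction to `H` -/
noncomputable def cfRes (H : Subgroup G) : (G → ℂ) →ₗ[ℂ] (G → ℂ) where
  toFun φ := (H : Set G).indicator φ
  map_add' φ ψ := Set.indicator_add' _ _ _
  map_smul' c φ := by
    ext x; by_cases hx : x ∈ (H : Set G) <;> simp [hx]

open Classical in
/-- induction from `H` to `K` -/
noncomputable def cfInd (K H : Subgroup G) : (G → ℂ) →ₗ[ℂ] (G → ℂ) where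
  toFun φ := fun g => if g ∈ K then (♯H : ℂ)⁻¹ * ∑ x ∈ elts (K : Set G), φ (x⁻¹ * g * x) else 0
  map_add' φ ψ := by
    ext g; by_cases hg : g ∈ K <;> simp [hg, Finset.sum_add_distrib, mul_add]
  map_smul' c φ := by
    ext g; by_cases hg : g ∈ K <;> simp [hg, ← Finset.mul_sum, mul_left_comm]

/-- action of a field automorphism on values; complex conjugation is `star φ` -/
def cfAut (u : ℂ ≃+* ℂ) (φ : G → ℂ) : G → ℂ := fun x => u (φ x)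
/-- `φ^g`, a class function of `g H g⁻¹` when `φ ∈ CF H` -/
def cfConjg (g : G) (φ : G → ℂ) : G → ℂ := fun x => φ (g⁻¹ * x * g)

/-- kernel -/
def cfker (H : Subgroup G) (φ : G → ℂ) : Subgroup G where
  carrier := {x | x ∈ H ∧ ∀ y, φ (x * y) = φ y}
  one_mem' := ⟨H.one_mem, fun y => by rw [one_mul]⟩
  mul_mem' := fun ha hb => ⟨H.mul_mem ha.1 hb.1, fun y => by rw [mul_assoc, ha.2, hb.2]⟩
  inv_mem' := fun {x} ha => ⟨H.inv_mem ha.1, fun y => by rw [← ha.2 (x⁻¹ * y), mul_inv_cancel_left]⟩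

/-- inertia group in `K` -/
def inertia (K : Subgroup G) (φ : G → ℂ) : Subgroup G where
  carrier := {g | g ∈ K ∧ cfConjg g φ = φ}
  one_mem' := ⟨K.one_mem, by ext x; simp [cfConjg]⟩
  mul_mem' := fun {a b} ha hb => ⟨K.mul_mem ha.1 hb.1, by
    ext x
    have h1 := congrFun ha.2 x
    have h2 := congrFun hb.2 (a⁻¹ * x * a)
    simp only [cfConjg] at h1 h2 ⊢
    rw [← h1, ← h2]; congr 1; group⟩
  inv_mem' := fun {a} ha => ⟨K.inv_mem ha.1, by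
    ext x
    have h1 := congrFun ha.2 (a * x * a⁻¹)
    simp only [cfConjg] at h1 ⊢
    rw [inv_inv, ← h1]; congr 1; group⟩

open Classical in
/-- the `K`-conjugates of `φ` -/
noncomputable def cfclass (K : Subgroup G) (φ : G → ℂ) : Finset (G → ℂ) :=
  (elts (K : Set G)).image fun g => cfConjg g φ

open Classical in
/-- inflation to `H` of a class function of `H ⁒ N` -/
noncomputable def cfMod (H N : Subgroup G) (φ : Coset N → ℂ) : G → ℂ :=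
  fun x => if x ∈ H then φ (coset N x) else 0

open Classical in
/-- the class function of `H ⁒ N` given by a class function of `H` with `N` in its kernel -/
noncomputable def cfQuo (H N : Subgroup G) (φ : G → ℂ) : Coset N → ℂ :=
  fun y => if h : ∃ x ∈ H, x ∈ 𝐍(N) ∧ coset N x = y then φ h.choose else 0

open Classical in
/-- the class function `φ × ψ` of `A × B` -/
noncomputable def cfDprod (A B : Subgroup G) (φ ψ : G → ℂ) : G → ℂ :=
  fun x => if h : ∃ a ∈ A, a⁻¹ * x ∈ B then φ h.choose * ψ (h.choose⁻¹ * x) else 0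

open Classical in
/-- the class function of `K ⋊ R` inflated from a class function of `R` -/
noncomputable def cfSdprod (K R : Subgroup G) (φ : G → ℂ) : G → ℂ :=
  fun x => if h : ∃ r ∈ R, x * r⁻¹ ∈ K then φ h.choose else 0

/-- pairwise orthogonal nonzero functions -/
def PairwiseOrth (H : Subgroup G) (S : Finset (G → ℂ)) : Prop :=
  (0 : G → ℂ) ∉ S ∧ ∀ φ ∈ S, ∀ ψ ∈ S, φ ≠ ψ → ⟪φ, ψ⟫[H] = 0
/-- orthonormal set -/
def Orthonormal' (H : Subgroup G) (S : Finset (G → ℂ)) : Prop :=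
  (∀ φ ∈ S, ⟪φ, φ⟫[H] = 1) ∧ ∀ φ ∈ S, ∀ ψ ∈ S, φ ≠ ψ → ⟪φ, ψ⟫[H] = 0
/-- two orthogonal sets -/
def Orth (H : Subgroup G) (S T : Finset (G → ℂ)) : Prop := ∀ φ ∈ S, ∀ ψ ∈ T, ⟪φ, ψ⟫[H] = 0
/-- `τ` is an isometry from `E ⊆ CF L` to `F ⊆ CF Γ` -/
def IsometryTo (L Γ : Subgroup G) (E F : Submodule ℤ (G → ℂ)) (τ : (G → ℂ) → (G → ℂ)) : Prop :=
  (∀ φ ∈ E, ∀ ψ ∈ E, ⟪τ φ, τ ψ⟫[Γ] = ⟪φ, ψ⟫[L]) ∧ ∀ φ ∈ E, τ φ ∈ F
/-- `a ≡ b (mod e)` in the ring of algebraic integers -/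
def EqAmod (e a b : ℂ) : Prop := ∃ z : ℂ, IsIntegral ℤ z ∧ a - b = e * z
/-- `a ≡ b (mod e)` in `ℤ`, i.e. `a - b ∈ e ℤ` -/
def EqCmod (e a b : ℂ) : Prop := ∃ z : ℤ, a - b = e * z
/-- rational integer -/
def IsCint (a : ℂ) : Prop := ∃ z : ℤ, a = z
/-- natural number -/
def IsCnat (a : ℂ) : Prop := ∃ n : ℕ, a = n

/-! ### The Dade isometry (Peterfalvi section 2) -/

/-- `H(a)` -/
def DadeSig (Γ L : Subgroup G) (a : G) : Subgroup G := Opi (piOf (L ⊓ 𝐂[a]))ᶜ (Γ ⊓ 𝐂[a])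

/-- Hypothesis (2.2) -/
structure DadeHyp (Γ L : Subgroup G) (A : Set G) : Prop where
  subset : A ⊆ L
  conj_mem : ∀ x ∈ L, ∀ a ∈ A, x * a * x⁻¹ ∈ A
  le : L ≤ Γ
  one_not_mem : (1 : G) ∉ A
  fusion : ∀ a ∈ A, ∀ g ∈ Γ, g * a * g⁻¹ ∈ A → ∃ t ∈ L, g * a * g⁻¹ = t * a * t⁻¹
  sig : ∃ H : G → Subgroup G, (∀ a ∈ A, IsSdprod (H a) (L ⊓ 𝐂[a]) (Γ ⊓ 𝐂[a])) ∧
    ∀ a ∈ A, ∀ b ∈ A, (♯(H a)).Coprime ♯(L ⊓ 𝐂[b])

/-- `(H(a) a)^Γ` -/
def DadeSupp1 (Γ L : Subgroup G) (a : G) : Set G := classSupp {y | y * a⁻¹ ∈ DadeSig Γ L a} Γ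
/-- `A^τ` -/
def DadeSupp (Γ L : Subgroup G) (A : Set G) : Set G := ⋃ a ∈ A, DadeSupp1 Γ L a

open Classical in
/-- the Dade isometry relative to `(A, L, Γ)` -/
noncomputable def Dade (Γ L : Subgroup G) (A : Set G) : (G → ℂ) →ₗ[ℂ] (G → ℂ) where
  toFun α := fun u => if h : ∃ a ∈ A, u ∈ DadeSupp1 Γ L a then α h.choose else 0
  map_add' φ ψ := by
    ext u; by_cases h : ∃ a ∈ A, u ∈ DadeSupp1 Γ L a <;> simp [h]
  map_smul' c φ := by
    ext u; by_cases h : ∃ a ∈ A, u ∈ DadeSupp1 Γ L a <;> simp [h]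

open Classical in
/-- the map `χ ↦ χ^ρ` of (7.1) -/
noncomputable def invDade (Γ L : Subgroup G) (A : Set G) : (G → ℂ) →ₗ[ℂ] (G → ℂ) where
  toFun χ := fun a => if a ∈ A then
    (♯(DadeSig Γ L a) : ℂ)⁻¹ * ∑ x ∈ elts (DadeSig Γ L a : Set G), χ (x * a) else 0
  map_add' φ ψ := by
    ext g; by_cases hg : g ∈ A <;> simp [hg, Finset.sum_add_distrib, mul_add]
  map_smul' c φ := by
    ext g; by_cases hg : g ∈ A <;> simp [hg, ← Finset.mul_sum, mul_left_comm]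

/-! ### Cyclic TI isometry (section 3) -/

/-- Hypothesis (3.1) -/
structure CycTIHyp (Γ W W1 W2 : Subgroup G) : Prop where
  defW : IsDprod W1 W2 W
  cyc : IsCyclic W
  odd : Odd ♯W
  ti : NormedTI (cycTIset W1 W2) Γ W

/-- `ω_{ij}` for `i ∈ Irr W₁`, `j ∈ Irr W₂`; the index `0` of the book is `cf1 W₁`, resp. `cf1 W₂` -/
noncomputable abbrev cycTIirr (W1 W2 : Subgroup G) (i j : G → ℂ) : G → ℂ := cfDprod W1 W2 i j

/-- the properties (3.2)(a-c) characterising `σ` -/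
structure IsCycTIiso (Γ W W1 W2 : Subgroup G) (σ : (G → ℂ) →ₗ[ℂ] (G → ℂ)) : Prop where
  mem_CF : ∀ φ ∈ CF W, σ φ ∈ CF Γ
  isometry : ∀ φ ∈ CF W, ∀ ψ ∈ CF W, ⟪σ φ, σ ψ⟫[Γ] = ⟪φ, ψ⟫[W]
  mem_ZIrr : ∀ φ ∈ ZIrr W, σ φ ∈ ZIrr Γ
  map_one : σ (cf1 W) = cf1 Γ
  eq_ind : ∀ φ ∈ CFon W (cycTIset W1 W2), σ φ = cfInd Γ W φ
  restrict : ∀ φ ∈ CF W, ∀ x ∈ cycTIset W1 W2, σ φ x = φ x

open Classical in
/-- the isometry `σ : CF W → CF Γ` of (3.2) -/
noncomputable def cycTIiso (Γ W W1 W2 : Subgroup G) : (G → ℂ) →ₗ[ℂ] (G → ℂ) :=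
  if h : ∃ σ, IsCycTIiso Γ W W1 W2 σ then h.choose else 0

/-- `η_{ij} = ω_{ij}^σ` -/
noncomputable abbrev cycTIeta (Γ W W1 W2 : Subgroup G) (i j : G → ℂ) : G → ℂ :=
  cycTIiso Γ W W1 W2 (cycTIirr W1 W2 i j)

open Classical in
/-- `NC(φ)` of (3.6) -/
noncomputable def cycTI_NC (Γ W W1 W2 : Subgroup G) (φ : G → ℂ) : ℕ :=
  ((Irr W1 ×ˢ Irr W2).filter fun ij => ⟪φ, cycTIeta Γ W W1 W2 ij.1 ij.2⟫[Γ] ≠ 0).card

/-! ### Prime TI and prime Dade hypotheses (section 4) -/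

/-- Hypothesis (4.2) -/
structure PrimeTIHyp (L K W W1 W2 : Subgroup G) : Prop where
  defL : IsSdprod K W1 L
  W1_ne_bot : W1 ≠ ⊥
  hallW1 : IsHallIn W1 L
  cycW1 : IsCyclic W1
  W2_ne_bot : W2 ≠ ⊥
  W2_le : W2 ≤ K
  cycW2 : IsCyclic W2
  prime_act : ∀ x ∈ W1, x ≠ 1 → K ⊓ 𝐂[x] = W2
  defW : IsDprod W1 W2 W
  odd : Odd ♯W

open Classical in
/-- the sign `δ_j` of (4.3) -/
noncomputable def prTIsign (L W W1 W2 : Subgroup G) (j : G → ℂ) : ℂ :=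
  if 0 < (cycTIeta L W W1 W2 (cf1 W1) j 1).re then 1 else -1
/-- the irreducible character `μ_{ij}` of `L` of (4.3) -/
noncomputable def prTIirr (L W W1 W2 : Subgroup G) (i j : G → ℂ) : G → ℂ :=
  prTIsign L W W1 W2 j • cycTIeta L W W1 W2 i j
/-- the reducible character `μ_j = ∑_i μ_{ij}` of (4.5) -/
noncomputable def prTIred (L W W1 W2 : Subgroup G) (j : G → ℂ) : G → ℂ :=
  ∑ i ∈ Irr W1, prTIirr L W W1 W2 i j
/-- the irreducible character `χ_j` of `K` of (4.5) -/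
noncomputable def prTIres (L K W W1 W2 : Subgroup G) (j : G → ℂ) : G → ℂ :=
  cfRes K (prTIirr L W W1 W2 (cf1 W1) j)

/-- Hypothesis (4.6) -/
structure PrimeDadeHyp (Γ L K H : Subgroup G) (A A0 : Set G) (W W1 W2 : Subgroup G) : Prop where
  prTI : PrimeTIHyp L K W W1 W2
  cycTI : CycTIHyp Γ W W1 W2
  dade : DadeHyp Γ L A0
  normalH : H ⊴ L
  W2_le : W2 ≤ H
  H_le : H ≤ K
  A_conj : ∀ x ∈ L, ∀ a ∈ A, x * a * x⁻¹ ∈ A
  le_A : ∀ h ∈ H, h ≠ 1 → sharp (K ⊓ 𝐂[h]) ⊆ A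
  A_le : A ⊆ sharp K
  defA0 : A0 = A ∪ classSupp (cycTIset W1 W2) L

/-! ### Induced sets and coherence (section 5) -/

open Classical in
/-- irreducible characters of `K` with `M` in the kernel but not `H` -/
noncomputable def IrrKerD (K H M : Subgroup G) : Finset (G → ℂ) :=
  (Irr K).filter fun χ => M ≤ cfker K χ ∧ ¬ H ≤ cfker K χ

open Classical in
/-- `{Ind_K^L χ | χ ∈ X}` -/
noncomputable def seqInd (K L : Subgroup G) (X : Finset (G → ℂ)) : Finset (G → ℂ) :=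
  X.image (cfInd L K)
/-- `{Ind_K^L χ | χ ∈ Irr K, M ≤ ker χ, H ≰ ker χ}` -/
noncomputable def seqIndD (K L H M : Subgroup G) : Finset (G → ℂ) := seqInd K L (IrrKerD K H M)
/-- `{Ind_K^L χ | χ ∈ Irr K}` -/
noncomputable def seqIndT (K L : Subgroup G) : Finset (G → ℂ) := seqInd K L (Irr K)

/-- `S₁ ⊆ S₂` and `S₁` is closed under complex conjugation -/
def ConjSubset (S1 S2 : Finset (G → ℂ)) : Prop := S1 ⊆ S2 ∧ ∀ φ ∈ S1, star φ ∈ S1

/-- Hypothesis (5.2) -/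
structure Subcoherent (L Γ : Subgroup G) (S : Finset (G → ℂ)) (τ : (G → ℂ) →ₗ[ℂ] (G → ℂ))
    (R : (G → ℂ) → Finset (G → ℂ)) : Prop where
  isChar : ∀ ξ ∈ S, IsChar L ξ
  not_real : ∀ ξ ∈ S, star ξ ≠ ξ
  conj_mem : ∀ ξ ∈ S, star ξ ∈ S
  isometry : IsometryTo L Γ (ZspanOn S (sharp L)) (ZIrrOn Γ (sharp Γ)) τ
  orth : PairwiseOrth L S
  R_mem : ∀ ξ ∈ S, ∀ α ∈ R ξ, α ∈ ZIrr Γ
  R_orth : ∀ ξ ∈ S, Orthonormal' Γ (R ξ)
  sum_R : ∀ ξ ∈ S, τ (ξ - star ξ) = ∑ α ∈ R ξ, α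
  orth_R : ∀ ξ ∈ S, ∀ φ ∈ S, ⟪φ, ξ⟫[L] = 0 → ⟪φ, star ξ⟫[L] = 0 → Orth Γ (R φ) (R ξ)

/-- `ν` extends `τ` coherently -/
def CoherentWith (L Γ : Subgroup G) (S : Finset (G → ℂ)) (A : Set G) (τ : (G → ℂ) →ₗ[ℂ] (G → ℂ))
    (ν : (G → ℂ) →+ (G → ℂ)) : Prop :=
  IsometryTo L Γ (Zspan S) (ZIrr Γ) ν ∧ ∀ φ ∈ ZspanOn S A, ν φ = τ φ

/-- Definition (5.1), without the nontriviality condition `ℤ[S, A] ≠ 0` (as in mathcomp) -/
def Coherent (L Γ : Subgroup G) (S : Finset (G → ℂ)) (A : Set G) (τ : (G → ℂ) →ₗ[ℂ] (G → ℂ)) : Prop :=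
  ∃ ν, CoherentWith L Γ S A τ ν

/-! ### Dade isometries of maximal subgroups (section 8) -/

open Classical in
/-- `R(x)` of (8.14) -/
noncomputable def FTsignalizer (M : Subgroup G) (x : G) : Subgroup G :=
  if 𝐂[x] ≤ M then ⊥ else Fcore (Nx x) ⊓ 𝐂[x]
/-- `Ã` of (8.14) -/
def FTDadeSupp (M : Subgroup G) (A : Set G) : Set G :=
  ⋃ x ∈ A, classSupp {y | y * x⁻¹ ∈ FTsignalizer M x} ⊤
/-- `L` supports `M` -/
def FTsupports (M L : Subgroup G) : Prop := ∃ x ∈ FTsupp M, ¬ 𝐂[x] ≤ M ∧ 𝐂[x] ≤ L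
/-- Dade isometry for `A₀(M)` -/
noncomputable abbrev FTDade0 (M : Subgroup G) := Dade ⊤ M (FTsupp0 M)
/-- Dade isometry for `A(M)` -/
noncomputable abbrev FTDade (M : Subgroup G) := Dade ⊤ M (FTsupp M)
/-- Dade isometry for `A₁(M)` -/
noncomputable abbrev FTDade1 (M : Subgroup G) := Dade ⊤ M (FTsupp1 M)
/-- Dade isometry for `M_F^#` -/
noncomputable abbrev FTDadeF (M : Subgroup G) := Dade ⊤ M (sharp (Fcore M))

end Cfsg.Agent.OO
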