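import Mathlib
import Cfsg.Agent.Lib.OO.CFDefs
import Cfsg.Agent.Lib.OO.BasicA

/-!
# CF0: class functions, inner product, norm (mathcomp `classfun.v`, first half)
-/

set_option autoImplicit false
set_option linter.unusedSectionVars false

namespace Cfsg.Agent.OO

open Subgroup
open scoped Pointwise ComplexConjugate

universe u

variable {G : Type u} [Group G] [Finite G] {H K L : Subgroup G} {φ ψ θ : G → ℂ} {A B : Set G}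

/-! ### sums over subgroups -/

omit [Group G] in
theorem card_elts_set (A : Set G) : (elts A).card = A.ncard := by
  rw [elts, Set.ncard_eq_toFinset_card A (Set.toFinite A)]

theorem card_elts (H : Subgroup G) : (elts (H : Set G)).card = ♯H := by
  rw [card_elts_set]; rfl

omit [Group G] in
@[simp] theorem coe_elts (A : Set G) : (elts A : Set G) = A := by ext; simp

theorem sum_elts_subtype {M : Type*} [AddCommMonoid M] (H : Subgroup G) [Fintype H] (f : G → M) :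
    ∑ x ∈ elts (H : Set G), f x = ∑ x : H, f x :=
  Finset.sum_subtype _ (by simp) f

theorem cardC_ne_zero (H : Subgroup G) : (♯H : ℂ) ≠ 0 := by exact_mod_cast Nat.card_pos.ne'

theorem cardR_pos (H : Subgroup G) : (0 : ℝ) < ♯H := by exact_mod_cast Nat.card_pos

theorem relIndexC_ne_zero (H K : Subgroup G) : (H.relIndex K : ℂ) ≠ 0 := by
  exact_mod_cast (index_ne_zero_of_finite : H.relIndex K ≠ 0)

theorem card_mul_relIndexC (h : H ≤ K) : (♯H : ℂ) * H.relIndex K = ♯K := by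
  exact_mod_cast Core.card_mul_relIndex_of_le h

theorem sum_elts_equiv {M : Type*} [AddCommMonoid M] (e : G ≃ G) (h : ∀ x, x ∈ A ↔ e x ∈ B)
    (f : G → M) : ∑ x ∈ elts A, f (e x) = ∑ x ∈ elts B, f x :=
  Finset.sum_equiv e (by simpa using h) fun _ _ => rfl

theorem sum_elts_mul_left {M : Type*} [AddCommMonoid M] {h : G} (hh : h ∈ H) (f : G → M) :
    ∑ x ∈ elts (H : Set G), f (h * x) = ∑ x ∈ elts (H : Set G), f x :=
  sum_elts_equiv (Equiv.mulLeft h) (fun _ => (H.mul_mem_cancel_left hh).symm) f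

theorem sum_elts_mul_right {M : Type*} [AddCommMonoid M] {h : G} (hh : h ∈ H) (f : G → M) :
    ∑ x ∈ elts (H : Set G), f (x * h) = ∑ x ∈ elts (H : Set G), f x :=
  sum_elts_equiv (Equiv.mulRight h) (fun _ => (H.mul_mem_cancel_right hh).symm) f

theorem sum_elts_inv {M : Type*} [AddCommMonoid M] (H : Subgroup G) (f : G → M) :
    ∑ x ∈ elts (H : Set G), f x⁻¹ = ∑ x ∈ elts (H : Set G), f x :=
  sum_elts_equiv (Equiv.inv G) (fun _ => H.inv_mem_iff.symm) f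

theorem sum_elts_conj {M : Type*} [AddCommMonoid M] {g : G} (hg : g ∈ 𝐍(H)) (f : G → M) :
    ∑ x ∈ elts (H : Set G), f (g * x * g⁻¹) = ∑ x ∈ elts (H : Set G), f x :=
  sum_elts_equiv (MulAut.conj g).toEquiv (fun x => mem_normalizer_iff.1 hg x) f

theorem sum_elts_conj' {M : Type*} [AddCommMonoid M] {g : G} (hg : g ∈ 𝐍(H)) (f : G → M) :
    ∑ x ∈ elts (H : Set G), f (g⁻¹ * x * g) = ∑ x ∈ elts (H : Set G), f x := by
  simpa using sum_elts_conj (inv_mem hg) f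

omit [Group G] in
theorem sum_elts_subset {M : Type*} [AddCommMonoid M] (h : A ⊆ B) {f : G → M}
    (hf : ∀ x ∈ B, x ∉ A → f x = 0) : ∑ x ∈ elts A, f x = ∑ x ∈ elts B, f x :=
  Finset.sum_subset (fun x hx => by simpa using h (by simpa using hx)) (by simpa using hf)

theorem sum_elts_const {M : Type*} [AddCommMonoid M] (H : Subgroup G) (c : M) :
    ∑ _x ∈ elts (H : Set G), c = ♯H • c := by rw [Finset.sum_const, card_elts]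

omit [Finite G] in
theorem mem_sharp {x : G} : x ∈ sharp H ↔ x ∈ H ∧ x ≠ 1 := Iff.rfl

omit [Finite G] in
theorem sharp_subset (H : Subgroup G) : sharp H ⊆ H := fun _ h => h.1

omit [Finite G] in
theorem sharp_mono (h : H ≤ K) : sharp H ⊆ sharp K := fun _ hx => ⟨h hx.1, hx.2⟩

omit [Finite G] in
theorem mem_conj_smul {g x : G} : x ∈ g •ᶜ H ↔ g⁻¹ * x * g ∈ H := by
  rw [mem_pointwise_smul_iff_inv_smul_mem]; simp

theorem card_conj_smul (g : G) (H : Subgroup G) : ♯(g •ᶜ H) = ♯H :=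
  card_map_of_injective (MulAut.conj g).injective

/-! ### class functions -/

theorem mem_CF : φ ∈ CF H ↔ (∀ x, x ∉ H → φ x = 0) ∧ ∀ h ∈ H, ∀ x, φ (h * x * h⁻¹) = φ x :=
  Iff.rfl

theorem cfun0 (hφ : φ ∈ CF H) {x : G} (hx : x ∉ H) : φ x = 0 := hφ.1 x hx

theorem cfunJ (hφ : φ ∈ CF H) {h : G} (hh : h ∈ H) (x : G) : φ (h * x * h⁻¹) = φ x := hφ.2 h hh x

theorem cfunJ' (hφ : φ ∈ CF H) {h : G} (hh : h ∈ H) (x : G) : φ (h⁻¹ * x * h) = φ x := by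
  simpa using hφ.2 h⁻¹ (inv_mem hh) x

theorem cfun_mul_comm (hφ : φ ∈ CF H) {x : G} (hx : x ∈ H) (y : G) : φ (x * y) = φ (y * x) := by
  rw [← cfunJ hφ hx (y * x)]; simp [mul_assoc]

theorem mem_CF_of (h0 : ∀ x, x ∉ H → φ x = 0)
    (h1 : ∀ h ∈ H, ∀ x ∈ H, φ (h * x * h⁻¹) = φ x) : φ ∈ CF H := by
  refine ⟨h0, fun h hh x => ?_⟩
  by_cases hx : x ∈ H
  · exact h1 h hh x hx
  · rw [h0 x hx, h0]
    rwa [H.mul_mem_cancel_right (inv_mem hh), H.mul_mem_cancel_left hh]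

/-- `cfun_inP` -/
theorem cfun_ext (hφ : φ ∈ CF H) (hψ : ψ ∈ CF H) (h : ∀ x ∈ H, φ x = ψ x) : φ = ψ := by
  ext x
  by_cases hx : x ∈ H
  · exact h x hx
  · rw [cfun0 hφ hx, cfun0 hψ hx]

omit [Group G] [Finite G] in
theorem mem_suppOn : φ ∈ suppOn A ↔ ∀ x, x ∉ A → φ x = 0 := Iff.rfl

omit [Group G] [Finite G] in
theorem suppOn_mono (h : A ⊆ B) : suppOn A ≤ suppOn B := fun _ hφ x hx => hφ x fun h' => hx (h h')

omit [Group G] [Finite G] in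
theorem mem_of_suppOn (hφ : φ ∈ suppOn A) {x : G} (hx : φ x ≠ 0) : x ∈ A := by
  by_contra h; exact hx (hφ x h)

theorem CF_le_suppOn (H : Subgroup G) : CF H ≤ suppOn (H : Set G) := fun _ h => h.1

theorem mem_CFon : φ ∈ CFon H A ↔ φ ∈ CF H ∧ ∀ x, x ∉ A → φ x = 0 := Iff.rfl

theorem CFon_le_CF (H : Subgroup G) (A : Set G) : CFon H A ≤ CF H := inf_le_left

theorem CFon_mono (H : Subgroup G) (h : A ⊆ B) : CFon H A ≤ CFon H B :=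
  inf_le_inf_left _ (suppOn_mono h)

theorem cfun_on0 (hφ : φ ∈ CFon H A) {x : G} (hx : x ∉ A) : φ x = 0 := hφ.2 x hx

theorem mem_CFon_of (hφ : φ ∈ CF H) (h : ∀ x ∈ H, x ∉ A → φ x = 0) : φ ∈ CFon H A := by
  refine ⟨hφ, fun x hx => ?_⟩
  by_cases hxH : x ∈ H
  · exact h x hxH hx
  · exact cfun0 hφ hxH

theorem CFon_self (H : Subgroup G) : CFon H (H : Set G) = CF H := inf_eq_left.2 (CF_le_suppOn H)

/-- `cfunD1E` -/
theorem mem_CFon_sharp : φ ∈ CFon H (sharp H) ↔ φ ∈ CF H ∧ φ 1 = 0 := by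
  refine ⟨fun h => ⟨h.1, h.2 1 fun h => h.2 rfl⟩, fun h => mem_CFon_of h.1 fun x hx hx' => ?_⟩
  have : x = 1 := by by_contra h1; exact hx' ⟨hx, h1⟩
  rw [this, h.2]

theorem mem_suppOn_sharp (hφ : φ ∈ suppOn (K : Set G)) : φ ∈ suppOn (sharp K) ↔ φ 1 = 0 := by
  refine ⟨fun h => h 1 fun h => h.2 rfl, fun h x hx => ?_⟩
  by_cases hx1 : x = 1
  · rw [hx1, h]
  · exact hφ x fun h' => hx ⟨h', hx1⟩

theorem mul_mem_CF (hφ : φ ∈ CF H) (hψ : ψ ∈ CF H) : φ * ψ ∈ CF H :=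
  ⟨fun x hx => by simp [cfun0 hφ hx], fun h hh x => by simp [cfunJ hφ hh, cfunJ hψ hh]⟩

omit [Group G] [Finite G] in
theorem mul_mem_suppOn_left (hφ : φ ∈ suppOn A) (ψ : G → ℂ) : φ * ψ ∈ suppOn A :=
  fun x hx => by simp [hφ x hx]

omit [Group G] [Finite G] in
theorem mul_mem_suppOn_right (φ : G → ℂ) (hψ : ψ ∈ suppOn A) : φ * ψ ∈ suppOn A :=
  fun x hx => by simp [hψ x hx]

theorem pow_mem_CF (hφ : φ ∈ CF H) {n : ℕ} (hn : n ≠ 0) : φ ^ n ∈ CF H :=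
  ⟨fun x hx => by simp [cfun0 hφ hx, hn], fun h hh x => by simp [cfunJ hφ hh]⟩

theorem star_mem_CF (hφ : φ ∈ CF H) : star φ ∈ CF H :=
  ⟨fun x hx => by simp [cfun0 hφ hx], fun h hh x => by simp [cfunJ hφ hh]⟩

omit [Group G] [Finite G] in
theorem star_mem_suppOn (hφ : φ ∈ suppOn A) : star φ ∈ suppOn A := fun x hx => by simp [hφ x hx]

theorem star_mem_CFon (hφ : φ ∈ CFon H A) : star φ ∈ CFon H A :=
  ⟨star_mem_CF hφ.1, star_mem_suppOn hφ.2⟩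

omit [Group G] [Finite G] in
theorem cfConjCE (φ : G → ℂ) (x : G) : star φ x = conj (φ x) := rfl

theorem cf1E {x : G} (hx : x ∈ H) : cf1 H x = 1 := Set.indicator_of_mem hx _

theorem cf1_of_not_mem {x : G} (hx : x ∉ H) : cf1 H x = 0 := Set.indicator_of_notMem hx _

@[simp] theorem cf1_one (H : Subgroup G) : cf1 H 1 = 1 := cf1E H.one_mem

theorem cf1_mem_CF (H : Subgroup G) : cf1 H ∈ CF H :=
  mem_CF_of (fun _ => cf1_of_not_mem) fun _ hh _ hx => by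
    rw [cf1E hx, cf1E (H.mul_mem (H.mul_mem hh hx) (inv_mem hh))]

theorem cf1_ne_zero (H : Subgroup G) : cf1 H ≠ 0 := fun h => by simpa using congrFun h 1

theorem cf1_mul (hφ : φ ∈ CF H) : cf1 H * φ = φ :=
  cfun_ext (mul_mem_CF (cf1_mem_CF H) hφ) hφ fun x hx => by simp [cf1E hx]

theorem mul_cf1 (hφ : φ ∈ CF H) : φ * cf1 H = φ := by rw [mul_comm, cf1_mul hφ]

@[simp] theorem star_cf1 (H : Subgroup G) : star (cf1 H) = cf1 H := by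
  ext x
  by_cases hx : x ∈ H
  · simp [cf1E hx]
  · simp [cf1_of_not_mem hx]

/-- the characteristic function of an `H`-invariant subset of `H` -/
theorem indicator_mem_CF (hA : A ⊆ H) (hJ : ∀ h ∈ H, ∀ a ∈ A, h * a * h⁻¹ ∈ A) (hφ : φ ∈ CF H) :
    A.indicator φ ∈ CFon H A := by
  refine ⟨mem_CF_of (fun x hx => Set.indicator_of_notMem (fun h => hx (hA h)) _)
    fun h hh x _ => ?_, fun x hx => Set.indicator_of_notMem hx _⟩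
  by_cases hx : x ∈ A
  · rw [Set.indicator_of_mem hx, Set.indicator_of_mem (hJ h hh x hx), cfunJ hφ hh]
  · rw [Set.indicator_of_notMem hx, Set.indicator_of_notMem]
    intro h'
    exact hx (by simpa [mul_assoc] using hJ h⁻¹ (inv_mem hh) _ h')

/-- a normal subgroup `K` of `H`: `1_K ∈ CF H` -/
theorem cf1_mem_CF_of_normal (h : K ⊴ H) : cf1 K ∈ CF H :=
  mem_CF_of (fun _ hx => cf1_of_not_mem fun h' => hx (h.1 h')) fun g hg x _ => by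
    by_cases hx : x ∈ K
    · rw [cf1E hx, cf1E ((mem_normalizer_iff.1 (h.2 hg) x).1 hx)]
    · rw [cf1_of_not_mem hx, cf1_of_not_mem fun h' => hx ((mem_normalizer_iff.1 (h.2 hg) x).2 h')]

/-! ### the inner product -/

theorem cfdotE (H : Subgroup G) (φ ψ : G → ℂ) :
    ⟪φ, ψ⟫[H] = (♯H : ℂ)⁻¹ * ∑ x ∈ elts (H : Set G), φ x * conj (ψ x) := rfl

theorem cfdot_eq_classInner (H : Subgroup G) [Fintype H] (φ ψ : G → ℂ) :
    ⟪φ, ψ⟫[H] = classInner (fun x : H => φ x) (fun x : H => ψ x) := by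
  rw [cfdot, sum_elts_subtype]; rfl

theorem cfdot_congr {φ' ψ' : G → ℂ} (h1 : ∀ x ∈ H, φ x = φ' x) (h2 : ∀ x ∈ H, ψ x = ψ' x) :
    ⟪φ, ψ⟫[H] = ⟪φ', ψ'⟫[H] := by
  rw [cfdot, cfdot]
  congr 1
  exact Finset.sum_congr rfl fun x hx => by rw [h1 x (by simpa using hx), h2 x (by simpa using hx)]

theorem cfdotEl (hA : A ⊆ H) (hφ : φ ∈ suppOn A) (ψ : G → ℂ) :
    ⟪φ, ψ⟫[H] = (♯H : ℂ)⁻¹ * ∑ x ∈ elts A, φ x * conj (ψ x) := by
  rw [cfdot, sum_elts_subset hA fun x _ hx => by rw [hφ x hx, zero_mul]]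

theorem cfdotEr (hA : A ⊆ H) (φ : G → ℂ) (hψ : ψ ∈ suppOn A) :
    ⟪φ, ψ⟫[H] = (♯H : ℂ)⁻¹ * ∑ x ∈ elts A, φ x * conj (ψ x) := by
  rw [cfdot, sum_elts_subset hA fun x _ hx => by rw [hψ x hx, map_zero, mul_zero]]

theorem cfdot_eq_zero_of_forall (h : ∀ x ∈ H, φ x = 0 ∨ ψ x = 0) : ⟪φ, ψ⟫[H] = 0 := by
  rw [cfdot, Finset.sum_eq_zero, mul_zero]
  intro x hx
  rcases h x (by simpa using hx) with h | h <;> simp [h]

theorem cfdot_complement (hφ : φ ∈ suppOn A) (hψ : ψ ∈ suppOn B) (h : Disjoint A B) :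
    ⟪φ, ψ⟫[H] = 0 :=
  cfdot_eq_zero_of_forall fun x _ => by
    by_cases hx : x ∈ A
    · exact Or.inr (hψ x (Set.disjoint_left.1 h hx))
    · exact Or.inl (hφ x hx)

theorem cfdotDl (φ φ' ψ : G → ℂ) : ⟪φ + φ', ψ⟫[H] = ⟪φ, ψ⟫[H] + ⟪φ', ψ⟫[H] := by
  simp [cfdot, add_mul, Finset.sum_add_distrib, mul_add]

theorem cfdotZl (c : ℂ) (φ ψ : G → ℂ) : ⟪c • φ, ψ⟫[H] = c * ⟪φ, ψ⟫[H] := by
  simp only [cfdot, Pi.smul_apply, smul_eq_mul, mul_assoc, ← Finset.mul_sum]; ring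

theorem cfdotC (φ ψ : G → ℂ) : ⟪φ, ψ⟫[H] = conj ⟪ψ, φ⟫[H] := by
  simp [cfdot, mul_comm]

theorem conj_cfdot (φ ψ : G → ℂ) : conj ⟪φ, ψ⟫[H] = ⟪ψ, φ⟫[H] := (cfdotC ψ φ).symm

/-- `φ ↦ ⟪φ, ψ⟫` as a linear map -/
noncomputable def cfdotL (H : Subgroup G) (ψ : G → ℂ) : (G → ℂ) →ₗ[ℂ] ℂ where
  toFun φ := ⟪φ, ψ⟫[H]
  map_add' φ φ' := cfdotDl φ φ' ψ
  map_smul' c φ := cfdotZl c φ ψ

@[simp] theorem cfdotL_apply (φ ψ : G → ℂ) : cfdotL H ψ φ = ⟪φ, ψ⟫[H] := rfl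

@[simp] theorem cfdot0l (ψ : G → ℂ) : ⟪0, ψ⟫[H] = 0 := by simp [cfdot]
@[simp] theorem cfdot0r (φ : G → ℂ) : ⟪φ, 0⟫[H] = 0 := by simp [cfdot]

theorem cfdotNl (φ ψ : G → ℂ) : ⟪-φ, ψ⟫[H] = -⟪φ, ψ⟫[H] := map_neg (cfdotL H ψ) φ
theorem cfdotBl (φ φ' ψ : G → ℂ) : ⟪φ - φ', ψ⟫[H] = ⟪φ, ψ⟫[H] - ⟪φ', ψ⟫[H] :=
  map_sub (cfdotL H ψ) φ φ'
theorem cfdotMnl (n : ℕ) (φ ψ : G → ℂ) : ⟪n • φ, ψ⟫[H] = n * ⟪φ, ψ⟫[H] := by
  rw [← nsmul_eq_mul]; exact map_nsmul (cfdotL H ψ) n φ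
theorem cfdotMzl (n : ℤ) (φ ψ : G → ℂ) : ⟪n • φ, ψ⟫[H] = n * ⟪φ, ψ⟫[H] := by
  rw [← zsmul_eq_mul]; exact map_zsmul (cfdotL H ψ) n φ
theorem cfdot_suml {ι : Type*} (s : Finset ι) (f : ι → G → ℂ) (ψ : G → ℂ) :
    ⟪∑ i ∈ s, f i, ψ⟫[H] = ∑ i ∈ s, ⟪f i, ψ⟫[H] := map_sum (cfdotL H ψ) f s

theorem cfdotDr (φ ψ ψ' : G → ℂ) : ⟪φ, ψ + ψ'⟫[H] = ⟪φ, ψ⟫[H] + ⟪φ, ψ'⟫[H] := by
  rw [cfdotC, cfdotDl, map_add, conj_cfdot, conj_cfdot]
theorem cfdotZr (c : ℂ) (φ ψ : G → ℂ) : ⟪φ, c • ψ⟫[H] = conj c * ⟪φ, ψ⟫[H] := by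
  rw [cfdotC, cfdotZl, map_mul, conj_cfdot]
theorem cfdotNr (φ ψ : G → ℂ) : ⟪φ, -ψ⟫[H] = -⟪φ, ψ⟫[H] := by
  rw [cfdotC, cfdotNl, map_neg, conj_cfdot]
theorem cfdotBr (φ ψ ψ' : G → ℂ) : ⟪φ, ψ - ψ'⟫[H] = ⟪φ, ψ⟫[H] - ⟪φ, ψ'⟫[H] := by
  rw [cfdotC, cfdotBl, map_sub, conj_cfdot, conj_cfdot]
theorem cfdotMnr (n : ℕ) (φ ψ : G → ℂ) : ⟪φ, n • ψ⟫[H] = n * ⟪φ, ψ⟫[H] := by
  rw [cfdotC, cfdotMnl, map_mul, conj_cfdot, map_natCast]
theorem cfdotMzr (n : ℤ) (φ ψ : G → ℂ) : ⟪φ, n • ψ⟫[H] = n * ⟪φ, ψ⟫[H] := by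
  rw [cfdotC, cfdotMzl, map_mul, conj_cfdot, map_intCast]
theorem cfdot_sumr {ι : Type*} (s : Finset ι) (φ : G → ℂ) (f : ι → G → ℂ) :
    ⟪φ, ∑ i ∈ s, f i⟫[H] = ∑ i ∈ s, ⟪φ, f i⟫[H] := by
  rw [cfdotC, cfdot_suml, map_sum]; simp only [conj_cfdot]

theorem cfdot_eq_zero_comm : ⟪φ, ψ⟫[H] = 0 ↔ ⟪ψ, φ⟫[H] = 0 := by
  rw [cfdotC, map_eq_zero]

theorem cfdot_symm0 (h : ⟪φ, ψ⟫[H] = 0) : ⟪ψ, φ⟫[H] = 0 := cfdot_eq_zero_comm.1 h

theorem cfdot_conjC (φ ψ : G → ℂ) : ⟪star φ, star ψ⟫[H] = conj ⟪φ, ψ⟫[H] := by simp [cfdot]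

theorem cfdot_conjCl (φ ψ : G → ℂ) : ⟪star φ, ψ⟫[H] = conj ⟪φ, star ψ⟫[H] := by
  rw [← cfdot_conjC, star_star]

theorem cfdot_conjCr (φ ψ : G → ℂ) : ⟪φ, star ψ⟫[H] = conj ⟪star φ, ψ⟫[H] := by
  rw [← cfdot_conjC, star_star]

theorem cfdot_mul_left (φ ψ θ : G → ℂ) : ⟪φ * ψ, θ⟫[H] = ⟪φ, star ψ * θ⟫[H] := by
  simp [cfdot, mul_assoc]

theorem cfdot_mul_right (φ ψ θ : G → ℂ) : ⟪φ, ψ * θ⟫[H] = ⟪φ * star ψ, θ⟫[H] := by
  simp [cfdot, mul_assoc]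

theorem cfdot_cf1r (φ : G → ℂ) : ⟪φ, cf1 H⟫[H] = (♯H : ℂ)⁻¹ * ∑ x ∈ elts (H : Set G), φ x := by
  rw [cfdot]
  congr 1
  exact Finset.sum_congr rfl fun x hx => by rw [cf1E (by simpa using hx), map_one, mul_one]

theorem cfdot_cf1 (H : Subgroup G) : ⟪cf1 H, cf1 H⟫[H] = 1 := by
  rw [cfdot_cf1r, Finset.sum_congr rfl fun x hx => cf1E (by simpa using hx), sum_elts_const,
    nsmul_eq_mul, mul_one, inv_mul_cancel₀ (cardC_ne_zero H)]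

/-- an element `φ` of the span of `S` is orthogonal to everything orthogonal to `S` -/
theorem cfdot_span_eq_zero {R : Type*} [Semiring R] [Module R ℂ] [SMulCommClass ℂ R ℂ]
    [IsScalarTower R ℂ ℂ] {S : Set (G → ℂ)} (hφ : φ ∈ Submodule.span R S)
    (h : ∀ ξ ∈ S, ⟪ξ, ψ⟫[H] = 0) : ⟪φ, ψ⟫[H] = 0 := by
  induction hφ using Submodule.span_induction with
  | mem x hx => exact h x hx
  | zero => simp
  | add x y _ _ hx hy => rw [cfdotDl, hx, hy, add_zero]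
  | smul a x _ hx => rw [← smul_one_smul ℂ a x, cfdotZl, hx, mul_zero]

/-! ### the norm -/

theorem cfdot_self (φ : G → ℂ) : ⟪φ, φ⟫[H] = (cfnorm H φ : ℂ) := by
  simp [cfdot, cfnorm, Complex.mul_conj, Complex.normSq_eq_norm_sq]

theorem cfnorm_eq_re (φ : G → ℂ) : cfnorm H φ = (⟪φ, φ⟫[H]).re := by rw [cfdot_self]; simp

theorem cfnorm_eq_of_cfdot {r : ℝ} (h : ⟪φ, φ⟫[H] = r) : cfnorm H φ = r := by
  rw [cfdot_self] at h; exact_mod_cast h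

theorem cfnorm_eq_one_iff : cfnorm H φ = 1 ↔ ⟪φ, φ⟫[H] = 1 := by
  rw [cfdot_self]; exact_mod_cast Iff.rfl

theorem cfnorm_ge0 (φ : G → ℂ) : 0 ≤ cfnorm H φ :=
  mul_nonneg (by positivity) (Finset.sum_nonneg fun _ _ => by positivity)

theorem cfnorm_congr (h : ∀ x ∈ H, φ x = ψ x) : cfnorm H φ = cfnorm H ψ := by
  rw [cfnorm_eq_re, cfnorm_eq_re, cfdot_congr h h]

theorem cfnormE (hA : A ⊆ H) (hφ : φ ∈ suppOn A) :
    cfnorm H φ = (♯H : ℝ)⁻¹ * ∑ x ∈ elts A, ‖φ x‖ ^ 2 := by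
  rw [cfnorm, sum_elts_subset hA fun x _ hx => by rw [hφ x hx]; simp]

theorem eq_zero_of_cfnorm (h : cfnorm H φ = 0) {x : G} (hx : x ∈ H) : φ x = 0 := by
  rw [cfnorm, mul_eq_zero, inv_eq_zero, or_iff_right (cardR_pos H).ne',
    Finset.sum_eq_zero_iff_of_nonneg fun _ _ => by positivity] at h
  simpa using h x (by simpa using hx)

theorem cfnorm_eq0 (hφ : φ ∈ CF H) : cfnorm H φ = 0 ↔ φ = 0 :=
  ⟨fun h => cfun_ext hφ (zero_mem _) fun _ hx => eq_zero_of_cfnorm h hx, fun h => by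
    simp [h, cfnorm]⟩

theorem cfnorm_gt0 (hφ : φ ∈ CF H) (h : φ ≠ 0) : 0 < cfnorm H φ :=
  (cfnorm_ge0 φ).lt_of_ne fun h' => h ((cfnorm_eq0 hφ).1 h'.symm)

theorem cfdot_self_eq0 (hφ : φ ∈ CF H) : ⟪φ, φ⟫[H] = 0 ↔ φ = 0 := by
  rw [cfdot_self, Complex.ofReal_eq_zero, cfnorm_eq0 hφ]

theorem cfdot_self_ne_zero (hφ : φ ∈ CF H) (h : φ ≠ 0) : ⟪φ, φ⟫[H] ≠ 0 :=
  fun h' => h ((cfdot_self_eq0 hφ).1 h')

@[simp] theorem cfnorm0 : cfnorm H (0 : G → ℂ) = 0 := by simp [cfnorm]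
@[simp] theorem cfnormN (φ : G → ℂ) : cfnorm H (-φ) = cfnorm H φ := by simp [cfnorm]
@[simp] theorem cfnorm_conjC (φ : G → ℂ) : cfnorm H (star φ) = cfnorm H φ := by simp [cfnorm]
@[simp] theorem cfnorm1 (H : Subgroup G) : cfnorm H (cf1 H) = 1 := cfnorm_eq_one_iff.2 (cfdot_cf1 H)

theorem cfnormZ (c : ℂ) (φ : G → ℂ) : cfnorm H (c • φ) = ‖c‖ ^ 2 * cfnorm H φ := by
  simp only [cfnorm, Pi.smul_apply, smul_eq_mul, norm_mul, mul_pow, ← Finset.mul_sum]; ring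

theorem cfnormMz (n : ℤ) (φ : G → ℂ) : cfnorm H (n • φ) = (n : ℝ) ^ 2 * cfnorm H φ := by
  rw [← Int.cast_smul_eq_zsmul ℂ, cfnormZ, Complex.norm_intCast, sq_abs]

theorem cfnormMn (n : ℕ) (φ : G → ℂ) : cfnorm H (n • φ) = (n : ℝ) ^ 2 * cfnorm H φ := by
  rw [← Nat.cast_smul_eq_nsmul ℂ, cfnormZ, Complex.norm_natCast]

theorem cfnormD (φ ψ : G → ℂ) :
    cfnorm H (φ + ψ) = cfnorm H φ + cfnorm H ψ + 2 * (⟪φ, ψ⟫[H]).re := by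
  simp only [cfnorm_eq_re, cfdotDl, cfdotDr, Complex.add_re]
  rw [cfdotC ψ φ, Complex.conj_re]; ring

theorem cfnormB (φ ψ : G → ℂ) :
    cfnorm H (φ - ψ) = cfnorm H φ + cfnorm H ψ - 2 * (⟪φ, ψ⟫[H]).re := by
  rw [sub_eq_add_neg, cfnormD, cfnormN, cfdotNr, Complex.neg_re]; ring

theorem cfnormDd (h : ⟪φ, ψ⟫[H] = 0) : cfnorm H (φ + ψ) = cfnorm H φ + cfnorm H ψ := by
  simp [cfnormD, h]

theorem cfnormBd (h : ⟪φ, ψ⟫[H] = 0) : cfnorm H (φ - ψ) = cfnorm H φ + cfnorm H ψ := by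
  simp [cfnormB, h]

theorem cfnorm_sub_comm (φ ψ : G → ℂ) : cfnorm H (φ - ψ) = cfnorm H (ψ - φ) := by
  rw [← cfnormN, neg_sub]

theorem cfnorm_sum_orth {ι : Type*} (s : Finset ι) (f : ι → G → ℂ)
    (h : ∀ i ∈ s, ∀ j ∈ s, i ≠ j → ⟪f i, f j⟫[H] = 0) :
    cfnorm H (∑ i ∈ s, f i) = ∑ i ∈ s, cfnorm H (f i) := by
  simp only [cfnorm_eq_re, cfdot_suml, cfdot_sumr, Complex.re_sum]
  refine Finset.sum_congr rfl fun i hi => Finset.sum_eq_single_of_mem i hi fun j hj hij => ?_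
  rw [h j hj i hi hij, Complex.zero_re]

theorem cfCauchySchwarz (φ ψ : G → ℂ) : ‖⟪φ, ψ⟫[H]‖ ^ 2 ≤ cfnorm H φ * cfnorm H ψ := by
  have h1 : ‖∑ x ∈ elts (H : Set G), φ x * conj (ψ x)‖ ≤
      ∑ x ∈ elts (H : Set G), ‖φ x‖ * ‖ψ x‖ :=
    (norm_sum_le _ _).trans (le_of_eq (by simp))
  have h2 := (pow_le_pow_left₀ (norm_nonneg _) h1 2).trans (Finset.sum_mul_sq_le_sq_mul_sq _ _ _)
  rw [cfdot, norm_mul, norm_inv, Complex.norm_natCast, mul_pow, cfnorm, cfnorm, mul_mul_mul_comm,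
    ← sq]
  exact mul_le_mul_of_nonneg_left h2 (by positivity)

/-- equality in the Cauchy-Schwarz inequality -/
theorem cfCauchySchwarz_eq (hφ : φ ∈ CF H) (hψ : ψ ∈ CF H) (h0 : ψ ≠ 0)
    (h : cfnorm H φ * cfnorm H ψ ≤ ‖⟪φ, ψ⟫[H]‖ ^ 2) :
    φ = (⟪φ, ψ⟫[H] / ⟪ψ, ψ⟫[H]) • ψ := by
  have h1 := cfnorm_gt0 hψ h0
  rw [← sub_eq_zero, ← cfnorm_eq0 (sub_mem hφ (Submodule.smul_mem _ _ hψ))]
  refine le_antisymm ?_ (cfnorm_ge0 _)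
  have h2 : (⟪φ, (⟪φ, ψ⟫[H] / ⟪ψ, ψ⟫[H]) • ψ⟫[H]).re = ‖⟪φ, ψ⟫[H]‖ ^ 2 / cfnorm H ψ := by
    rw [cfdotZr, cfdot_self, map_div₀, Complex.conj_ofReal, div_mul_eq_mul_div, Complex.conj_mul',
      ← Complex.ofReal_pow, ← Complex.ofReal_div, Complex.ofReal_re]
  rw [cfnormB, h2, cfnormZ, cfdot_self, norm_div, Complex.norm_real, Real.norm_of_nonneg h1.le]
  have h3 : cfnorm H φ ≤ ‖⟪φ, ψ⟫[H]‖ ^ 2 / cfnorm H ψ := (le_div_iff₀ h1).2 h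
  have h4 : (‖⟪φ, ψ⟫[H]‖ / cfnorm H ψ) ^ 2 * cfnorm H ψ = ‖⟪φ, ψ⟫[H]‖ ^ 2 / cfnorm H ψ := by
    field_simp
  rw [h4]; linarith

theorem sum_norm_sq_le (hA : A ⊆ H) (φ : G → ℂ) :
    (♯H : ℝ)⁻¹ * ∑ x ∈ elts A, ‖φ x‖ ^ 2 ≤ cfnorm H φ :=
  mul_le_mul_of_nonneg_left (Finset.sum_le_sum_of_subset_of_nonneg
    (fun x hx => by simpa using hA (by simpa using hx)) fun _ _ _ => by positivity) (by positivity)

/-! ### restriction -/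

theorem cfResE (φ : G → ℂ) {x : G} (hx : x ∈ H) : cfRes H φ x = φ x := Set.indicator_of_mem hx _

theorem cfRes_of_not_mem (φ : G → ℂ) {x : G} (hx : x ∉ H) : cfRes H φ x = 0 :=
  Set.indicator_of_notMem hx _

@[simp] theorem cfRes1 (φ : G → ℂ) : cfRes H φ 1 = φ 1 := cfResE φ H.one_mem

theorem cfRes_mem_suppOn (φ : G → ℂ) : cfRes H φ ∈ suppOn (H : Set G) :=
  fun _ => cfRes_of_not_mem φ

theorem cfRes_mem_CF (h : H ≤ K) (hφ : φ ∈ CF K) : cfRes H φ ∈ CF H :=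
  mem_CF_of (fun _ => cfRes_of_not_mem φ) fun _ hg _ hx => by
    rw [cfResE φ hx, cfResE φ (H.mul_mem (H.mul_mem hg hx) (inv_mem hg)), cfunJ hφ (h hg)]

theorem cfRes_suppOn (hφ : φ ∈ suppOn A) : cfRes H φ ∈ suppOn A := fun x hx => by
  by_cases h : x ∈ H
  · rw [cfResE φ h, hφ x hx]
  · exact cfRes_of_not_mem φ h

theorem cfRes_mem_CFon (h : H ≤ K) (hφ : φ ∈ CFon K A) : cfRes H φ ∈ CFon H A :=
  ⟨cfRes_mem_CF h hφ.1, cfRes_suppOn hφ.2⟩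

theorem cfRes_of_suppOn (hφ : φ ∈ suppOn (H : Set G)) : cfRes H φ = φ := by
  ext x
  by_cases hx : x ∈ H
  · exact cfResE φ hx
  · rw [cfRes_of_not_mem φ hx, hφ x hx]

theorem cfRes_id (hφ : φ ∈ CF H) : cfRes H φ = φ := cfRes_of_suppOn hφ.1

theorem cfResRes (h : H ≤ K) (φ : G → ℂ) : cfRes H (cfRes K φ) = cfRes H φ := by
  ext x
  by_cases hx : x ∈ H
  · rw [cfResE _ hx, cfResE _ hx, cfResE _ (h hx)]
  · rw [cfRes_of_not_mem _ hx, cfRes_of_not_mem _ hx]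

theorem cfRes_ext (h : ∀ x ∈ H, φ x = ψ x) : cfRes H φ = cfRes H ψ := by
  ext x
  by_cases hx : x ∈ H
  · rw [cfResE _ hx, cfResE _ hx, h x hx]
  · rw [cfRes_of_not_mem _ hx, cfRes_of_not_mem _ hx]

theorem cfRes_cf1 (h : H ≤ K) : cfRes H (cf1 K) = cf1 H :=
  (cfRes_ext fun _ hx => by rw [cf1E hx, cf1E (h hx)]).trans (cfRes_id (cf1_mem_CF H))

theorem cfRes_mul (φ ψ : G → ℂ) : cfRes H (φ * ψ) = cfRes H φ * cfRes H ψ := by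
  ext x
  by_cases hx : x ∈ H
  · simp [cfResE _ hx]
  · simp [cfRes_of_not_mem _ hx]

theorem cfRes_star (φ : G → ℂ) : cfRes H (star φ) = star (cfRes H φ) := by
  ext x
  by_cases hx : x ∈ H
  · simp [cfResE _ hx]
  · simp [cfRes_of_not_mem _ hx]

@[simp] theorem cfdot_cfRes_left (φ ψ : G → ℂ) : ⟪cfRes H φ, ψ⟫[H] = ⟪φ, ψ⟫[H] :=
  cfdot_congr (fun _ => cfResE φ) fun _ _ => rfl

@[simp] theorem cfdot_cfRes_right (φ ψ : G → ℂ) : ⟪φ, cfRes H ψ⟫[H] = ⟪φ, ψ⟫[H] :=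
  cfdot_congr (fun _ _ => rfl) fun _ => cfResE ψ

@[simp] theorem cfnorm_cfRes (φ : G → ℂ) : cfnorm H (cfRes H φ) = cfnorm H φ :=
  cfnorm_congr fun _ => cfResE φ

/-- the inner product over `K` of functions supported on the subgroup `H` -/
theorem cfdot_of_suppOn (h : H ≤ K) (hφ : φ ∈ suppOn (H : Set G)) (ψ : G → ℂ) :
    (H.relIndex K : ℂ) * ⟪φ, ψ⟫[K] = ⟪φ, ψ⟫[H] := by
  rw [cfdotEl h hφ, cfdot, ← card_mul_relIndexC h, ← mul_assoc]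
  have := relIndexC_ne_zero H K
  congr 1
  field_simp

theorem cfnorm_Res_le (h : H ≤ K) (φ : G → ℂ) : cfnorm H φ ≤ H.relIndex K * cfnorm K φ := by
  refine le_trans (le_of_eq ?_) (mul_le_mul_of_nonneg_left (sum_norm_sq_le h φ) (by positivity))
  have h1 : (♯K : ℝ) = ♯H * H.relIndex K := by exact_mod_cast (Core.card_mul_relIndex_of_le h).symm
  have h2 : (H.relIndex K : ℝ) ≠ 0 := by exact_mod_cast (relIndex_pos H K).ne'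
  rw [cfnorm, h1, ← mul_assoc]
  congr 1
  field_simp

end Cfsg.Agent.OO
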