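import Mathlib
import Cfsg.Agent.Lib.OO.CF0

/-!
# CF1: induction, conjugation, field automorphisms, kernels, orthogonal sets
(function level; mathcomp `classfun.v`, second half)
-/

set_option autoImplicit false
set_option linter.unusedSectionVars false

namespace Cfsg.Agent.OO

open Subgroup
open scoped Pointwise ComplexConjugate

universe u

variable {G : Type u} [Group G] [Finite G] {H K L : Subgroup G} {φ ψ θ : G → ℂ} {A B : Set G}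

/-! ### induction -/

theorem cfIndE (H : Subgroup G) (φ : G → ℂ) {g : G} (hg : g ∈ K) :
    cfInd K H φ g = (♯H : ℂ)⁻¹ * ∑ x ∈ elts (K : Set G), φ (x⁻¹ * g * x) := if_pos hg

theorem cfIndE' (H : Subgroup G) (φ : G → ℂ) {g : G} (hg : g ∈ K) :
    cfInd K H φ g = (♯H : ℂ)⁻¹ * ∑ x ∈ elts (K : Set G), φ (x * g * x⁻¹) := by
  rw [cfIndE H φ hg, ← sum_elts_inv]; simp

theorem cfInd_of_not_mem (H : Subgroup G) (φ : G → ℂ) {g : G} (hg : g ∉ K) :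
    cfInd K H φ g = 0 := if_neg hg

theorem cfInd_mem_CF (K H : Subgroup G) (φ : G → ℂ) : cfInd K H φ ∈ CF K :=
  mem_CF_of (fun _ => cfInd_of_not_mem H φ) fun h hh x hx => by
    rw [cfIndE H φ hx, cfIndE H φ (K.mul_mem (K.mul_mem hh hx) (inv_mem hh)),
      ← sum_elts_mul_left hh]
    simp [mul_assoc]

theorem cfInd1 (h : H ≤ K) (φ : G → ℂ) : cfInd K H φ 1 = H.relIndex K * φ 1 := by
  rw [cfIndE H φ K.one_mem]
  simp only [mul_one, inv_mul_cancel, sum_elts_const, nsmul_eq_mul]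
  rw [← card_mul_relIndexC h, mul_assoc, inv_mul_cancel_left₀ (cardC_ne_zero H)]

theorem cfInd_eq_zero (H : Subgroup G) {g : G} (h : ∀ x ∈ K, φ (x⁻¹ * g * x) = 0) :
    cfInd K H φ g = 0 := by
  by_cases hg : g ∈ K
  · rw [cfIndE H φ hg, Finset.sum_eq_zero fun x hx => h x (by simpa using hx), mul_zero]
  · exact cfInd_of_not_mem H φ hg

omit [Finite G] in
theorem mem_classSupp {y : G} : y ∈ classSupp A K ↔ ∃ a ∈ A, ∃ g ∈ K, y = g * a * g⁻¹ := Iff.rfl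

/-- `cfInd_on` -/
theorem cfInd_suppOn (K H : Subgroup G) (hφ : φ ∈ suppOn A) :
    cfInd K H φ ∈ suppOn (classSupp A K) := fun g hg =>
  cfInd_eq_zero H fun x hx => hφ _ fun h => hg ⟨_, h, x, hx, by group⟩

theorem cfInd_on (K H : Subgroup G) (hφ : φ ∈ suppOn A) :
    cfInd K H φ ∈ CFon K (classSupp A K) := ⟨cfInd_mem_CF K H φ, cfInd_suppOn K H hφ⟩

theorem cfInd_on_of_conj (H : Subgroup G) (hA : ∀ g ∈ K, ∀ a ∈ A, g * a * g⁻¹ ∈ A)
    (hφ : φ ∈ suppOn A) : cfInd K H φ ∈ CFon K A :=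
  CFon_mono K (by rintro _ ⟨a, ha, g, hg, rfl⟩; exact hA g hg a ha) (cfInd_on K H hφ)

/-- `cfInd_normal` -/
theorem cfInd_normal (hn : K ≤ 𝐍(H)) (hφ : φ ∈ suppOn (H : Set G)) :
    cfInd K H φ ∈ CFon K (H : Set G) :=
  cfInd_on_of_conj H (fun _ hg a ha => (mem_normalizer_iff.1 (hn hg) a).1 ha) hφ

theorem cfInd_id (hφ : φ ∈ CF H) : cfInd H H φ = φ :=
  cfun_ext (cfInd_mem_CF H H φ) hφ fun x hx => by
    rw [cfIndE H φ hx, Finset.sum_congr rfl fun y hy => cfunJ' hφ (by simpa using hy) x,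
      sum_elts_const, nsmul_eq_mul, inv_mul_cancel_left₀ (cardC_ne_zero H)]

/-- Frobenius reciprocity -/
theorem cfdot_cfInd_left (h : H ≤ K) (hφ : φ ∈ suppOn (H : Set G)) (hψ : ψ ∈ CF K) :
    ⟪cfInd K H φ, ψ⟫[K] = ⟪φ, ψ⟫[H] := by
  have h1 : ∀ x ∈ elts (K : Set G), ∑ g ∈ elts (K : Set G), φ (x⁻¹ * g * x) * conj (ψ g) =
      ∑ g ∈ elts (H : Set G), φ g * conj (ψ g) := fun x hx => by
    have hx : x ∈ K := by simpa using hx
    rw [sum_elts_subset h fun y _ hy => by rw [hφ y hy, zero_mul],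
      ← sum_elts_conj' (le_normalizer hx) (fun g => φ g * conj (ψ g))]
    simp only [cfunJ' hψ hx]
  rw [cfdot, Finset.sum_congr rfl fun g hg => by rw [cfIndE H φ (by simpa using hg)]]
  simp only [mul_assoc _ (∑ _ ∈ _, _), ← Finset.mul_sum, Finset.sum_mul]
  rw [Finset.sum_comm, Finset.sum_congr rfl h1, sum_elts_const, nsmul_eq_mul, mul_left_comm,
    inv_mul_cancel_left₀ (cardC_ne_zero K), cfdot]

theorem cfdot_cfInd_right (h : H ≤ K) (hψ : ψ ∈ CF K) (hφ : φ ∈ suppOn (H : Set G)) :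
    ⟪ψ, cfInd K H φ⟫[K] = ⟪ψ, φ⟫[H] := by
  rw [cfdotC, cfdot_cfInd_left h hφ hψ, conj_cfdot]

/-- Frobenius reciprocity, mathcomp form -/
theorem Frobenius_reciprocity (h : H ≤ K) (hφ : φ ∈ CF H) (hψ : ψ ∈ CF K) :
    ⟪φ, cfRes H ψ⟫[H] = ⟪cfInd K H φ, ψ⟫[K] := by
  rw [cfdot_cfInd_left h hφ.1 hψ, cfdot_cfRes_right]

theorem cfdot_Res_l (h : H ≤ K) (hψ : ψ ∈ CF K) (hφ : φ ∈ CF H) :
    ⟪cfRes H ψ, φ⟫[H] = ⟪ψ, cfInd K H φ⟫[K] := by
  rw [cfdot_cfInd_right h hψ hφ.1, cfdot_cfRes_left]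

theorem cfIndInd (h : K ≤ L) (H : Subgroup G) (hφ : φ ∈ suppOn (K : Set G)) :
    cfInd L K (cfInd K H φ) = cfInd L H φ := by
  refine cfun_ext (cfInd_mem_CF _ _ _) (cfInd_mem_CF _ _ _) fun g hg => ?_
  have h1 : ∀ y, cfInd K H φ y = (♯H : ℂ)⁻¹ * ∑ x ∈ elts (K : Set G), φ (x⁻¹ * y * x) := fun y => by
    by_cases hy : y ∈ K
    · exact cfIndE H φ hy
    · rw [cfInd_of_not_mem H φ hy, Finset.sum_eq_zero, mul_zero]
      intro x hx
      have hx : x ∈ K := by simpa using hx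
      exact hφ _ (by rwa [SetLike.mem_coe, K.mul_mem_cancel_right hx,
        K.mul_mem_cancel_left (inv_mem hx)])
  have h2 : ∀ x ∈ elts (K : Set G), ∑ y ∈ elts (L : Set G), φ (x⁻¹ * (y⁻¹ * g * y) * x) =
      ∑ y ∈ elts (L : Set G), φ (y⁻¹ * g * y) := fun x hx => by
    rw [← sum_elts_mul_right (h (by simpa using hx) : x ∈ L) (fun y => φ (y⁻¹ * g * y))]
    simp [mul_assoc]
  rw [cfIndE K _ hg, cfIndE H _ hg]
  simp only [h1, ← Finset.mul_sum]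
  rw [Finset.sum_comm, Finset.sum_congr rfl h2, sum_elts_const, nsmul_eq_mul, mul_left_comm,
    inv_mul_cancel_left₀ (cardC_ne_zero K)]

theorem cfIndInd' (hH : H ≤ K) (h : K ≤ L) (hφ : φ ∈ CF H) :
    cfInd L K (cfInd K H φ) = cfInd L H φ := cfIndInd h H (suppOn_mono hH hφ.1)

theorem cfInd_mul (H : Subgroup G) (φ : G → ℂ) (hψ : ψ ∈ CF K) :
    cfInd K H (φ * ψ) = cfInd K H φ * ψ :=
  cfun_ext (cfInd_mem_CF _ _ _) (mul_mem_CF (cfInd_mem_CF _ _ _) hψ) fun g hg => by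
    rw [Pi.mul_apply, cfIndE H _ hg, cfIndE H _ hg, mul_assoc, Finset.sum_mul]
    congr 1
    exact Finset.sum_congr rfl fun x hx => by rw [Pi.mul_apply, cfunJ' hψ (by simpa using hx)]

/-- `cfIndM` -/
theorem cfIndM (hφ : φ ∈ suppOn (H : Set G)) (hψ : ψ ∈ CF K) :
    cfInd K H (φ * cfRes H ψ) = cfInd K H φ * ψ := by
  rw [← cfInd_mul H φ hψ]
  congr 1
  ext x
  by_cases hx : x ∈ H
  · simp [cfResE ψ hx]
  · simp [hφ x hx]

theorem cfIndRes (hψ : ψ ∈ CF K) : cfInd K H (cfRes H ψ) = cfInd K H (cf1 H) * ψ := by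
  rw [← cfIndM (cf1_mem_CF H).1 hψ]
  congr 1
  ext x
  by_cases hx : x ∈ H
  · simp [cf1E hx]
  · simp [cfRes_of_not_mem ψ hx]

theorem cfInd_star (K H : Subgroup G) (φ : G → ℂ) : cfInd K H (star φ) = star (cfInd K H φ) := by
  ext g
  by_cases hg : g ∈ K
  · simp [cfIndE H _ hg]
  · simp [cfInd_of_not_mem H _ hg]

theorem cfInd_cfun1 (h : H ⊴ K) : cfInd K H (cf1 H) = (H.relIndex K : ℂ) • cf1 H :=
  cfun_ext (cfInd_mem_CF _ _ _) (Submodule.smul_mem _ _ (cf1_mem_CF_of_normal h)) fun g hg => by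
    rw [cfIndE H _ hg, Finset.sum_congr rfl fun x hx =>
      cfunJ' (cf1_mem_CF_of_normal h) (by simpa using hx) g, sum_elts_const, nsmul_eq_mul,
      ← card_mul_relIndexC h.1, mul_assoc, inv_mul_cancel_left₀ (cardC_ne_zero H)]
    rfl

/-- a class function of `K` supported on `H ≤ K` -/
theorem cfInd_of_mem_CF (h : H ≤ K) (hφ : φ ∈ CF K) : cfInd K H φ = (H.relIndex K : ℂ) • φ :=
  cfun_ext (cfInd_mem_CF _ _ _) (Submodule.smul_mem _ _ hφ) fun g hg => by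
    rw [cfIndE H _ hg, Finset.sum_congr rfl fun x hx => cfunJ' hφ (by simpa using hx) g,
      sum_elts_const, nsmul_eq_mul, ← card_mul_relIndexC h, mul_assoc,
      inv_mul_cancel_left₀ (cardC_ne_zero H)]
    rfl

/-- value of an induced function at a point of a TI-like set -/
theorem cfInd_eq_self (h : H ≤ K) (hφ : φ ∈ CF H) {g : G} (hg : g ∈ K)
    (h0 : ∀ x ∈ K, x ∉ H → φ (x⁻¹ * g * x) = 0) : cfInd K H φ g = φ g := by
  rw [cfIndE H φ hg, ← sum_elts_subset h h0,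
    Finset.sum_congr rfl fun x hx => cfunJ' hφ (by simpa using hx) g, sum_elts_const,
    nsmul_eq_mul, inv_mul_cancel_left₀ (cardC_ne_zero H)]

/-- `normedTI_Ind_id` -/
theorem normedTI_Ind_id {Γ : Subgroup G} (hTI : NormedTI A Γ L) (hφ : φ ∈ CFon L A) {a : G}
    (ha : a ∈ A) (haΓ : a ∈ Γ) : cfInd Γ L φ a = φ a :=
  cfInd_eq_self hTI.le hφ.1 haΓ fun x hx hxL => hφ.2 _ fun h =>
    hxL (inv_mem_iff.1 (hTI.mem_of_conj x⁻¹ (inv_mem hx) a ha (by simpa using h)))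

/-- `normedTI_isometry` -/
theorem normedTI_isometry {Γ : Subgroup G} (hTI : NormedTI A Γ L) (hφ : φ ∈ CFon L A)
    (hψ : ψ ∈ CFon L A) : ⟪cfInd Γ L φ, cfInd Γ L ψ⟫[Γ] = ⟪φ, ψ⟫[L] := by
  rw [cfdot_cfInd_left hTI.le hφ.1.1 (cfInd_mem_CF _ _ _), cfdot, cfdot]
  congr 1
  refine Finset.sum_congr rfl fun x hx => ?_
  by_cases hxA : x ∈ A
  · rw [normedTI_Ind_id hTI hψ hxA (hTI.le (by simpa using hx))]
  · rw [hφ.2 x hxA, zero_mul, zero_mul]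

/-- restriction to `H` of a function induced from `H ⊓ K` to `K` when `L = H K`-like:
`Res_H Ind_K^L φ = Ind_{H ⊓ K}^H Res φ` if `L = H K` -/
theorem cfResInd_of_prod (hH : H ≤ L) (hK : K ≤ L) (hprod : ∀ g ∈ L, ∃ h ∈ H, ∃ k ∈ K, g = h * k)
    (hφ : φ ∈ CF K) : cfRes H (cfInd L K φ) = cfInd H (H ⊓ K) (cfRes (H ⊓ K) φ) := by
  classical
  refine cfun_ext (cfRes_mem_CF hH (cfInd_mem_CF _ _ _)) (cfInd_mem_CF _ _ _) fun g hg => ?_
  have h1 : ∑ p ∈ elts (H : Set G) ×ˢ elts (K : Set G), φ ((p.1 * p.2)⁻¹ * g * (p.1 * p.2)) =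
      ♯(H ⊓ K) • ∑ x ∈ elts (L : Set G), φ (x⁻¹ * g * x) := by
    rw [← Finset.sum_fiberwise_of_maps_to (g := fun p : G × G => p.1 * p.2) (t := elts (L : Set G))
      (fun p hp => by
        simp only [Finset.mem_product, mem_elts, SetLike.mem_coe] at hp ⊢
        exact L.mul_mem (hH hp.1) (hK hp.2)), Finset.smul_sum]
    refine Finset.sum_congr rfl fun x hx => ?_
    rw [Finset.sum_congr rfl fun p hp => by rw [(Finset.mem_filter.1 hp).2], Finset.sum_const]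
    congr 1
    obtain ⟨h, hh, k, hk, rfl⟩ := hprod x (by simpa using hx)
    rw [← card_elts]
    symm
    refine Finset.card_bij (fun y _ => (h * y, y⁻¹ * k)) (fun y hy => ?_)
      (fun y _ z _ e => by simpa using congrArg Prod.fst e) fun p hp => ?_
    · have hy : y ∈ H ⊓ K := by simpa using hy
      simp [H.mul_mem hh hy.1, K.mul_mem (inv_mem hy.2) hk, mul_assoc]
    · simp only [Finset.mem_filter, Finset.mem_product, mem_elts, SetLike.mem_coe] at hp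
      have e : h⁻¹ * p.1 = k * p.2⁻¹ := by
        rw [inv_mul_eq_iff_eq_mul, ← mul_assoc, ← hp.2, mul_inv_cancel_right]
      refine ⟨h⁻¹ * p.1, by
        simpa using ⟨H.mul_mem (inv_mem hh) hp.1.1, e ▸ K.mul_mem hk (inv_mem hp.1.2)⟩, ?_⟩
      ext
      · simp
      · simp [e]
  have h2 : ∑ p ∈ elts (H : Set G) ×ˢ elts (K : Set G), φ ((p.1 * p.2)⁻¹ * g * (p.1 * p.2)) =
      ♯K • ∑ x ∈ elts (H : Set G), cfRes (H ⊓ K) φ (x⁻¹ * g * x) := by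
    rw [Finset.sum_product, Finset.smul_sum]
    refine Finset.sum_congr rfl fun x hx => ?_
    have hx : x ∈ H := by simpa using hx
    rw [← sum_elts_const]
    refine Finset.sum_congr rfl fun k hk => ?_
    have h3 := cfunJ' hφ (by simpa using hk : k ∈ K) (x⁻¹ * g * x)
    rw [show (x * k)⁻¹ * g * (x * k) = k⁻¹ * (x⁻¹ * g * x) * k by group, h3]
    by_cases h4 : x⁻¹ * g * x ∈ K
    · rw [cfResE (H := H ⊓ K) _ ⟨H.mul_mem (H.mul_mem (inv_mem hx) hg) hx, h4⟩]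
    · rw [cfRes_of_not_mem (H := H ⊓ K) _ fun h => h4 h.2, cfun0 hφ h4]
  rw [cfResE _ hg, cfIndE K φ (hH hg), cfIndE _ _ hg]
  rw [h2, nsmul_eq_mul, nsmul_eq_mul] at h1
  have := cardC_ne_zero K
  have := cardC_ne_zero (H ⊓ K)
  field_simp
  rw [h1, mul_comm]

/-! ### conjugation -/

omit [Finite G] in
theorem cfConjgE (g : G) (φ : G → ℂ) (x : G) : cfConjg g φ x = φ (g⁻¹ * x * g) := rfl

omit [Finite G] in
theorem cfConjgEJ (g : G) (φ : G → ℂ) (x : G) : cfConjg g φ (g * x * g⁻¹) = φ x := by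
  simp [cfConjg, mul_assoc]

omit [Finite G] in
@[simp] theorem cfConjg1 (g : G) (φ : G → ℂ) : cfConjg g φ 1 = φ 1 := by simp [cfConjg]

omit [Finite G] in
@[simp] theorem cfConjg_one (φ : G → ℂ) : cfConjg 1 φ = φ := by ext; simp [cfConjg]

omit [Finite G] in
theorem cfConjgM (g h : G) (φ : G → ℂ) : cfConjg (g * h) φ = cfConjg g (cfConjg h φ) := by
  ext; simp [cfConjg, mul_assoc]

omit [Finite G] in
@[simp] theorem cfConjgK (g : G) (φ : G → ℂ) : cfConjg g⁻¹ (cfConjg g φ) = φ := by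
  rw [← cfConjgM]; simp

omit [Finite G] in
@[simp] theorem cfConjgKV (g : G) (φ : G → ℂ) : cfConjg g (cfConjg g⁻¹ φ) = φ := by
  rw [← cfConjgM]; simp

omit [Finite G] in
theorem cfConjg_inj (g : G) : Function.Injective (cfConjg g : (G → ℂ) → G → ℂ) :=
  Function.LeftInverse.injective (cfConjgK g)

/-- conjugation as an algebra homomorphism -/
def cfConjgL (g : G) : (G → ℂ) →ₐ[ℂ] (G → ℂ) where
  toFun := cfConjg g
  map_one' := rfl
  map_mul' _ _ := rfl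
  map_zero' := rfl
  map_add' _ _ := rfl
  commutes' _ := rfl

section
omit [Finite G]
@[simp] theorem cfConjg_zero (g : G) : cfConjg g (0 : G → ℂ) = 0 := rfl
theorem cfConjg_add (g : G) (φ ψ : G → ℂ) : cfConjg g (φ + ψ) = cfConjg g φ + cfConjg g ψ := rfl
theorem cfConjg_sub (g : G) (φ ψ : G → ℂ) : cfConjg g (φ - ψ) = cfConjg g φ - cfConjg g ψ := rfl
theorem cfConjg_neg (g : G) (φ : G → ℂ) : cfConjg g (-φ) = -cfConjg g φ := rfl
theorem cfConjg_mul (g : G) (φ ψ : G → ℂ) : cfConjg g (φ * ψ) = cfConjg g φ * cfConjg g ψ := rfl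
theorem cfConjg_smul (g : G) (c : ℂ) (φ : G → ℂ) : cfConjg g (c • φ) = c • cfConjg g φ := rfl
theorem cfConjg_nsmul (g : G) (c : ℕ) (φ : G → ℂ) : cfConjg g (c • φ) = c • cfConjg g φ := rfl
theorem cfConjg_zsmul (g : G) (c : ℤ) (φ : G → ℂ) : cfConjg g (c • φ) = c • cfConjg g φ := rfl
theorem cfConjg_pow (g : G) (φ : G → ℂ) (n : ℕ) : cfConjg g (φ ^ n) = cfConjg g φ ^ n := rfl
theorem cfConjg_star (g : G) (φ : G → ℂ) : cfConjg g (star φ) = star (cfConjg g φ) := rfl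
theorem cfConjg_cfAut (g : G) (u : ℂ ≃+* ℂ) (φ : G → ℂ) :
    cfConjg g (cfAut u φ) = cfAut u (cfConjg g φ) := rfl
theorem cfConjg_sum {ι : Type*} (g : G) (s : Finset ι) (f : ι → G → ℂ) :
    cfConjg g (∑ i ∈ s, f i) = ∑ i ∈ s, cfConjg g (f i) := map_sum (cfConjgL g) f s
end

theorem cfConjg_id (hφ : φ ∈ CF H) {g : G} (hg : g ∈ H) : cfConjg g φ = φ :=
  funext fun x => cfunJ' hφ hg x

theorem cfConjg_mem_CF_conj (g : G) (hφ : φ ∈ CF H) : cfConjg g φ ∈ CF (g •ᶜ H) :=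
  ⟨fun x hx => cfun0 hφ (by rwa [mem_conj_smul] at hx), fun h hh x => by
    rw [cfConjgE, cfConjgE, ← cfunJ hφ (mem_conj_smul.1 hh) (g⁻¹ * x * g)]
    congr 1; group⟩

omit [Finite G] in
theorem conj_smul_eq_of_mem_normalizer {g : G} (hg : g ∈ 𝐍(H)) : g •ᶜ H = H := by
  ext x
  rw [mem_conj_smul]
  simpa using (mem_normalizer_iff.1 (inv_mem hg) x).symm

theorem cfConjg_mem_CF {g : G} (hg : g ∈ 𝐍(H)) (hφ : φ ∈ CF H) : cfConjg g φ ∈ CF H := by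
  simpa [conj_smul_eq_of_mem_normalizer hg] using cfConjg_mem_CF_conj g hφ

theorem cfdot_cfConjg_conj (g : G) (φ ψ : G → ℂ) :
    ⟪cfConjg g φ, cfConjg g ψ⟫[g •ᶜ H] = ⟪φ, ψ⟫[H] := by
  rw [cfdot, cfdot, card_conj_smul]
  congr 1
  exact sum_elts_equiv (MulAut.conj g).symm.toEquiv (fun _ => mem_conj_smul)
    fun x => φ x * conj (ψ x)

/-- `cfConjg_iso` -/
theorem cfdot_cfConjg {g : G} (hg : g ∈ 𝐍(H)) (φ ψ : G → ℂ) :
    ⟪cfConjg g φ, cfConjg g ψ⟫[H] = ⟪φ, ψ⟫[H] := by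
  simpa [conj_smul_eq_of_mem_normalizer hg] using cfdot_cfConjg_conj (H := H) g φ ψ

theorem cfdot_cfConjg_left {g : G} (hg : g ∈ 𝐍(H)) (φ ψ : G → ℂ) :
    ⟪cfConjg g φ, ψ⟫[H] = ⟪φ, cfConjg g⁻¹ ψ⟫[H] := by
  rw [← cfdot_cfConjg hg φ, cfConjgKV]

theorem cfnorm_cfConjg {g : G} (hg : g ∈ 𝐍(H)) (φ : G → ℂ) :
    cfnorm H (cfConjg g φ) = cfnorm H φ := by
  rw [cfnorm_eq_re, cfnorm_eq_re, cfdot_cfConjg hg]

theorem cfConjg_cf1_conj (g : G) (H : Subgroup G) : cfConjg g (cf1 H) = cf1 (g •ᶜ H) :=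
  cfun_ext (cfConjg_mem_CF_conj g (cf1_mem_CF H)) (cf1_mem_CF _) fun _ hx => by
    rw [cfConjgE, cf1E hx, cf1E (mem_conj_smul.1 hx)]

theorem cfConjg_cf1 {g : G} (hg : g ∈ 𝐍(H)) : cfConjg g (cf1 H) = cf1 H := by
  rw [cfConjg_cf1_conj, conj_smul_eq_of_mem_normalizer hg]

theorem cfConjg_cfRes_conj (g : G) (φ : G → ℂ) :
    cfConjg g (cfRes H φ) = cfRes (g •ᶜ H) (cfConjg g φ) := by
  ext x
  by_cases hx : x ∈ g •ᶜ H
  · rw [cfResE _ hx, cfConjgE, cfResE _ (mem_conj_smul.1 hx), cfConjgE]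
  · rw [cfRes_of_not_mem _ hx, cfConjgE, cfRes_of_not_mem _ (by rwa [mem_conj_smul] at hx)]

/-- `cfConjgRes_norm` -/
theorem cfConjg_cfRes {g : G} (hg : g ∈ 𝐍(H)) (φ : G → ℂ) :
    cfConjg g (cfRes H φ) = cfRes H (cfConjg g φ) := by
  rw [cfConjg_cfRes_conj, conj_smul_eq_of_mem_normalizer hg]

theorem cfConjg_cfRes_of_mem (hψ : ψ ∈ CF K) {g : G} (hgK : g ∈ K) (hg : g ∈ 𝐍(H)) :
    cfConjg g (cfRes H ψ) = cfRes H ψ := by rw [cfConjg_cfRes hg, cfConjg_id hψ hgK]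

theorem cfConjg_cfInd_conj (g : G) (K H : Subgroup G) (φ : G → ℂ) :
    cfConjg g (cfInd K H φ) = cfInd (g •ᶜ K) (g •ᶜ H) (cfConjg g φ) := by
  refine cfun_ext (cfConjg_mem_CF_conj g (cfInd_mem_CF _ _ _)) (cfInd_mem_CF _ _ _) fun x hx => ?_
  rw [cfConjgE, cfIndE _ _ hx, cfIndE _ _ (mem_conj_smul.1 hx), card_conj_smul]
  congr 1
  rw [← sum_elts_equiv (A := (g •ᶜ K : Subgroup G)) (B := K) (MulAut.conj g).symm.toEquiv
    (fun _ => mem_conj_smul)]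
  simp [cfConjgE, mul_assoc]

/-- `cfConjgInd_norm` -/
theorem cfConjg_cfInd {g : G} (hK : g ∈ 𝐍(K)) (hH : g ∈ 𝐍(H)) (φ : G → ℂ) :
    cfConjg g (cfInd K H φ) = cfInd K H (cfConjg g φ) := by
  rw [cfConjg_cfInd_conj, conj_smul_eq_of_mem_normalizer hK, conj_smul_eq_of_mem_normalizer hH]

/-- `cfInd` of a `K`-conjugate -/
theorem cfInd_cfConjg (H : Subgroup G) {g : G} (hg : g ∈ K) (φ : G → ℂ) :
    cfInd K H (cfConjg g φ) = cfInd K H φ :=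
  cfun_ext (cfInd_mem_CF _ _ _) (cfInd_mem_CF _ _ _) fun x hx => by
    rw [cfIndE _ _ hx, cfIndE _ _ hx, ← sum_elts_mul_right hg (fun y => φ (y⁻¹ * x * y))]
    simp [cfConjgE, mul_assoc]

theorem cfInd_cfConjg_conj (H : Subgroup G) {g : G} (hg : g ∈ K) (φ : G → ℂ) :
    cfInd K (g •ᶜ H) (cfConjg g φ) = cfInd K H φ := by
  rw [← cfInd_cfConjg H hg]
  ext x
  by_cases hx : x ∈ K
  · rw [cfIndE _ _ hx, cfIndE _ _ hx, card_conj_smul]
  · rw [cfInd_of_not_mem _ _ hx, cfInd_of_not_mem _ _ hx]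

/-- `cfResInd` -/
theorem cfResInd (h : H ≤ K) (φ : G → ℂ) (hφ : φ ∈ suppOn (H : Set G)) (hn : K ≤ 𝐍(H)) :
    cfRes H (cfInd K H φ) = (♯H : ℂ)⁻¹ • ∑ g ∈ elts (K : Set G), cfConjg g φ := by
  ext x
  simp only [Pi.smul_apply, Finset.sum_apply, smul_eq_mul, cfConjgE]
  by_cases hx : x ∈ H
  · rw [cfResE _ hx, cfIndE _ _ (h hx)]
  · rw [cfRes_of_not_mem _ hx, Finset.sum_eq_zero, mul_zero]
    intro g hg
    exact hφ _ fun h' => hx ((mem_normalizer_iff.1 (inv_mem (hn (by simpa using hg))) x).2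
      (by simpa using h'))

/-! ### field automorphisms -/

section
omit [Group G] [Finite G]

theorem cfAutE (u : ℂ ≃+* ℂ) (φ : G → ℂ) (x : G) : cfAut u φ x = u (φ x) := rfl

/-- `cfAut u` as a ring homomorphism -/
def cfAutR (u : ℂ ≃+* ℂ) : (G → ℂ) →+* (G → ℂ) := (u : ℂ →+* ℂ).compLeft G

@[simp] theorem cfAut_zero (u : ℂ ≃+* ℂ) : cfAut u (0 : G → ℂ) = 0 := map_zero (cfAutR u)
theorem cfAut_add (u : ℂ ≃+* ℂ) (φ ψ : G → ℂ) : cfAut u (φ + ψ) = cfAut u φ + cfAut u ψ :=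
  map_add (cfAutR u) φ ψ
theorem cfAut_sub (u : ℂ ≃+* ℂ) (φ ψ : G → ℂ) : cfAut u (φ - ψ) = cfAut u φ - cfAut u ψ :=
  map_sub (cfAutR u) φ ψ
theorem cfAut_neg (u : ℂ ≃+* ℂ) (φ : G → ℂ) : cfAut u (-φ) = -cfAut u φ := map_neg (cfAutR u) φ
theorem cfAut_mul (u : ℂ ≃+* ℂ) (φ ψ : G → ℂ) : cfAut u (φ * ψ) = cfAut u φ * cfAut u ψ :=
  map_mul (cfAutR u) φ ψ
theorem cfAut_pow (u : ℂ ≃+* ℂ) (φ : G → ℂ) (n : ℕ) : cfAut u (φ ^ n) = cfAut u φ ^ n :=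
  map_pow (cfAutR u) φ n
theorem cfAut_nsmul (u : ℂ ≃+* ℂ) (n : ℕ) (φ : G → ℂ) : cfAut u (n • φ) = n • cfAut u φ :=
  map_nsmul (cfAutR u) n φ
theorem cfAut_zsmul (u : ℂ ≃+* ℂ) (n : ℤ) (φ : G → ℂ) : cfAut u (n • φ) = n • cfAut u φ :=
  map_zsmul (cfAutR u) n φ
theorem cfAut_smul (u : ℂ ≃+* ℂ) (c : ℂ) (φ : G → ℂ) : cfAut u (c • φ) = u c • cfAut u φ := by
  ext; simp [cfAutE]
theorem cfAut_sum {ι : Type*} (u : ℂ ≃+* ℂ) (s : Finset ι) (f : ι → G → ℂ) :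
    cfAut u (∑ i ∈ s, f i) = ∑ i ∈ s, cfAut u (f i) := map_sum (cfAutR u) f s
@[simp] theorem cfAutK (u : ℂ ≃+* ℂ) (φ : G → ℂ) : cfAut u.symm (cfAut u φ) = φ := by
  ext; simp [cfAutE]
@[simp] theorem cfAutKV (u : ℂ ≃+* ℂ) (φ : G → ℂ) : cfAut u (cfAut u.symm φ) = φ := by
  ext; simp [cfAutE]
theorem cfAut_inj (u : ℂ ≃+* ℂ) : Function.Injective (cfAut u : (G → ℂ) → G → ℂ) :=
  Function.LeftInverse.injective (cfAutK u)
theorem cfAut_trans (u v : ℂ ≃+* ℂ) (φ : G → ℂ) : cfAut (u.trans v) φ = cfAut v (cfAut u φ) := rfl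

/-- complex conjugation as a field automorphism -/
noncomputable def conjAut : ℂ ≃+* ℂ := Complex.conjAe.toRingEquiv

@[simp] theorem conjAut_apply (z : ℂ) : conjAut z = conj z := rfl

theorem cfAut_conjAut (φ : G → ℂ) : cfAut conjAut φ = star φ := rfl

theorem cfAut_mem_suppOn (u : ℂ ≃+* ℂ) (hφ : φ ∈ suppOn A) : cfAut u φ ∈ suppOn A :=
  fun x hx => by simp [cfAutE, hφ x hx]

end

theorem cfAut_mem_CF (u : ℂ ≃+* ℂ) (hφ : φ ∈ CF H) : cfAut u φ ∈ CF H :=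
  ⟨cfAut_mem_suppOn u hφ.1, fun h hh x => by simp [cfAutE, cfunJ hφ hh]⟩

theorem cfAut_mem_CFon (u : ℂ ≃+* ℂ) (hφ : φ ∈ CFon H A) : cfAut u φ ∈ CFon H A :=
  ⟨cfAut_mem_CF u hφ.1, cfAut_mem_suppOn u hφ.2⟩

@[simp] theorem cfAut_cf1 (u : ℂ ≃+* ℂ) (H : Subgroup G) : cfAut u (cf1 H) = cf1 H :=
  cfun_ext (cfAut_mem_CF u (cf1_mem_CF H)) (cf1_mem_CF H) fun x hx => by simp [cfAutE, cf1E hx]

theorem cfAut_cfRes (u : ℂ ≃+* ℂ) (φ : G → ℂ) : cfAut u (cfRes H φ) = cfRes H (cfAut u φ) := by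
  ext x
  by_cases hx : x ∈ H
  · simp [cfAutE, cfResE _ hx]
  · simp [cfAutE, cfRes_of_not_mem _ hx]

theorem cfAut_cfInd (u : ℂ ≃+* ℂ) (K H : Subgroup G) (φ : G → ℂ) :
    cfAut u (cfInd K H φ) = cfInd K H (cfAut u φ) := by
  ext g
  by_cases hg : g ∈ K
  · simp [cfAutE, cfIndE H _ hg]
  · simp [cfAutE, cfInd_of_not_mem H _ hg]

/-- `cfdot_cfAut` -/
theorem cfdot_cfAut (u : ℂ ≃+* ℂ) (φ : G → ℂ) (h : ∀ x ∈ H, u (conj (ψ x)) = conj (u (ψ x))) :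
    ⟪cfAut u φ, cfAut u ψ⟫[H] = u ⟪φ, ψ⟫[H] := by
  simp only [cfdot, map_mul, map_inv₀, map_natCast, map_sum, cfAutE]
  congr 1
  exact Finset.sum_congr rfl fun x hx => by rw [h x (by simpa using hx)]

/-! ### kernels -/

omit [Finite G] in
theorem mem_cfker {x : G} : x ∈ cfker H φ ↔ x ∈ H ∧ ∀ y, φ (x * y) = φ y := Iff.rfl

omit [Finite G] in
theorem cfker_le (H : Subgroup G) (φ : G → ℂ) : cfker H φ ≤ H := fun _ h => h.1

omit [Finite G] in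
theorem cfkerMl {x : G} (hx : x ∈ cfker H φ) (y : G) : φ (x * y) = φ y := hx.2 y

theorem cfkerMr (hφ : φ ∈ CF H) {x : G} (hx : x ∈ cfker H φ) (y : G) : φ (y * x) = φ y := by
  rw [← cfun_mul_comm hφ hx.1, hx.2]

omit [Finite G] in
theorem cfker1 {x : G} (hx : x ∈ cfker H φ) : φ x = φ 1 := by simpa using hx.2 1

theorem mem_cfker_of (hφ : φ ∈ suppOn (H : Set G)) {x : G} (hx : x ∈ H)
    (h : ∀ y ∈ H, φ (x * y) = φ y) : x ∈ cfker H φ := by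
  refine ⟨hx, fun y => ?_⟩
  by_cases hy : y ∈ H
  · exact h y hy
  · rw [hφ y hy, hφ _ (by rwa [SetLike.mem_coe, H.mul_mem_cancel_left hx])]

theorem cfker_cfConjg_conj (g : G) (H : Subgroup G) (φ : G → ℂ) :
    cfker (g •ᶜ H) (cfConjg g φ) = g •ᶜ cfker H φ := by
  ext x
  simp only [mem_cfker, mem_conj_smul, cfConjgE]
  refine and_congr_right fun _ => ⟨fun h y => ?_, fun h y => ?_⟩
  · simpa [mul_assoc] using h (g * y * g⁻¹)
  · simpa [mul_assoc] using h (g⁻¹ * y * g)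

theorem cfker_cfConjg {g : G} (hg : g ∈ 𝐍(H)) (φ : G → ℂ) :
    cfker H (cfConjg g φ) = g •ᶜ cfker H φ := by
  rw [← cfker_cfConjg_conj, conj_smul_eq_of_mem_normalizer hg]

theorem cfker_normal (hφ : φ ∈ CF H) : cfker H φ ⊴ H := by
  refine ⟨cfker_le H φ, fun g hg => ?_⟩
  have h := cfker_cfConjg (le_normalizer (inv_mem hg)) φ
  rw [cfConjg_id hφ (inv_mem hg)] at h
  refine mem_normalizer_iff.2 fun x => ?_
  conv_lhs => rw [h, mem_conj_smul, inv_inv]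

@[simp] theorem cfker_cf1 (H : Subgroup G) : cfker H (cf1 H) = H :=
  le_antisymm (cfker_le _ _) fun _ hx => mem_cfker_of (cf1_mem_CF H).1 hx fun _ hy => by
    rw [cf1E hy, cf1E (H.mul_mem hx hy)]

omit [Finite G] in
@[simp] theorem cfker_zero (H : Subgroup G) : cfker H (0 : G → ℂ) = H :=
  le_antisymm (cfker_le _ _) fun _ hx => ⟨hx, fun _ => rfl⟩

omit [Finite G] in
@[simp] theorem cfker_cfAut (u : ℂ ≃+* ℂ) (φ : G → ℂ) : cfker H (cfAut u φ) = cfker H φ := by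
  ext; simp [mem_cfker, cfAutE]

omit [Finite G] in
@[simp] theorem cfker_star (φ : G → ℂ) : cfker H (star φ) = cfker H φ := cfker_cfAut conjAut φ

omit [Finite G] in
@[simp] theorem cfker_neg (φ : G → ℂ) : cfker H (-φ) = cfker H φ := by ext; simp [mem_cfker]

omit [Finite G] in
theorem cfker_smul {c : ℂ} (hc : c ≠ 0) (φ : G → ℂ) : cfker H (c • φ) = cfker H φ := by
  ext; simp [mem_cfker, hc]

omit [Finite G] in
theorem cfker_add (φ ψ : G → ℂ) : cfker H φ ⊓ cfker H ψ ≤ cfker H (φ + ψ) :=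
  fun _ hx => ⟨hx.1.1, fun y => by simp [hx.1.2 y, hx.2.2 y]⟩

omit [Finite G] in
theorem cfker_mul (φ ψ : G → ℂ) : cfker H φ ⊓ cfker H ψ ≤ cfker H (φ * ψ) :=
  fun _ hx => ⟨hx.1.1, fun y => by simp [hx.1.2 y, hx.2.2 y]⟩

omit [Finite G] in
theorem le_cfker_sum {ι : Type*} {s : Finset ι} {f : ι → G → ℂ} (hK : K ≤ H)
    (h : ∀ i ∈ s, K ≤ cfker H (f i)) : K ≤ cfker H (∑ i ∈ s, f i) := fun x hx =>
  ⟨hK hx, fun y => by
    rw [Finset.sum_apply, Finset.sum_apply]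
    exact Finset.sum_congr rfl fun i hi => (h i hi hx).2 y⟩

theorem cfker_Res (φ : G → ℂ) : H ⊓ cfker K φ ≤ cfker H (cfRes H φ) := fun _ hx =>
  mem_cfker_of (cfRes_mem_suppOn φ) hx.1 fun y hy => by
    rw [cfResE _ hy, cfResE _ (H.mul_mem hx.1 hy), hx.2.2]

theorem le_cfker_cfInd {N : Subgroup G} (h : H ≤ K) (hn : K ≤ 𝐍(N)) (hN : N ≤ cfker H φ) :
    N ≤ cfker K (cfInd K H φ) := fun n hnN =>
  mem_cfker_of (cfInd_mem_CF _ _ _).1 (h (hN hnN).1) fun y hy => by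
    rw [cfIndE _ _ hy, cfIndE _ _ (K.mul_mem (h (hN hnN).1) hy)]
    congr 1
    refine Finset.sum_congr rfl fun x hx => ?_
    have h1 := (mem_normalizer_iff.1 (inv_mem (hn (by simpa using hx))) n).1 hnN
    rw [← (hN h1).2 (x⁻¹ * y * x)]
    congr 1; group

theorem eq_smul_cf1_of_cfker (hφ : φ ∈ CF H) (h : H ≤ cfker H φ) : φ = φ 1 • cf1 H :=
  cfun_ext hφ (Submodule.smul_mem _ _ (cf1_mem_CF H)) fun x hx => by
    simp [cf1E hx, cfker1 (h hx)]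

theorem cfRes_of_le_cfker (h : K ≤ cfker H φ) : cfRes K φ = φ 1 • cf1 K := by
  ext x
  by_cases hx : x ∈ K
  · simp [cfResE _ hx, cf1E hx, cfker1 (h hx)]
  · simp [cfRes_of_not_mem _ hx, cf1_of_not_mem hx]

end Cfsg.Agent.OO
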