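import Mathlib
import Cfsg.Agent.Lib.OO.CF1
import Cfsg.Agent.Lib.Char.Burnside

/-!
# CF2: characters and irreducible characters (mathcomp `character.v`)
-/

set_option autoImplicit false
set_option linter.unusedSectionVars false

namespace Cfsg.Agent.OO

open Subgroup
open scoped Pointwise ComplexConjugate

universe u v

/-! ### integers and naturals in `ℂ` -/

section
variable {a b : ℂ}

theorem IsCnat.isCint (h : IsCnat a) : IsCint a := let ⟨n, hn⟩ := h; ⟨n, by simpa using hn⟩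
theorem isCnat_natCast (n : ℕ) : IsCnat n := ⟨n, rfl⟩
theorem isCint_intCast (n : ℤ) : IsCint n := ⟨n, rfl⟩
theorem isCint_natCast (n : ℕ) : IsCint n := (isCnat_natCast n).isCint
theorem isCnat_zero : IsCnat 0 := ⟨0, by simp⟩
theorem isCnat_one : IsCnat 1 := ⟨1, by simp⟩
theorem isCint_zero : IsCint 0 := isCnat_zero.isCint
theorem isCint_one : IsCint 1 := isCnat_one.isCint
theorem IsCnat.add (ha : IsCnat a) (hb : IsCnat b) : IsCnat (a + b) :=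
  let ⟨n, hn⟩ := ha; let ⟨m, hm⟩ := hb; ⟨n + m, by simp [hn, hm]⟩
theorem IsCnat.mul (ha : IsCnat a) (hb : IsCnat b) : IsCnat (a * b) :=
  let ⟨n, hn⟩ := ha; let ⟨m, hm⟩ := hb; ⟨n * m, by simp [hn, hm]⟩
theorem IsCint.add (ha : IsCint a) (hb : IsCint b) : IsCint (a + b) :=
  let ⟨n, hn⟩ := ha; let ⟨m, hm⟩ := hb; ⟨n + m, by simp [hn, hm]⟩
theorem IsCint.sub (ha : IsCint a) (hb : IsCint b) : IsCint (a - b) :=
  let ⟨n, hn⟩ := ha; let ⟨m, hm⟩ := hb; ⟨n - m, by simp [hn, hm]⟩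
theorem IsCint.mul (ha : IsCint a) (hb : IsCint b) : IsCint (a * b) :=
  let ⟨n, hn⟩ := ha; let ⟨m, hm⟩ := hb; ⟨n * m, by simp [hn, hm]⟩
theorem IsCint.neg (ha : IsCint a) : IsCint (-a) := let ⟨n, hn⟩ := ha; ⟨-n, by simp [hn]⟩
theorem IsCint.pow (ha : IsCint a) (k : ℕ) : IsCint (a ^ k) :=
  let ⟨n, hn⟩ := ha; ⟨n ^ k, by simp [hn]⟩
theorem IsCint.conj_eq (ha : IsCint a) : conj a = a := let ⟨n, hn⟩ := ha; by simp [hn]
theorem IsCnat.conj_eq (ha : IsCnat a) : conj a = a := ha.isCint.conj_eq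
theorem IsCint.aut_eq (ha : IsCint a) (u : ℂ ≃+* ℂ) : u a = a := let ⟨n, hn⟩ := ha; by simp [hn]
theorem IsCint.isIntegral (ha : IsCint a) : IsIntegral ℤ a :=
  let ⟨n, hn⟩ := ha; hn ▸ isIntegral_algebraMap (x := n)
theorem isCnat_sum {ι : Type*} {s : Finset ι} {f : ι → ℂ} (h : ∀ i ∈ s, IsCnat (f i)) :
    IsCnat (∑ i ∈ s, f i) := Finset.sum_induction f IsCnat (fun _ _ => IsCnat.add) isCnat_zero h
theorem isCint_sum {ι : Type*} {s : Finset ι} {f : ι → ℂ} (h : ∀ i ∈ s, IsCint (f i)) :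
    IsCint (∑ i ∈ s, f i) := Finset.sum_induction f IsCint (fun _ _ => IsCint.add) isCint_zero h
theorem IsCint.isCnat (ha : IsCint a) (h : 0 ≤ a.re) : IsCnat a := by
  obtain ⟨n, rfl⟩ := ha
  obtain ⟨m, rfl⟩ := Int.eq_ofNat_of_zero_le (by exact_mod_cast h : 0 ≤ n)
  exact ⟨m, by simp⟩
theorem IsCint.one_le_norm (ha : IsCint a) (h : a ≠ 0) : 1 ≤ ‖a‖ := by
  obtain ⟨n, rfl⟩ := ha
  rw [Complex.norm_intCast]
  exact_mod_cast Int.one_le_abs (by simpa using h)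
/-- `Cint_rat_Aint` -/
theorem isCint_of_isIntegral_rat {r : ℚ} (h : IsIntegral ℤ (r : ℂ)) : IsCint r := by
  obtain ⟨y, hy⟩ := Char.exists_int_of_isIntegral_rat h
  exact ⟨y, by simp [hy]⟩
end

variable {G : Type u} [Group G] [Finite G] {H K L : Subgroup G} {φ ψ θ χ ξ : G → ℂ} {A B : Set G}

/-! ### bridge with characters of the subtype -/

theorem extendByZero_coe (hφ : φ ∈ suppOn (H : Set G)) :
    extendByZero H (fun x : H => φ x) = φ := by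
  ext x
  by_cases hx : x ∈ H
  · exact Char.extendByZero_of_mem H _ hx
  · rw [Char.extendByZero_of_not_mem H _ hx, hφ x hx]

theorem extendByZero_mem_suppOn (θ : H → ℂ) : extendByZero H θ ∈ suppOn (H : Set G) :=
  fun _ => Char.extendByZero_of_not_mem H θ

theorem coe_extendByZero (θ : H → ℂ) : (fun x : H => extendByZero H θ x) = θ :=
  funext fun x => Char.extendByZero_of_mem H θ x.2

theorem isChar_iff : IsChar H χ ↔ χ ∈ suppOn (H : Set G) ∧ IsCharacter H fun x => χ x :=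
  ⟨fun ⟨θ, h, e⟩ => ⟨e ▸ extendByZero_mem_suppOn θ, by rwa [e, coe_extendByZero]⟩,
    fun h => ⟨_, h.2, (extendByZero_coe h.1).symm⟩⟩

theorem isIrr_iff : IsIrr H χ ↔ χ ∈ suppOn (H : Set G) ∧ IsIrrCharacter H fun x => χ x :=
  ⟨fun ⟨θ, h, e⟩ => ⟨e ▸ extendByZero_mem_suppOn θ, by rwa [e, coe_extendByZero]⟩,
    fun h => ⟨_, h.2, (extendByZero_coe h.1).symm⟩⟩

theorem mem_CF_iff : φ ∈ CF H ↔ φ ∈ suppOn (H : Set G) ∧ IsClassFunction H fun x => φ x :=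
  ⟨fun h => ⟨h.1, fun x g => h.2 g g.2 x⟩, fun h => mem_CF_of h.1 fun g hg x hx =>
    h.2 ⟨x, hx⟩ ⟨g, hg⟩⟩

theorem IsChar.coe (h : IsChar H χ) : IsCharacter H fun x => χ x := (isChar_iff.1 h).2
theorem IsIrr.coe (h : IsIrr H χ) : IsIrrCharacter H fun x => χ x := (isIrr_iff.1 h).2
theorem IsIrr.isChar (h : IsIrr H χ) : IsChar H χ :=
  let ⟨θ, h1, h2⟩ := h; ⟨θ, Char.isCharacter_of_irr h1, h2⟩
theorem IsChar.mem_CF (h : IsChar H χ) : χ ∈ CF H :=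
  mem_CF_iff.2 ⟨(isChar_iff.1 h).1, Char.char_isClassFunction h.coe⟩
theorem IsIrr.mem_CF (h : IsIrr H χ) : χ ∈ CF H := h.isChar.mem_CF
theorem IsLinChar.isChar (h : IsLinChar H χ) : IsChar H χ := h.1
theorem IsLinChar.mem_CF (h : IsLinChar H χ) : χ ∈ CF H := h.1.mem_CF

theorem IsChar.exists_rep (h : IsChar H χ) :
    ∃ (n : ℕ) (ρ : Representation ℂ H (Fin n → ℂ)), ∀ x : H, χ x = ρ.character x :=
  let ⟨n, ρ, e⟩ := h.coe; ⟨n, ρ, fun x => (congrFun e x).symm⟩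

theorem IsIrr.exists_rep (h : IsIrr H χ) : ∃ (n : ℕ) (ρ : Representation ℂ H (Fin n → ℂ)),
    ρ.IsIrreducible ∧ ∀ x : H, χ x = ρ.character x :=
  let ⟨n, ρ, h1, e⟩ := h.coe; ⟨n, ρ, h1, fun x => (congrFun e x).symm⟩

theorem isChar_of_rep {V : Type*} [AddCommGroup V] [Module ℂ V] [FiniteDimensional ℂ V]
    (ρ : Representation ℂ H V) : IsChar H (extendByZero H ρ.character) :=
  ⟨_, Char.isCharacter_of_rep ρ, rfl⟩

theorem sum_Irr_eq {M : Type*} [AddCommMonoid M] (H : Subgroup G) [Fintype (IrrCharacter H)]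
    (f : (G → ℂ) → M) : ∑ χ ∈ Irr H, f χ = ∑ θ : IrrCharacter H, f (extendByZero H θ.1) := by
  symm
  refine Finset.sum_bij (fun θ _ => extendByZero H θ.1) (fun θ _ => mem_Irr.2 ⟨_, θ.2, rfl⟩)
    (fun θ _ η _ e => Subtype.ext ?_) (fun χ h => ?_) fun _ _ => rfl
  · rw [← coe_extendByZero θ.1, e, coe_extendByZero]
  · obtain ⟨θ, h1, rfl⟩ := mem_Irr.1 h
    exact ⟨⟨θ, h1⟩, Finset.mem_univ _, rfl⟩

/-! ### orthogonality relations -/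

theorem cfdot_irr_self (h : IsIrr H χ) : ⟪χ, χ⟫[H] = 1 := by
  have := Fintype.ofFinite H
  rw [cfdot_eq_classInner, Char.classInner_irr_self h.coe]

theorem cfnorm_irr (h : IsIrr H χ) : cfnorm H χ = 1 := cfnorm_eq_one_iff.2 (cfdot_irr_self h)

theorem cfdot_irr_ne (h : IsIrr H χ) (h' : IsIrr H ψ) (hne : χ ≠ ψ) : ⟪χ, ψ⟫[H] = 0 := by
  have := Fintype.ofFinite H
  rw [cfdot_eq_classInner, Char.classInner_irr_ne h.coe h'.coe fun e =>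
    hne (cfun_ext h.mem_CF h'.mem_CF fun x hx => congrFun e ⟨x, hx⟩)]

open Classical in
theorem cfdot_irr (h : IsIrr H χ) (h' : IsIrr H ψ) : ⟪χ, ψ⟫[H] = if χ = ψ then 1 else 0 := by
  split_ifs with e
  · rw [← e, cfdot_irr_self h]
  · exact cfdot_irr_ne h h' e

theorem IsIrr.eq_of_cfdot_ne_zero (h : IsIrr H χ) (h' : IsIrr H ψ) (h0 : ⟪χ, ψ⟫[H] ≠ 0) : χ = ψ :=
  by_contra fun e => h0 (cfdot_irr_ne h h' e)

theorem IsIrr.ne_zero (h : IsIrr H χ) : χ ≠ 0 := fun e => by simpa [e] using cfdot_irr_self h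

theorem eq_zero_of_cfdot_irr (hφ : φ ∈ CF H) (h : ∀ χ, IsIrr H χ → ⟪φ, χ⟫[H] = 0) : φ = 0 := by
  have := Fintype.ofFinite H
  have h1 := Char.eq_zero_of_classInner_irr (mem_CF_iff.1 hφ).2 fun θ hθ => by
    rw [← coe_extendByZero θ, ← cfdot_eq_classInner]; exact h _ ⟨θ, hθ, rfl⟩
  exact cfun_ext hφ (zero_mem _) fun x hx => congrFun h1 ⟨x, hx⟩

theorem cfun_ext_irr (hφ : φ ∈ CF H) (hψ : ψ ∈ CF H)
    (h : ∀ χ, IsIrr H χ → ⟪φ, χ⟫[H] = ⟪ψ, χ⟫[H]) : φ = ψ :=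
  sub_eq_zero.1 (eq_zero_of_cfdot_irr (sub_mem hφ hψ) fun χ hχ => by rw [cfdotBl, h χ hχ, sub_self])

theorem neq0_has_constt (hφ : φ ∈ CF H) (h : φ ≠ 0) : ∃ χ, IsIrr H χ ∧ ⟪φ, χ⟫[H] ≠ 0 := by
  by_contra h'
  push Not at h'
  exact h (eq_zero_of_cfdot_irr hφ h')

theorem cfdot_sum_smul_irr {S : Finset (G → ℂ)} (hS : ∀ χ ∈ S, IsIrr H χ) (c : (G → ℂ) → ℂ)
    (hξ : ξ ∈ S) : ⟪∑ χ ∈ S, c χ • χ, ξ⟫[H] = c ξ := by
  rw [cfdot_suml, Finset.sum_eq_single_of_mem ξ hξ fun χ h hne => by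
    rw [cfdotZl, cfdot_irr_ne (hS χ h) (hS ξ hξ) hne, mul_zero], cfdotZl,
    cfdot_irr_self (hS ξ hξ), mul_one]

theorem cfdot_sum_smul_irr_of_not_mem {S : Finset (G → ℂ)} (hS : ∀ χ ∈ S, IsIrr H χ)
    (c : (G → ℂ) → ℂ) (h : IsIrr H ξ) (hξ : ξ ∉ S) : ⟪∑ χ ∈ S, c χ • χ, ξ⟫[H] = 0 := by
  rw [cfdot_suml, Finset.sum_eq_zero fun χ h' => by
    rw [cfdotZl, cfdot_irr_ne (hS χ h') h fun e => hξ (e ▸ h'), mul_zero]]

theorem sum_smul_irr_mem_CF {S : Finset (G → ℂ)} (hS : ∀ χ ∈ S, IsIrr H χ) (c : (G → ℂ) → ℂ) :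
    ∑ χ ∈ S, c χ • χ ∈ CF H :=
  sum_mem fun χ h => Submodule.smul_mem _ _ (hS χ h).mem_CF

theorem cfun_sum_cfdot (hφ : φ ∈ CF H) : φ = ∑ χ ∈ Irr H, ⟪φ, χ⟫[H] • χ :=
  cfun_ext_irr hφ (sum_smul_irr_mem_CF (by simp) _) fun χ hχ => by
    rw [cfdot_sum_smul_irr (by simp) (fun χ => ⟪φ, χ⟫[H]) (mem_Irr.2 hχ)]

theorem cfun_apply_sum_cfdot (hφ : φ ∈ CF H) (x : G) :
    φ x = ∑ χ ∈ Irr H, ⟪φ, χ⟫[H] * χ x := by
  conv_lhs => rw [cfun_sum_cfdot hφ]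
  simp

open Classical in
theorem cfun_sum_constt (hφ : φ ∈ CF H) :
    φ = ∑ χ ∈ (Irr H).filter fun χ => ⟪φ, χ⟫[H] ≠ 0, ⟪φ, χ⟫[H] • χ := by
  rw [Finset.sum_filter_of_ne (p := fun χ => ⟪φ, χ⟫[H] ≠ 0) fun χ _ h e =>
    h (by rw [e, zero_smul]), ← cfun_sum_cfdot hφ]

theorem cfdot_sum_irr (hφ : φ ∈ CF H) (ψ : G → ℂ) :
    ⟪φ, ψ⟫[H] = ∑ χ ∈ Irr H, ⟪φ, χ⟫[H] * conj ⟪ψ, χ⟫[H] := by
  conv_lhs => rw [cfun_sum_cfdot hφ]
  simp only [cfdot_suml, cfdotZl, conj_cfdot]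

theorem cfnorm_sum_irr (hφ : φ ∈ CF H) : cfnorm H φ = ∑ χ ∈ Irr H, ‖⟪φ, χ⟫[H]‖ ^ 2 := by
  rw [cfnorm_eq_re, cfdot_sum_irr hφ]
  simp only [Complex.mul_conj', Complex.re_sum, ← Complex.ofReal_pow, Complex.ofReal_re]

theorem span_Irr (H : Subgroup G) : Submodule.span ℂ (Irr H : Set (G → ℂ)) = CF H := by
  refine le_antisymm (Submodule.span_le.2 fun χ h => (mem_Irr.1 h).mem_CF) fun φ hφ => ?_
  rw [cfun_sum_cfdot hφ]
  exact sum_mem fun χ h => Submodule.smul_mem _ _ (Submodule.subset_span h)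

/-! ### closure properties -/

theorem isChar_zero : IsChar H 0 := isChar_iff.2 ⟨zero_mem _, Char.isCharacter_zero⟩

theorem IsChar.add (h : IsChar H χ) (h' : IsChar H ψ) : IsChar H (χ + ψ) :=
  isChar_iff.2 ⟨add_mem h.mem_CF.1 h'.mem_CF.1, Char.isCharacter_add h.coe h'.coe⟩

theorem IsChar.mul (h : IsChar H χ) (h' : IsChar H ψ) : IsChar H (χ * ψ) :=
  isChar_iff.2 ⟨mul_mem_suppOn_left h.mem_CF.1 _, Char.isCharacter_mul h.coe h'.coe⟩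

theorem IsChar.nsmul (h : IsChar H χ) (n : ℕ) : IsChar H (n • χ) :=
  isChar_iff.2 ⟨nsmul_mem (CF_le_suppOn H h.mem_CF) n, Char.isCharacter_nsmul h.coe n⟩

theorem IsChar.smul {c : ℂ} (hc : IsCnat c) (h : IsChar H χ) : IsChar H (c • χ) := by
  obtain ⟨n, rfl⟩ := hc
  rw [Nat.cast_smul_eq_nsmul]; exact h.nsmul n

theorem isChar_sum {ι : Type*} {s : Finset ι} {f : ι → G → ℂ} (h : ∀ i ∈ s, IsChar H (f i)) :
    IsChar H (∑ i ∈ s, f i) := Finset.sum_induction f (IsChar H) (fun _ _ => IsChar.add) isChar_zero h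

theorem isIrr_cf1 (H : Subgroup G) : IsIrr H (cf1 H) :=
  isIrr_iff.2 ⟨(cf1_mem_CF H).1, by
    rw [show (fun x : H => cf1 H x) = 1 from funext fun x => cf1E x.2]; exact Char.isIrrCharacter_one⟩

theorem isChar_cf1 (H : Subgroup G) : IsChar H (cf1 H) := (isIrr_cf1 H).isChar

theorem cf1_mem_Irr (H : Subgroup G) : cf1 H ∈ Irr H := mem_Irr.2 (isIrr_cf1 H)

theorem IsChar.pow (h : IsChar H χ) {n : ℕ} (hn : n ≠ 0) : IsChar H (χ ^ n) := by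
  obtain ⟨n, rfl⟩ := Nat.exists_eq_succ_of_ne_zero hn
  induction n with
  | zero => simpa using h
  | succ n ih => rw [pow_succ]; exact (ih (by omega)).mul h

theorem Cnat_cfdot_char (h : IsChar H χ) (h' : IsChar H ψ) : IsCnat ⟪χ, ψ⟫[H] := by
  have := Fintype.ofFinite H
  rw [cfdot_eq_classInner]; exact Char.classInner_char_nat h.coe h'.coe

theorem isChar_of_cfdot (hφ : φ ∈ CF H) (h : ∀ χ, IsIrr H χ → IsCnat ⟪φ, χ⟫[H]) : IsChar H φ := by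
  rw [cfun_sum_cfdot hφ]
  exact isChar_sum fun χ hχ => (mem_Irr.1 hχ).isChar.smul (h χ (mem_Irr.1 hχ))

/-- `forallP_char` -/
theorem isChar_iff_cfdot : IsChar H φ ↔ φ ∈ CF H ∧ ∀ χ, IsIrr H χ → IsCnat ⟪φ, χ⟫[H] :=
  ⟨fun h => ⟨h.mem_CF, fun _ h' => Cnat_cfdot_char h h'.isChar⟩, fun h => isChar_of_cfdot h.1 h.2⟩

theorem IsChar.isIrr_of_cfdot (h : IsChar H χ) (h1 : ⟪χ, χ⟫[H] = 1) : IsIrr H χ := by
  have := Fintype.ofFinite H
  exact isIrr_iff.2 ⟨h.mem_CF.1, Char.irr_of_char_norm_one h.coe (cfdot_eq_classInner H χ χ ▸ h1)⟩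

theorem IsChar.isIrr_of_cfnorm (h : IsChar H χ) (h1 : cfnorm H χ = 1) : IsIrr H χ :=
  h.isIrr_of_cfdot (cfnorm_eq_one_iff.1 h1)

theorem irrEchar : IsIrr H χ ↔ IsChar H χ ∧ ⟪χ, χ⟫[H] = 1 :=
  ⟨fun h => ⟨h.isChar, cfdot_irr_self h⟩, fun h => h.1.isIrr_of_cfdot h.2⟩

theorem IsChar.induction {P : (G → ℂ) → Prop} (h0 : P 0) (hirr : ∀ χ, IsIrr H χ → P χ)
    (hadd : ∀ χ ψ, IsChar H χ → IsChar H ψ → P χ → P ψ → P (χ + ψ)) (h : IsChar H χ) : P χ := by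
  have h1 : ∀ ξ, IsIrr H ξ → ∀ n : ℕ, P (n • ξ) := fun ξ hξ n => by
    induction n with
    | zero => simpa using h0
    | succ n ih => rw [succ_nsmul]; exact hadd _ _ (hξ.isChar.nsmul n) hξ.isChar ih (hirr ξ hξ)
  rw [cfun_sum_cfdot h.mem_CF]
  refine (Finset.sum_induction _ (fun φ => IsChar H φ ∧ P φ)
    (fun a b ha hb => ⟨ha.1.add hb.1, hadd a b ha.1 hb.1 ha.2 hb.2⟩) ⟨isChar_zero, h0⟩
    fun ξ hξ => ?_).2
  obtain ⟨n, hn⟩ := Cnat_cfdot_char h (mem_Irr.1 hξ).isChar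
  rw [hn, Nat.cast_smul_eq_nsmul]
  exact ⟨(mem_Irr.1 hξ).isChar.nsmul n, h1 ξ (mem_Irr.1 hξ) n⟩

section Comp

variable {G' : Type v} [Group G'] [Finite G'] {H' : Subgroup G'} {φ' ψ' χ' : G' → ℂ}

/-- pull-back along a homomorphism -/
theorem IsChar.comp (f : H →* H') (h : IsChar H' χ') (h0 : χ ∈ suppOn (H : Set G))
    (e : ∀ x : H, χ x = χ' (f x)) : IsChar H χ :=
  isChar_iff.2 ⟨h0, by rw [funext e]; exact Char.isCharacter_comp f h.coe⟩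

theorem IsIrr.comp (f : H →* H') (hf : Function.Surjective f) (h : IsIrr H' χ')
    (h0 : χ ∈ suppOn (H : Set G)) (e : ∀ x : H, χ x = χ' (f x)) : IsIrr H χ :=
  isIrr_iff.2 ⟨h0, by rw [funext e]; exact Char.isIrrCharacter_comp f hf h.coe⟩

theorem mem_CF_comp (f : H →* H') (h : χ' ∈ CF H') (h0 : χ ∈ suppOn (H : Set G))
    (e : ∀ x : H, χ x = χ' (f x)) : χ ∈ CF H :=
  mem_CF_iff.2 ⟨h0, fun x g => by
    simp only [e, map_mul, map_inv]; exact (mem_CF_iff.1 h).2 (f x) (f g)⟩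

theorem sum_comp_of_surjective {A B M : Type*} [Group A] [Group B] [Fintype A] [Fintype B]
    [AddCommMonoid M] (f : A →* B) (hf : Function.Surjective f) (F : B → M) :
    ∑ x, F (f x) = Nat.card f.ker • ∑ y, F y := by
  classical
  rw [← Finset.sum_fiberwise Finset.univ f, Finset.smul_sum]
  refine Finset.sum_congr rfl fun y _ => ?_
  rw [Finset.sum_congr rfl fun x hx => by rw [(Finset.mem_filter.1 hx).2], Finset.sum_const]
  congr 1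
  obtain ⟨a, rfl⟩ := hf y
  rw [← Nat.card_congr (f.fiberEquivKer a)]
  exact (Nat.subtype_card _ (by simp)).symm

theorem cfdot_comp (f : H →* H') (hf : Function.Surjective f) (e1 : ∀ x : H, φ x = φ' (f x))
    (e2 : ∀ x : H, ψ x = ψ' (f x)) : ⟪φ, ψ⟫[H] = ⟪φ', ψ'⟫[H'] := by
  have := Fintype.ofFinite H
  have := Fintype.ofFinite H'
  have h1 : (♯H : ℂ) = Nat.card f.ker * ♯H' := by
    rw [← f.ker.card_mul_index, index_ker, MonoidHom.range_eq_top.2 hf, card_top]; simp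
  have h2 : (Nat.card f.ker : ℂ) ≠ 0 := by exact_mod_cast Nat.card_pos.ne'
  rw [cfdot, cfdot, sum_elts_subtype, sum_elts_subtype]
  simp only [e1, e2]
  rw [sum_comp_of_surjective f hf (fun y => φ' y * conj (ψ' y)), h1, nsmul_eq_mul]
  field_simp

/-- push-forward along a surjective homomorphism -/
theorem IsChar.of_comp (f : H →* H') (hf : Function.Surjective f) (h : IsChar H χ)
    (h0 : χ' ∈ suppOn (H' : Set G')) (e : ∀ x : H, χ x = χ' (f x)) : IsChar H' χ' := by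
  obtain ⟨n, ρ, hρ⟩ := h.exists_rep
  have h1 : f.ker ≤ ρ.ker := fun x hx => (Char.rep_eq_one_iff ρ x).2 (by
    rw [← hρ, ← hρ, e, e, hx, map_one])
  let σ : Representation ℂ H' (Fin n → ℂ) := (QuotientGroup.lift f.ker ρ h1).comp
    (QuotientGroup.quotientKerEquivOfSurjective f hf).symm.toMonoidHom
  refine isChar_iff.2 ⟨h0, n, σ, funext fun y => ?_⟩
  obtain ⟨x, rfl⟩ := hf y
  have h2 : (QuotientGroup.quotientKerEquivOfSurjective f hf).symm (f x) = x :=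
    (MulEquiv.symm_apply_eq _).2 rfl
  rw [← e, hρ]
  simp [σ, Representation.character, h2]

theorem IsIrr.of_comp (f : H →* H') (hf : Function.Surjective f) (h : IsIrr H χ)
    (h0 : χ' ∈ suppOn (H' : Set G')) (e : ∀ x : H, χ x = χ' (f x)) : IsIrr H' χ' :=
  (h.isChar.of_comp f hf h0 e).isIrr_of_cfdot (by rw [← cfdot_comp f hf e e, cfdot_irr_self h])

end Comp

theorem IsChar.cfRes (h : IsChar K χ) (hH : H ≤ K) : IsChar H (cfRes H χ) :=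
  h.comp (inclusion hH) (cfRes_mem_suppOn χ) fun x => cfResE χ x.2

theorem IsChar.cfInd (h : IsChar H χ) (hH : H ≤ K) : IsChar K (cfInd K H χ) :=
  isChar_of_cfdot (cfInd_mem_CF _ _ _) fun ξ hξ => by
    rw [← Frobenius_reciprocity hH h.mem_CF hξ.mem_CF]
    exact Cnat_cfdot_char h (hξ.isChar.cfRes hH)

theorem char_inv (h : IsChar H χ) (x : G) : χ x⁻¹ = conj (χ x) := by
  by_cases hx : x ∈ H
  · exact Char.char_inv h.coe ⟨x, hx⟩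
  · rw [cfun0 h.mem_CF hx, cfun0 h.mem_CF (by rwa [inv_mem_iff]), map_zero]

theorem IsChar.star (h : IsChar H χ) : IsChar H (star χ) :=
  isChar_iff.2 ⟨star_mem_suppOn h.mem_CF.1, Char.isCharacter_conj h.coe⟩

theorem IsIrr.star (h : IsIrr H χ) : IsIrr H (star χ) :=
  h.isChar.star.isIrr_of_cfnorm (by rw [cfnorm_conjC, cfnorm_irr h])

theorem isCharacter_aut {X : Type*} [Group X] (u : ℂ ≃+* ℂ) {θ : X → ℂ} (h : IsCharacter X θ) :
    IsCharacter X fun x => u (θ x) := by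
  obtain ⟨n, ρ, rfl⟩ := h
  let σ : Representation ℂ X (Fin n → ℂ) :=
    ((Matrix.toLinAlgEquiv' (R := ℂ) (n := Fin n)).toRingEquiv.toMonoidHom.comp
      ((u : ℂ →+* ℂ).mapMatrix (m := Fin n)).toMonoidHom).comp
      ((LinearMap.toMatrixAlgEquiv' (R := ℂ) (n := Fin n)).toRingEquiv.toMonoidHom.comp ρ)
  refine ⟨n, σ, funext fun x => ?_⟩
  have h1 : σ x = Matrix.toLin' ((LinearMap.toMatrix' (ρ x)).map u) := rfl
  rw [Representation.character, h1, Matrix.trace_toLin'_eq, Representation.character,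
    ← Matrix.toLin'_toMatrix' (ρ x), Matrix.trace_toLin'_eq, LinearMap.toMatrix'_toLin']
  simp [Matrix.trace]

theorem IsChar.cfAut (h : IsChar H χ) (u : ℂ ≃+* ℂ) : IsChar H (cfAut u χ) :=
  isChar_iff.2 ⟨cfAut_mem_suppOn u h.mem_CF.1, isCharacter_aut u h.coe⟩

theorem IsChar.aut_conj (h : IsChar H χ) (u : ℂ ≃+* ℂ) (x : G) :
    u (conj (χ x)) = conj (u (χ x)) := by
  rw [← char_inv h, ← cfAutE, char_inv (h.cfAut u), cfAutE]

theorem cfdot_aut_char (u : ℂ ≃+* ℂ) (φ : G → ℂ) (h : IsChar H χ) :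
    ⟪cfAut u φ, cfAut u χ⟫[H] = u ⟪φ, χ⟫[H] := cfdot_cfAut u φ fun x _ => h.aut_conj u x

theorem IsIrr.cfAut (h : IsIrr H χ) (u : ℂ ≃+* ℂ) : IsIrr H (cfAut u χ) :=
  (h.isChar.cfAut u).isIrr_of_cfdot (by rw [cfdot_aut_char u _ h.isChar, cfdot_irr_self h, map_one])

theorem IsChar.star_cfAut (h : IsChar H χ) (u : ℂ ≃+* ℂ) :
    Star.star (OO.cfAut u χ) = OO.cfAut u (Star.star χ) := funext fun x => (h.aut_conj u x).symm

/-- conjugation `g •ᶜ H → H` -/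
def conjHom (g : G) (H : Subgroup G) : ↥(g •ᶜ H) →* H where
  toFun x := ⟨g⁻¹ * x * g, mem_conj_smul.1 x.2⟩
  map_one' := by ext; simp
  map_mul' x y := by ext; simp [mul_assoc]

theorem IsChar.cfConjg_conj (h : IsChar H χ) (g : G) : IsChar (g •ᶜ H) (cfConjg g χ) :=
  h.comp (conjHom g H) (cfConjg_mem_CF_conj g h.mem_CF).1 fun _ => rfl

theorem IsIrr.cfConjg_conj (h : IsIrr H χ) (g : G) : IsIrr (g •ᶜ H) (cfConjg g χ) :=
  (h.isChar.cfConjg_conj g).isIrr_of_cfdot (by rw [cfdot_cfConjg_conj, cfdot_irr_self h])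

theorem IsChar.cfConjg (h : IsChar H χ) {g : G} (hg : g ∈ 𝐍(H)) : IsChar H (cfConjg g χ) := by
  simpa [conj_smul_eq_of_mem_normalizer hg] using h.cfConjg_conj g

theorem IsIrr.cfConjg (h : IsIrr H χ) {g : G} (hg : g ∈ 𝐍(H)) : IsIrr H (cfConjg g χ) := by
  simpa [conj_smul_eq_of_mem_normalizer hg] using h.cfConjg_conj g

theorem sum_Irr_star {M : Type*} [AddCommMonoid M] (H : Subgroup G) (f : (G → ℂ) → M) :
    ∑ χ ∈ Irr H, f (star χ) = ∑ χ ∈ Irr H, f χ :=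
  Finset.sum_nbij' star star (by simpa using fun _ => IsIrr.star) (by simpa using fun _ => IsIrr.star)
    (by simp) (by simp) (by simp)

theorem sum_Irr_cfAut {M : Type*} [AddCommMonoid M] (H : Subgroup G) (u : ℂ ≃+* ℂ)
    (f : (G → ℂ) → M) : ∑ χ ∈ Irr H, f (cfAut u χ) = ∑ χ ∈ Irr H, f χ :=
  Finset.sum_nbij' (cfAut u) (cfAut u.symm) (by simpa using fun _ h => IsIrr.cfAut h u)
    (by simpa using fun _ h => IsIrr.cfAut h u.symm) (by simp) (by simp) (by simp)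

theorem sum_Irr_cfConjg {M : Type*} [AddCommMonoid M] {g : G} (hg : g ∈ 𝐍(H))
    (f : (G → ℂ) → M) : ∑ χ ∈ Irr H, f (cfConjg g χ) = ∑ χ ∈ Irr H, f χ :=
  Finset.sum_nbij' (cfConjg g) (cfConjg g⁻¹) (by simpa using fun _ h => IsIrr.cfConjg h hg)
    (by simpa using fun _ h => IsIrr.cfConjg h (inv_mem hg)) (by simp) (by simp) (by simp)

/-! ### degrees and values -/

theorem Cnat_char1 (h : IsChar H χ) : IsCnat (χ 1) := Char.char_one_eq_nat (G := H) h.coe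

theorem IsIrr.exists_one (h : IsIrr H χ) : ∃ n : ℕ, 0 < n ∧ χ 1 = n :=
  Char.irr_one_eq_nat (G := H) h.coe

theorem irr1_neq0 (h : IsIrr H χ) : χ 1 ≠ 0 := Char.irr_one_ne_zero (G := H) h.coe

theorem irr1_ge1 (h : IsIrr H χ) : 1 ≤ (χ 1).re := by
  obtain ⟨n, hn, e⟩ := h.exists_one
  rw [e]; exact_mod_cast hn

theorem irr1_gt0 (h : IsIrr H χ) : 0 < (χ 1).re := zero_lt_one.trans_le (irr1_ge1 h)

theorem char1_ge0 (h : IsChar H χ) : 0 ≤ (χ 1).re := by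
  obtain ⟨n, e⟩ := Cnat_char1 h
  rw [e]; exact_mod_cast n.zero_le

theorem char1_eq0 (h : IsChar H χ) : χ 1 = 0 ↔ χ = 0 :=
  ⟨fun h0 => cfun_ext h.mem_CF (zero_mem _) fun x hx =>
    congrFun (Char.char_eq_zero_of_one h.coe h0) ⟨x, hx⟩, fun e => by simp [e]⟩

theorem char1_gt0 (h : IsChar H χ) (h0 : χ ≠ 0) : 0 < (χ 1).re := by
  obtain ⟨n, e⟩ := Cnat_char1 h
  have : n ≠ 0 := fun h' => h0 ((char1_eq0 h).1 (by simp [e, h']))
  rw [e]; exact_mod_cast Nat.pos_of_ne_zero this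

theorem char1_ge_norm (h : IsChar H χ) (x : G) : ‖χ x‖ ≤ ‖χ 1‖ := by
  by_cases hx : x ∈ H
  · exact Char.norm_char_le h.coe ⟨x, hx⟩
  · simp [cfun0 h.mem_CF hx]

theorem IsChar.norm_one (h : IsChar H χ) : ‖χ 1‖ = (χ 1).re := by
  obtain ⟨n, e⟩ := Cnat_char1 h
  simp [e]

theorem Aint_char (h : IsChar H χ) (x : G) : IsIntegral ℤ (χ x) := by
  by_cases hx : x ∈ H
  · exact Char.char_isIntegral h.coe ⟨x, hx⟩
  · rw [cfun0 h.mem_CF hx]; exact isIntegral_zero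

/-- the eigenvalues of `x` -/
theorem IsChar.exists_roots (h : IsChar H χ) {x : G} (hx : x ∈ H) :
    ∃ s : Multiset ℂ, (s.card : ℂ) = χ 1 ∧ (∀ ε ∈ s, ε ^ orderOf x = 1) ∧
      ∀ k : ℤ, χ (x ^ k) = (s.map (· ^ k)).sum := by
  simpa using Char.exists_roots h.coe ⟨x, hx⟩

theorem dvd_irr1_cardG (h : IsIrr H χ) {n : ℕ} (hn : χ 1 = n) : n ∣ ♯H :=
  Char.irr_degree_dvd_card h.coe hn

/-! ### constituents -/

theorem IsChar.sub_constt (h : IsChar H φ) (hχ : IsIrr H χ) : IsChar H (φ - ⟪φ, χ⟫[H] • χ) :=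
  isChar_of_cfdot (sub_mem h.mem_CF (Submodule.smul_mem _ _ hχ.mem_CF)) fun ξ hξ => by
    rw [cfdotBl, cfdotZl, cfdot_irr hχ hξ]
    split_ifs with e
    · rw [e, mul_one, sub_self]; exact isCnat_zero
    · rw [mul_zero, sub_zero]; exact Cnat_cfdot_char h hξ.isChar

theorem IsChar.sub_of_constt (h : IsChar H φ) (hχ : IsIrr H χ) (h0 : ⟪φ, χ⟫[H] ≠ 0) :
    IsChar H (φ - χ) := by
  obtain ⟨n, hn⟩ := Cnat_cfdot_char h hχ.isChar
  obtain ⟨n, rfl⟩ := Nat.exists_eq_succ_of_ne_zero (by simpa [hn] using h0 : n ≠ 0)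
  have := (h.sub_constt hχ).add (hχ.isChar.smul (isCnat_natCast n))
  rw [hn] at this
  convert this using 1
  push_cast
  rw [add_smul, one_smul]; abel

theorem constt_charP (h : IsChar H φ) (hχ : IsIrr H χ) :
    ⟪φ, χ⟫[H] ≠ 0 ↔ ∃ ψ, IsChar H ψ ∧ φ = χ + ψ := by
  refine ⟨fun h0 => ⟨_, h.sub_of_constt hχ h0, by abel⟩, ?_⟩
  rintro ⟨ψ, hψ, rfl⟩
  obtain ⟨n, hn⟩ := Cnat_cfdot_char hψ hχ.isChar
  rw [cfdotDl, hn, cfdot_irr_self hχ]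
  exact_mod_cast (by omega : 1 + n ≠ 0)

theorem cfdot_char_eq_zero_of_add (h : IsChar H φ) (h' : IsChar H ψ) (hχ : IsChar H χ)
    (h0 : ⟪φ + ψ, χ⟫[H] = 0) : ⟪φ, χ⟫[H] = 0 ∧ ⟪ψ, χ⟫[H] = 0 := by
  obtain ⟨n, hn⟩ := Cnat_cfdot_char h hχ
  obtain ⟨m, hm⟩ := Cnat_cfdot_char h' hχ
  rw [cfdotDl, hn, hm] at h0
  have : n + m = 0 := by exact_mod_cast h0
  rw [hn, hm]
  exact ⟨by simp [show n = 0 by omega], by simp [show m = 0 by omega]⟩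

/-- `constt_cfdot`: a constituent of `φ` is orthogonal to every character orthogonal to `φ` -/
theorem cfdot_constt_eq_zero (h : IsChar H φ) (hχ : IsIrr H χ) (h0 : ⟪φ, χ⟫[H] ≠ 0)
    (hψ : IsChar H ψ) (h1 : ⟪φ, ψ⟫[H] = 0) : ⟪χ, ψ⟫[H] = 0 := by
  obtain ⟨θ, hθ, rfl⟩ := (constt_charP h hχ).1 h0
  exact (cfdot_char_eq_zero_of_add hχ.isChar hθ hψ h1).1

theorem exists_common_constt (h : φ ∈ CF H) (h1 : ⟪φ, ψ⟫[H] ≠ 0) :
    ∃ χ, IsIrr H χ ∧ ⟪φ, χ⟫[H] ≠ 0 ∧ ⟪ψ, χ⟫[H] ≠ 0 := by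
  rw [cfdot_sum_irr h] at h1
  obtain ⟨χ, hχ, h2⟩ := Finset.exists_ne_zero_of_sum_ne_zero h1
  exact ⟨χ, mem_Irr.1 hχ, left_ne_zero_of_mul h2, by simpa using right_ne_zero_of_mul h2⟩

theorem char1_ge_constt (h : IsChar H φ) (hχ : IsIrr H χ) (h0 : ⟪φ, χ⟫[H] ≠ 0) :
    (χ 1).re ≤ (φ 1).re := by
  simpa using char1_ge0 (h.sub_of_constt hχ h0)

theorem eq_of_constt_of_one_eq (h : IsChar H φ) (hχ : IsIrr H χ) (h0 : ⟪φ, χ⟫[H] ≠ 0)
    (h1 : φ 1 = χ 1) : φ = χ :=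
  sub_eq_zero.1 ((char1_eq0 (h.sub_of_constt hχ h0)).1 (by simp [h1]))

theorem IsChar.exists_constt (h : IsChar H φ) (h0 : φ ≠ 0) : ∃ χ, IsIrr H χ ∧ ⟪φ, χ⟫[H] ≠ 0 :=
  neq0_has_constt h.mem_CF h0

theorem constt_cfRes_irr (hχ : IsIrr K χ) (h : H ≤ K) :
    ∃ θ, IsIrr H θ ∧ ⟪cfRes H χ, θ⟫[H] ≠ 0 :=
  (hχ.isChar.cfRes h).exists_constt fun e => irr1_neq0 hχ (by simpa using congrFun e 1)

theorem IsChar.cfInd_ne_zero (hθ : IsChar H θ) (h0 : θ ≠ 0) (h : H ≤ K) : OO.cfInd K H θ ≠ 0 :=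
  fun e => by
    have := congrFun e 1
    rw [cfInd1 h] at this
    exact mul_ne_zero (relIndexC_ne_zero H K) (fun h => h0 ((char1_eq0 hθ).1 h)) this

theorem constt_cfInd_irr (hθ : IsIrr H θ) (h : H ≤ K) :
    ∃ χ, IsIrr K χ ∧ ⟪cfInd K H θ, χ⟫[K] ≠ 0 :=
  (hθ.isChar.cfInd h).exists_constt (hθ.isChar.cfInd_ne_zero hθ.ne_zero h)

theorem cfdot_Ind_irr (h : H ≤ K) (hθ : IsChar H θ) (hχ : IsChar K χ) :
    ⟪cfInd K H θ, χ⟫[K] = ⟪cfRes H χ, θ⟫[H] := by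
  rw [← Frobenius_reciprocity h hθ.mem_CF hχ.mem_CF, cfdotC,
    (Cnat_cfdot_char (hχ.cfRes h) hθ).conj_eq]

theorem cfdot_char_comm (h : IsChar H φ) (h' : IsChar H ψ) : ⟪φ, ψ⟫[H] = ⟪ψ, φ⟫[H] := by
  rw [cfdotC, (Cnat_cfdot_char h' h).conj_eq]

end Cfsg.Agent.OO
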