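import Mathlib
import Cfsg.Agent.Lib.OO.CF2

/-!
# CF3: kernels, linear characters, second orthogonality relation, regular character
-/

set_option autoImplicit false
set_option linter.unusedSectionVars false

namespace Cfsg.Agent.OO

open Subgroup
open scoped Pointwise ComplexConjugate commutatorElement

universe u v

variable {G : Type u} [Group G] [Finite G] {H K L N : Subgroup G} {φ ψ θ χ ξ l : G → ℂ}
  {A B : Set G}

/-! ### kernels of characters -/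

theorem cfkerEchar (h : IsChar H χ) {x : G} : x ∈ cfker H χ ↔ x ∈ H ∧ χ x = χ 1 := by
  refine ⟨fun hx => ⟨hx.1, cfker1 hx⟩, fun hx => mem_cfker_of h.mem_CF.1 hx.1 fun y hy => ?_⟩
  obtain ⟨n, ρ, hρ⟩ := h.exists_rep
  have h1 : ρ ⟨x, hx.1⟩ = 1 := (Char.rep_eq_one_iff ρ _).2 (by rw [← hρ, ← hρ]; exact hx.2)
  have h2 := hρ (⟨x, hx.1⟩ * ⟨y, hy⟩)
  rw [Representation.character, map_mul, h1, one_mul] at h2
  exact h2.trans (hρ ⟨y, hy⟩).symm

theorem re_char_le (h : IsChar H χ) (x : G) : (χ x).re ≤ (χ 1).re :=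
  (Complex.re_le_norm _).trans ((char1_ge_norm h x).trans_eq h.norm_one)

theorem eq_one_of_re_char (h : IsChar H χ) {x : G} (hx : (χ 1).re ≤ (χ x).re) : χ x = χ 1 := by
  have h1 := char1_ge_norm h x
  obtain ⟨n, hn⟩ := Cnat_char1 h
  rw [hn] at hx h1 ⊢
  simp only [Complex.natCast_re, Complex.norm_natCast] at hx h1
  have h2 := Complex.re_le_norm (χ x)
  have h3 := Complex.sq_norm (χ x)
  rw [Complex.normSq_apply, show ‖χ x‖ = (χ x).re by linarith] at h3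
  exact Complex.ext (by simp; linarith) (by simp; nlinarith)

theorem cfker_add_char (h : IsChar H φ) (h' : IsChar H ψ) :
    cfker H (φ + ψ) = cfker H φ ⊓ cfker H ψ := by
  refine le_antisymm (fun x hx => ?_) (cfker_add φ ψ)
  have h1 := congrArg Complex.re (cfker1 hx)
  simp only [Pi.add_apply, Complex.add_re] at h1
  have h2 := re_char_le h x
  have h3 := re_char_le h' x
  exact ⟨(cfkerEchar h).2 ⟨hx.1, eq_one_of_re_char h (by linarith)⟩,
    (cfkerEchar h').2 ⟨hx.1, eq_one_of_re_char h' (by linarith)⟩⟩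

theorem cfker_constt (h : IsChar H φ) (hχ : IsIrr H χ) (h0 : ⟪φ, χ⟫[H] ≠ 0) :
    cfker H φ ≤ cfker H χ := by
  obtain ⟨ψ, hψ, rfl⟩ := (constt_charP h hχ).1 h0
  rw [cfker_add_char hχ.isChar hψ]; exact inf_le_left

theorem le_cfker_of_constt (hφ : φ ∈ CF H) (hN : N ≤ H)
    (h : ∀ χ, IsIrr H χ → ⟪φ, χ⟫[H] ≠ 0 → N ≤ cfker H χ) : N ≤ cfker H φ := by
  rw [cfun_sum_constt hφ]
  refine le_cfker_sum hN fun χ hχ => ?_
  obtain ⟨h1, h2⟩ := Finset.mem_filter.1 hχ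
  rw [cfker_smul h2]; exact h χ (mem_Irr.1 h1) h2

theorem cfker_Res_char (h : IsChar K χ) (hH : H ≤ K) : cfker H (cfRes H χ) = H ⊓ cfker K χ := by
  refine le_antisymm (fun x hx => ⟨hx.1, (cfkerEchar h).2 ⟨hH hx.1, ?_⟩⟩) (cfker_Res χ)
  simpa [cfResE χ hx.1] using cfker1 hx

/-- `subGcfker` -/
theorem IsIrr.le_cfker_iff (h : IsIrr H χ) : H ≤ cfker H χ ↔ χ = cf1 H := by
  refine ⟨fun h1 => h.eq_of_cfdot_ne_zero (isIrr_cf1 H) ?_, fun e => by simp [e]⟩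
  rw [eq_smul_cf1_of_cfker h.mem_CF h1, cfdotZl, cfdot_cf1, mul_one]
  exact irr1_neq0 h

theorem IsIrr.cfdot_cf1 (h : IsIrr H χ) (hne : χ ≠ cf1 H) : ⟪χ, cf1 H⟫[H] = 0 :=
  cfdot_irr_ne h (isIrr_cf1 H) hne

theorem IsIrr.sum_eq_zero (h : IsIrr H χ) (hne : χ ≠ cf1 H) : ∑ x ∈ elts (H : Set G), χ x = 0 := by
  have := h.cfdot_cf1 hne
  rwa [cfdot_cf1r, mul_eq_zero, inv_eq_zero, or_iff_right (cardC_ne_zero H)] at this

/-- if `N ≤ H` is not contained in the kernel of the irreducible character `χ`, a function with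
`N` in its kernel is orthogonal to `χ` -/
theorem cfdot_eq_zero_of_cfker (hφ : φ ∈ CF H) (hχ : IsIrr H χ) (h1 : N ≤ cfker H φ)
    (h2 : ¬ N ≤ cfker H χ) : ⟪φ, χ⟫[H] = 0 := by
  have := Fintype.ofFinite H
  by_contra h0
  refine h2 fun n hn => mem_cfker_of hχ.mem_CF.1 (h1 hn).1 fun y hy => ?_
  have hc : IsClassFunction H fun x : H => conj (φ x) := (mem_CF_iff.1 (star_mem_CF hφ)).2
  have e1 := Char.irr_convolution hχ.star.coe (mem_CF_iff.1 hφ).2 ⟨y, hy⟩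
  have e2 := Char.irr_convolution hχ.star.coe (mem_CF_iff.1 hφ).2 (⟨n, (h1 hn).1⟩ * ⟨y, hy⟩)
  have e3 : ∑ g : H, φ g * star χ ((g * (⟨n, (h1 hn).1⟩ * ⟨y, hy⟩) : H) : G) =
      ∑ g : H, φ g * star χ ((g * ⟨y, hy⟩ : H) : G) := by
    rw [← Equiv.sum_comp (Equiv.mulRight (⟨n, (h1 hn).1⟩ : H))
      (fun g => φ g * star χ ((g * ⟨y, hy⟩ : H) : G))]
    simp [cfkerMr hφ (h1 hn), mul_assoc]
  have e4 : ∑ g : H, φ g * star χ g ≠ 0 := fun e => h0 (by
    rw [cfdot, sum_elts_subtype]; exact mul_eq_zero_of_right _ e)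
  rw [e3, e1] at e2
  exact star_injective (mul_left_cancel₀ e4 e2).symm

theorem cfker_constt' (hφ : φ ∈ CF H) (hχ : IsIrr H χ) (h0 : ⟪φ, χ⟫[H] ≠ 0) :
    cfker H φ ≤ cfker H χ := by
  by_contra h; exact h0 (cfdot_eq_zero_of_cfker hφ hχ le_rfl h)

/-- `sub_cfker_Ind_irr`, Peterfalvi (1.6)(a) -/
theorem sub_cfker_Ind (h : H ≤ K) (hN : N ≤ H) (hn : K ≤ 𝐍(N)) (hθ : IsChar H θ) :
    N ≤ cfker K (cfInd K H θ) ↔ N ≤ cfker H θ := by
  refine ⟨fun h1 => le_cfker_of_constt hθ.mem_CF hN fun ξ hξ h0 => ?_, le_cfker_cfInd h hn⟩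
  obtain ⟨χ, hχ, h2⟩ := constt_cfInd_irr hξ h
  obtain ⟨ψ, hψ, rfl⟩ := (constt_charP hθ hξ).1 h0
  rw [map_add, cfker_add_char (hξ.isChar.cfInd h) (hψ.cfInd h)] at h1
  have h3 := (h1.trans inf_le_left).trans (cfker_constt (hξ.isChar.cfInd h) hχ h2)
  rw [cfdot_Ind_irr h hξ.isChar hχ.isChar] at h2
  exact ((le_inf hN h3).trans (cfker_Res χ)).trans (cfker_constt (hχ.isChar.cfRes h) hξ h2)

theorem sub_cfker_constt_Res_irr (h : H ≤ K) (hN : N ≤ H) (hn : K ≤ 𝐍(N)) (hχ : IsIrr K χ)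
    (hθ : IsIrr H θ) (h0 : ⟪cfRes H χ, θ⟫[H] ≠ 0) : N ≤ cfker H θ ↔ N ≤ cfker K χ :=
  ⟨fun h1 => (le_cfker_cfInd h hn h1).trans (cfker_constt (hθ.isChar.cfInd h) hχ
    (by rwa [cfdot_Ind_irr h hθ.isChar hχ.isChar])),
    fun h1 => ((le_inf hN h1).trans (cfker_Res χ)).trans (cfker_constt (hχ.isChar.cfRes h) hθ h0)⟩

theorem sub_cfker_constt_Ind_irr (h : H ≤ K) (hN : N ≤ H) (hn : K ≤ 𝐍(N)) (hχ : IsIrr K χ)
    (hθ : IsIrr H θ) (h0 : ⟪cfInd K H θ, χ⟫[K] ≠ 0) : N ≤ cfker H θ ↔ N ≤ cfker K χ :=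
  sub_cfker_constt_Res_irr h hN hn hχ hθ (by rwa [← cfdot_Ind_irr h hθ.isChar hχ.isChar])

theorem cfdot_Res_cf1_of_cfker (h : N ≤ cfker H φ) : ⟪cfRes N φ, cf1 N⟫[N] = φ 1 := by
  rw [cfRes_of_le_cfker h, cfdotZl, cfdot_cf1, mul_one]

theorem constt0_Res_cfker (hN : N ⊴ H) (hχ : IsIrr H χ) :
    ⟪cfRes N χ, cf1 N⟫[N] ≠ 0 ↔ N ≤ cfker H χ :=
  ⟨fun h => (sub_cfker_constt_Res_irr hN.1 le_rfl hN.2 hχ (isIrr_cf1 N) h).1 (by simp),
    fun h => by rw [cfdot_Res_cf1_of_cfker h]; exact irr1_neq0 hχ⟩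

theorem IsIrr.sum_eq_zero_of_not_cfker (hχ : IsIrr H χ) (hN : N ⊴ H) (h : ¬ N ≤ cfker H χ) :
    ∑ x ∈ elts (N : Set G), χ x = 0 := by
  have := mt (constt0_Res_cfker hN hχ).1 h
  rwa [not_not, cfdot_cfRes_left, cfdot_cf1r, mul_eq_zero, inv_eq_zero,
    or_iff_right (cardC_ne_zero N)] at this

/-! ### second orthogonality relation -/

open Classical in
theorem second_orthogonality_relation {x y : G} (hx : x ∈ H) (hy : y ∈ H) :
    ∑ χ ∈ Irr H, χ x * conj (χ y) =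
      if ∃ h ∈ H, h * x * h⁻¹ = y then (♯(H ⊓ 𝐂[y]) : ℂ) else 0 := by
  have := Fintype.ofFinite H
  have := Fintype.ofFinite (IrrCharacter H)
  rw [sum_Irr_eq]
  simp only [Char.extendByZero_of_mem H _ hx, Char.extendByZero_of_mem H _ hy]
  convert Char.sum_irr_mul_conj (⟨x, hx⟩ : H) ⟨y, hy⟩ using 2
  · congr!
  · rw [isConj_iff]
    exact ⟨fun ⟨h, hh, e⟩ => ⟨⟨h, hh⟩, Subtype.ext e⟩,
      fun ⟨h, e⟩ => ⟨h, h.2, congrArg Subtype.val e⟩⟩
  · rw [inf_comm, ← Core.card_subgroupOf]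
    congr 3
    ext z
    simp [mem_subgroupOf, mem_centralizer_singleton_iff, Subtype.ext_iff]

theorem sum_irr_norm_sq {x : G} (hx : x ∈ H) : ∑ χ ∈ Irr H, ‖χ x‖ ^ 2 = ♯(H ⊓ 𝐂[x]) := by
  have := second_orthogonality_relation hx hx
  rw [if_pos ⟨1, H.one_mem, by simp⟩] at this
  simp only [Complex.mul_conj', ← Complex.ofReal_pow, ← Complex.ofReal_sum] at this
  exact_mod_cast this

theorem eq_irr_mem_classP {x y : G} (hx : x ∈ H) (hy : y ∈ H)
    (h : ∀ χ, IsIrr H χ → χ x = χ y) : ∃ h ∈ H, h * x * h⁻¹ = y := by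
  by_contra h0
  have h1 := second_orthogonality_relation hx hy
  have h2 := second_orthogonality_relation hy hy
  rw [if_neg h0, Finset.sum_congr rfl fun χ hχ => by rw [h χ (mem_Irr.1 hχ)], h2,
    if_pos ⟨1, H.one_mem, by simp⟩] at h1
  exact cardC_ne_zero _ h1

theorem exists_irr_not_mem_cfker {x : G} (hx : x ∈ H) (h1 : x ≠ 1) :
    ∃ χ, IsIrr H χ ∧ x ∉ cfker H χ := by
  by_contra h
  push Not at h
  obtain ⟨g, -, e⟩ := eq_irr_mem_classP H.one_mem hx fun χ hχ => (cfker1 (h χ hχ)).symm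
  exact h1 (by simpa using e.symm)

theorem exists_irr_ne_cf1 (h : H ≠ ⊥) : ∃ χ, IsIrr H χ ∧ χ ≠ cf1 H := by
  obtain ⟨⟨x, hx⟩, h1⟩ := (ne_bot_iff_exists_ne_one).1 h
  obtain ⟨χ, hχ, h2⟩ := exists_irr_not_mem_cfker hx (by simpa using h1)
  exact ⟨χ, hχ, fun e => h2 (by simpa [e] using hx)⟩

theorem NirrE (H : Subgroup G) : (Irr H).card = Nat.card (ConjClasses H) := by
  have := Fintype.ofFinite (IrrCharacter H)
  rw [← Char.card_irr_eq_card_conjClasses, Finset.card_eq_sum_ones, sum_Irr_eq,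
    Nat.card_eq_fintype_card]
  simp

open Classical in
/-- the regular character -/
noncomputable def cfReg (H : Subgroup G) : G → ℂ := fun x => if x = 1 then (♯H : ℂ) else 0

theorem cfReg_one (H : Subgroup G) : cfReg H 1 = ♯H := if_pos rfl

theorem cfReg_of_ne (H : Subgroup G) {x : G} (hx : x ≠ 1) : cfReg H x = 0 := if_neg hx

theorem cfReg_mem_CF (H : Subgroup G) : cfReg H ∈ CF H :=
  ⟨fun x hx => cfReg_of_ne H fun e => hx (e ▸ H.one_mem), fun h _ x => by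
    by_cases hx : x = 1
    · simp [hx]
    · rw [cfReg_of_ne H hx, cfReg_of_ne H (by simpa using hx)]⟩

theorem cfdot_cfReg (φ : G → ℂ) : ⟪φ, cfReg H⟫[H] = φ 1 := by
  rw [cfdot, Finset.sum_eq_single_of_mem 1 (by simp) fun x _ hx => by simp [cfReg_of_ne H hx],
    cfReg_one, map_natCast, mul_comm, mul_inv_cancel_right₀ (cardC_ne_zero H)]

theorem cfReg_sum (H : Subgroup G) : cfReg H = ∑ χ ∈ Irr H, χ 1 • χ := by
  rw [cfun_sum_cfdot (cfReg_mem_CF H)]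
  exact Finset.sum_congr rfl fun χ h => by
    rw [cfdotC, cfdot_cfReg, (Cnat_char1 (mem_Irr.1 h).isChar).conj_eq]

theorem isChar_cfReg (H : Subgroup G) : IsChar H (cfReg H) := by
  rw [cfReg_sum]
  exact isChar_sum fun χ h => (mem_Irr.1 h).isChar.smul (Cnat_char1 (mem_Irr.1 h).isChar)

theorem irr_sum_square (H : Subgroup G) : ∑ χ ∈ Irr H, χ 1 ^ 2 = ♯H := by
  rw [← cfReg_one, cfReg_sum]; simp [sq]

theorem cfInd_bot (H : Subgroup G) : cfInd H ⊥ (cf1 ⊥) = cfReg H := by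
  rw [cfInd_cfun1 (NormalIn.bot H), relIndex_bot_left]
  ext x
  by_cases hx : x = 1
  · simp [hx, cfReg_one]
  · simp [cfReg_of_ne H hx, cf1_of_not_mem (H := ⊥) (by simpa using hx)]

open Classical in
/-- the regular character of `H / N`, inflated to `H` -/
theorem sum_irr_cfker (hN : N ⊴ H) :
    ∑ χ ∈ (Irr H).filter fun χ => N ≤ cfker H χ, χ 1 • χ = (N.relIndex H : ℂ) • cf1 N := by
  rw [← cfInd_cfun1 hN, cfun_sum_cfdot (cfInd_mem_CF H N (cf1 N)), Finset.sum_filter]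
  refine Finset.sum_congr rfl fun χ h => ?_
  rw [cfdot_Ind_irr hN.1 (isChar_cf1 N) (mem_Irr.1 h).isChar]
  split_ifs with h1
  · rw [cfdot_Res_cf1_of_cfker h1]
  · rw [not_not.1 (mt (constt0_Res_cfker hN (mem_Irr.1 h)).1 h1), zero_smul]

open Classical in
theorem sum_irr_cfker_square (hN : N ⊴ H) :
    ∑ χ ∈ (Irr H).filter fun χ => N ≤ cfker H χ, χ 1 ^ 2 = N.relIndex H := by
  simpa [sq] using congrFun (sum_irr_cfker hN) 1

theorem exists_irr_cfker_not_mem (hN : N ⊴ H) {x : G} (hx : x ∉ N) :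
    ∃ χ, IsIrr H χ ∧ N ≤ cfker H χ ∧ x ∉ cfker H χ := by
  classical
  by_contra h
  push Not at h
  have h1 := congrFun (sum_irr_cfker hN) x
  have h2 := congrFun (sum_irr_cfker hN) 1
  simp only [Finset.sum_apply, Pi.smul_apply, cf1_of_not_mem hx, cf1_one, smul_eq_mul] at h1 h2
  rw [Finset.sum_congr rfl fun χ hχ => by
    rw [cfker1 (h χ (mem_Irr.1 (Finset.mem_filter.1 hχ).1) (Finset.mem_filter.1 hχ).2)], h2] at h1
  exact relIndexC_ne_zero N H (by simpa using h1)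

theorem exists_irr_cfker_not_le (hN : N ⊴ H) (h : ¬ K ≤ N) :
    ∃ χ, IsIrr H χ ∧ N ≤ cfker H χ ∧ ¬ K ≤ cfker H χ := by
  obtain ⟨x, hx, hxN⟩ := SetLike.not_le_iff_exists.1 h
  obtain ⟨χ, h1, h2, h3⟩ := exists_irr_cfker_not_mem hN hxN
  exact ⟨χ, h1, h2, fun h4 => h3 (h4 hx)⟩

/-! ### linear characters -/

theorem IsLinChar.one (h : IsLinChar H l) : l 1 = 1 := h.2

theorem lin_charM (h : IsLinChar H l) {x y : G} (hx : x ∈ H) (hy : y ∈ H) :
    l (x * y) = l x * l y := by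
  obtain ⟨f, hf⟩ := Char.exists_hom_of_one (G := H) h.1.coe h.2
  have := fun z => congrFun hf z
  exact (this (⟨x, hx⟩ * ⟨y, hy⟩)).trans (by rw [map_mul, ← this, ← this])

theorem lin_charMl (h : IsLinChar H l) {x : G} (hx : x ∈ H) (y : G) : l (x * y) = l x * l y := by
  by_cases hy : y ∈ H
  · exact lin_charM h hx hy
  · rw [cfun0 h.mem_CF hy, cfun0 h.mem_CF (by rwa [H.mul_mem_cancel_left hx]), mul_zero]

/-- a linear character as a homomorphism -/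
def IsLinChar.hom (h : IsLinChar H l) : H →* ℂ where
  toFun x := l x
  map_one' := h.2
  map_mul' x y := lin_charM h x.2 y.2

theorem isIrr_of_mul (h0 : l ∈ suppOn (H : Set G)) (h1 : l 1 = 1)
    (h : ∀ x ∈ H, ∀ y ∈ H, l (x * y) = l x * l y) : IsIrr H l :=
  isIrr_iff.2 ⟨h0, Char.isIrrCharacter_of_hom
    ({ toFun := fun x => l x, map_one' := h1, map_mul' := fun x y => h x x.2 y y.2 } : H →* ℂ)⟩

theorem isLinChar_of_mul (h0 : l ∈ suppOn (H : Set G)) (h1 : l 1 = 1)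
    (h : ∀ x ∈ H, ∀ y ∈ H, l (x * y) = l x * l y) : IsLinChar H l :=
  ⟨(isIrr_of_mul h0 h1 h).isChar, h1⟩

theorem isLinChar_of_hom (f : H →* ℂ) : IsLinChar H (extendByZero H f) :=
  ⟨⟨_, Char.isCharacter_of_irr (Char.isIrrCharacter_of_hom f), rfl⟩, by
    rw [Char.extendByZero_of_mem H _ H.one_mem]; exact f.map_one⟩

theorem IsLinChar.isIrr (h : IsLinChar H l) : IsIrr H l :=
  isIrr_of_mul h.mem_CF.1 h.2 fun _ hx _ hy => lin_charM h hx hy

theorem IsIrr.isLinChar (h : IsIrr H χ) (h1 : χ 1 = 1) : IsLinChar H χ := ⟨h.isChar, h1⟩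

theorem isLinChar_cf1 (H : Subgroup G) : IsLinChar H (cf1 H) := ⟨isChar_cf1 H, cf1_one H⟩

theorem lin_charX (h : IsLinChar H l) {x : G} (hx : x ∈ H) (n : ℕ) : l (x ^ n) = l x ^ n :=
  map_pow h.hom ⟨x, hx⟩ n

theorem lin_char_unity_root (h : IsLinChar H l) {x : G} (hx : x ∈ H) : l x ^ orderOf x = 1 := by
  rw [← lin_charX h hx, pow_orderOf_eq_one, h.2]

theorem normC_lin_char (h : IsLinChar H l) {x : G} (hx : x ∈ H) : ‖l x‖ = 1 :=
  Char.norm_eq_one_of_pow_eq_one (orderOf_pos x).ne' (lin_char_unity_root h hx)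

theorem lin_char_neq0 (h : IsLinChar H l) {x : G} (hx : x ∈ H) : l x ≠ 0 := fun e => by
  simpa [e] using normC_lin_char h hx

theorem lin_char_mul_conj (h : IsLinChar H l) {x : G} (hx : x ∈ H) : l x * conj (l x) = 1 := by
  rw [Complex.mul_conj', normC_lin_char h hx]; simp

theorem lin_charV (h : IsLinChar H l) {x : G} (hx : x ∈ H) : l x⁻¹ = (l x)⁻¹ := by
  rw [char_inv h.1]; exact eq_inv_of_mul_eq_one_right (lin_char_mul_conj h hx)

theorem lin_char_zpow (h : IsLinChar H l) {x : G} (hx : x ∈ H) (n : ℤ) : l (x ^ n) = l x ^ n := by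
  rcases n with n | n
  · simpa using lin_charX h hx n
  · rw [zpow_negSucc, zpow_negSucc, lin_charV h (pow_mem hx _), lin_charX h hx]

/-- `mul_conjC_lin_char` -/
theorem IsLinChar.mul_star (h : IsLinChar H l) : l * star l = cf1 H :=
  cfun_ext (mul_mem_CF h.mem_CF (star_mem_CF h.mem_CF)) (cf1_mem_CF H) fun _ hx => by
    rw [cf1E hx]; exact lin_char_mul_conj h hx

theorem IsLinChar.star_mul (h : IsLinChar H l) : star l * l = cf1 H := by
  rw [mul_comm, h.mul_star]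

theorem IsLinChar.mul (h : IsLinChar H l) (h' : IsLinChar H χ) : IsLinChar H (l * χ) :=
  ⟨h.1.mul h'.1, by simp [h.2, h'.2]⟩
theorem IsLinChar.pow (h : IsLinChar H l) {n : ℕ} (hn : n ≠ 0) : IsLinChar H (l ^ n) :=
  ⟨h.1.pow hn, by simp [h.2]⟩
theorem IsLinChar.star (h : IsLinChar H l) : IsLinChar H (star l) := ⟨h.1.star, by simp [h.2]⟩
theorem IsLinChar.cfAut (h : IsLinChar H l) (u : ℂ ≃+* ℂ) : IsLinChar H (cfAut u l) :=
  ⟨h.1.cfAut u, by simp [cfAutE, h.2]⟩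
theorem IsLinChar.cfRes (h : IsLinChar K l) (hH : H ≤ K) : IsLinChar H (cfRes H l) :=
  ⟨h.1.cfRes hH, by simp [h.2]⟩
theorem IsLinChar.cfConjg (h : IsLinChar H l) {g : G} (hg : g ∈ 𝐍(H)) :
    IsLinChar H (cfConjg g l) := ⟨h.1.cfConjg hg, by simp [h.2]⟩

theorem cfdot_mul_lin (h : IsLinChar H l) (φ ψ : G → ℂ) : ⟪l * φ, l * ψ⟫[H] = ⟪φ, ψ⟫[H] := by
  rw [cfdot_mul_right]
  refine cfdot_congr (fun x hx => ?_) fun _ _ => rfl
  rw [Pi.mul_apply, Pi.mul_apply, mul_right_comm, cfConjCE, lin_char_mul_conj h hx, one_mul]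

theorem mul_lin_irr (h : IsLinChar H l) (hχ : IsIrr H χ) : IsIrr H (l * χ) :=
  (h.1.mul hχ.isChar).isIrr_of_cfdot (by rw [cfdot_mul_lin h, cfdot_irr_self hχ])

theorem IsLinChar.star_mul_mul (h : IsLinChar H l) (hφ : φ ∈ CF H) : Star.star l * (l * φ) = φ := by
  rw [← mul_assoc, h.star_mul, cf1_mul hφ]

theorem IsLinChar.mul_cancel (h : IsLinChar H l) (hφ : φ ∈ CF H) (hψ : ψ ∈ CF H)
    (e : l * φ = l * ψ) : φ = ψ := by rw [← h.star_mul_mul hφ, e, h.star_mul_mul hψ]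

theorem mem_cfker_lin (h : IsLinChar H l) {x : G} : x ∈ cfker H l ↔ l x = 1 := by
  rw [cfkerEchar h.1, h.2]
  exact ⟨fun h => h.2, fun h' => ⟨by_contra fun hx => by simp [cfun0 h.mem_CF hx] at h', h'⟩⟩

theorem lin_char_der1 (h : IsLinChar H l) : der H ≤ cfker H l := by
  refine commutator_le.2 fun x hx y hy => (mem_cfker_lin h).2 ?_
  rw [commutatorElement_def, lin_charMl h (H.mul_mem (H.mul_mem hx hy) (inv_mem hx)),
    lin_charMl h (H.mul_mem hx hy), lin_charM h hx hy, lin_charV h hx, lin_charV h hy]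
  have := lin_char_neq0 h hx
  have := lin_char_neq0 h hy
  field_simp

/-- an element central modulo the kernel acts as a scalar -/
theorem IsIrr.exists_scalar (hχ : IsIrr H χ) {z : G} (hz : z ∈ H)
    (h : ∀ y ∈ H, z * y * z⁻¹ * y⁻¹ ∈ cfker H χ) : ∃ c : ℂ, ∀ y, χ (z * y) = c * χ y := by
  obtain ⟨n, ρ, hi, hρ⟩ := hχ.exists_rep
  obtain ⟨c, hc⟩ := Char.schur_scalar ρ hi (ρ ⟨z, hz⟩) fun g => by
    have h1 : ρ (⟨z, hz⟩ * g * (⟨z, hz⟩ : H)⁻¹ * g⁻¹) = 1 := (Char.rep_eq_one_iff ρ _).2 (by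
      rw [← hρ, ← hρ]; exact cfker1 (h g g.2))
    rw [← map_mul, ← map_mul, ← one_mul (ρ (g * _)), ← h1, ← map_mul]
    congr 1; group
  refine ⟨c, fun y => ?_⟩
  by_cases hy : y ∈ H
  · have h2 := hρ (⟨z, hz⟩ * ⟨y, hy⟩)
    rw [Representation.character, map_mul, hc, smul_mul_assoc, one_mul, map_smul] at h2
    exact h2.trans (congrArg (c * ·) (hρ ⟨y, hy⟩).symm)
  · rw [cfun0 hχ.mem_CF hy, cfun0 hχ.mem_CF (by rwa [H.mul_mem_cancel_left hz]), mul_zero]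

/-- `cfcenter_Res`: the restriction to a subgroup central modulo the kernel -/
theorem IsIrr.exists_lin_of_central (hχ : IsIrr H χ) {Z : Subgroup G} (hZ : Z ≤ H)
    (h : ⁅Z, H⁆ ≤ cfker H χ) : ∃ l, IsLinChar Z l ∧ cfRes Z χ = χ 1 • l ∧
      ∀ z ∈ Z, ∀ y, χ (z * y) = l z * χ y := by
  have h0 := irr1_neq0 hχ
  have h1 : ∀ z ∈ Z, ∀ y, χ (z * y) = (χ 1)⁻¹ * χ z * χ y := fun z hz y => by
    obtain ⟨c, hc⟩ := hχ.exists_scalar (hZ hz) fun y hy => h (commutator_mem_commutator hz hy)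
    have := hc 1
    rw [mul_one] at this
    rw [hc, this]; field_simp
  refine ⟨(χ 1)⁻¹ • cfRes Z χ, isLinChar_of_mul (Submodule.smul_mem _ _ (cfRes_mem_suppOn χ))
    (by simp [h0]) fun x hx y hy => ?_, by rw [smul_smul, mul_inv_cancel₀ h0, one_smul],
    fun z hz y => by rw [h1 z hz]; simp [cfResE χ hz]⟩
  simp only [Pi.smul_apply, smul_eq_mul, cfResE χ hx, cfResE χ hy, cfResE χ (Z.mul_mem hx hy),
    h1 x hx y]
  ring

theorem cfnorm_lin (h : IsLinChar H l) : cfnorm H l = 1 := cfnorm_irr h.isIrr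

/-- `irr1_bound` -/
theorem irr1_bound (hχ : IsIrr H χ) {Z : Subgroup G} (hZ : Z ≤ H) (h : ⁅Z, H⁆ ≤ cfker H χ) :
    (χ 1).re ^ 2 ≤ Z.relIndex H := by
  obtain ⟨l, hl, e, -⟩ := hχ.exists_lin_of_central hZ h
  have := cfnorm_Res_le hZ χ
  rwa [← cfnorm_cfRes, e, cfnormZ, cfnorm_lin hl, cfnorm_irr hχ, mul_one, mul_one,
    hχ.isChar.norm_one] at this

theorem lin_irr_der1 (hχ : IsIrr H χ) (h : der H ≤ cfker H χ) : IsLinChar H χ := by
  have h1 := irr1_bound hχ le_rfl h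
  obtain ⟨n, hn, e⟩ := hχ.exists_one
  rw [e, relIndex_self] at h1
  have h2 : n ^ 2 ≤ 1 := by exact_mod_cast h1
  refine ⟨hχ.isChar, ?_⟩
  rw [e, show n = 1 by nlinarith, Nat.cast_one]

/-- `char_abelianP` -/
theorem irr_abelian_lin (h : Ab H) (hχ : IsIrr H χ) : IsLinChar H χ :=
  lin_irr_der1 hχ (by rw [ab_iff_der.1 h]; exact bot_le)

theorem irr_cyclic_lin (h : IsCyclic H) (hχ : IsIrr H χ) : IsLinChar H χ :=
  irr_abelian_lin inferInstance hχ

theorem irr_prime_lin (h : (♯H).Prime) (hχ : IsIrr H χ) : IsLinChar H χ :=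
  have := Fact.mk h
  irr_cyclic_lin (isCyclic_of_prime_card rfl) hχ

theorem ab_of_forall_lin (h : ∀ χ, IsIrr H χ → χ 1 = 1) : Ab H := by
  rw [ab_iff_der, eq_bot_iff]
  intro x hx
  by_contra h1
  obtain ⟨χ, hχ, h2⟩ := exists_irr_not_mem_cfker (der_le H hx) h1
  exact h2 (lin_char_der1 ⟨hχ.isChar, h χ hχ⟩ hx)

theorem card_Irr_abelian (h : Ab H) : (Irr H).card = ♯H := by
  have := irr_sum_square H
  rw [Finset.sum_congr rfl fun χ hχ => by rw [(irr_abelian_lin h (mem_Irr.1 hχ)).2, one_pow]] at this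
  simpa using this

open Classical in
theorem card_irr_cfker_of_der_le (hN : N ⊴ H) (h : der H ≤ N) :
    ((Irr H).filter fun χ => N ≤ cfker H χ).card = N.relIndex H := by
  have := sum_irr_cfker_square hN
  rw [Finset.sum_congr rfl fun χ hχ => by
    rw [(lin_irr_der1 (mem_Irr.1 (Finset.mem_filter.1 hχ).1)
      (h.trans (Finset.mem_filter.1 hχ).2)).2, one_pow]] at this
  simpa using this

open Classical in
theorem card_lin_irr (H : Subgroup G) :
    ((Irr H).filter fun χ => χ 1 = 1).card = (der H).relIndex H := by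
  rw [← card_irr_cfker_of_der_le (der_normal H) le_rfl]
  congr 1
  exact Finset.filter_congr fun χ hχ => ⟨fun h => lin_char_der1 ⟨(mem_Irr.1 hχ).isChar, h⟩,
    fun h => (lin_irr_der1 (mem_Irr.1 hχ) h).2⟩

/-- a nontrivial linear character with a given kernel condition -/
theorem exists_lin_char_cfker (hN : N ⊴ H) (h : der H ≤ N) {x : G} (hx : x ∉ N) :
    ∃ l, IsLinChar H l ∧ N ≤ cfker H l ∧ x ∉ cfker H l := by
  obtain ⟨χ, h1, h2, h3⟩ := exists_irr_cfker_not_mem hN hx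
  exact ⟨χ, lin_irr_der1 h1 (h.trans h2), h2, h3⟩

/-- `solvable_has_lin_char` -/
theorem exists_lin_char_ne_cf1 (h : der H ≠ H) : ∃ l, IsLinChar H l ∧ l ≠ cf1 H := by
  obtain ⟨x, hx, hx'⟩ := SetLike.exists_of_lt (lt_of_le_of_ne (der_normal H).1 h)
  obtain ⟨l, h1, -, h2⟩ := exists_lin_char_cfker (der_normal H) le_rfl hx'
  exact ⟨l, h1, fun e => h2 (by simpa [e] using hx)⟩

/-- in an abelian group linear characters of subgroups extend -/
theorem extend_lin_char_of_der_le (h : K ≤ H) (hl : IsLinChar K l) (hd : der H ≤ cfker K l) :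
    ∃ χ, IsLinChar H χ ∧ cfRes K χ = l := by
  obtain ⟨χ, hχ, h0⟩ := constt_cfInd_irr hl.isIrr h
  have h1 := lin_irr_der1 hχ ((sub_cfker_constt_Ind_irr h (hd.trans (cfker_le _ _))
    (der_normal H).2 hχ hl.isIrr h0).1 hd)
  rw [cfdot_Ind_irr h hl.1 hχ.isChar] at h0
  exact ⟨χ, h1, (h1.cfRes h).isIrr.eq_of_cfdot_ne_zero hl.isIrr h0⟩

theorem IsLinChar.ext_zpowers {x : G} (h : IsLinChar (zpowers x) l) (h' : IsLinChar (zpowers x) χ)
    (e : l x = χ x) : l = χ :=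
  cfun_ext h.mem_CF h'.mem_CF fun _ ⟨n, hn⟩ => by
    rw [← hn, lin_char_zpow h (mem_zpowers x), lin_char_zpow h' (mem_zpowers x), e]

/-- a linear character of a cyclic group with a prescribed value at a generator -/
theorem exists_lin_char_zpowers (x : G) {ε : ℂ} (hε : ε ^ orderOf x = 1) :
    ∃ l, IsLinChar (zpowers x) l ∧ l x = ε := by
  classical
  have hinj : Set.InjOn (fun χ : G → ℂ => χ x) (Irr (zpowers x)) := fun _ h _ h' e =>
    (irr_cyclic_lin inferInstance (mem_Irr.1 h)).ext_zpowers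
      (irr_cyclic_lin inferInstance (mem_Irr.1 h')) e
  have h1 : (Irr (zpowers x)).image (fun χ => χ x) ⊆
      Polynomial.nthRootsFinset (orderOf x) (1 : ℂ) := fun a ha => by
    obtain ⟨χ, h, rfl⟩ := Finset.mem_image.1 ha
    exact (Polynomial.mem_nthRootsFinset (orderOf_pos x) _).2
      (lin_char_unity_root (irr_cyclic_lin inferInstance (mem_Irr.1 h)) (mem_zpowers x))
  have h2 := Finset.eq_of_subset_of_card_le h1 (by
    rw [Finset.card_image_of_injOn hinj, card_Irr_abelian inferInstance, Nat.card_zpowers,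
      (Complex.isPrimitiveRoot_exp _ (orderOf_pos x).ne').card_nthRootsFinset])
  obtain ⟨χ, h, e⟩ := Finset.mem_image.1
    (h2.ge ((Polynomial.mem_nthRootsFinset (orderOf_pos x) _).2 hε))
  exact ⟨χ, irr_cyclic_lin inferInstance (mem_Irr.1 h), e⟩

/-! ### the order of a linear character -/

/-- `#[φ]%CF` -/
noncomputable def cforder (H : Subgroup G) (φ : G → ℂ) : ℕ := orderOf fun x : H => φ x

omit [Finite G] in
theorem cforder_dvd_iff {n : ℕ} : cforder H φ ∣ n ↔ ∀ x ∈ H, φ x ^ n = 1 := by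
  rw [cforder, orderOf_dvd_iff_pow_eq_one, funext_iff]; simp

omit [Finite G] in
theorem pow_cforder (φ : G → ℂ) {x : G} (hx : x ∈ H) : φ x ^ cforder H φ = 1 :=
  cforder_dvd_iff.1 dvd_rfl x hx

theorem cforder_lin_char_dvd_expo (h : IsLinChar H l) : cforder H l ∣ expo H :=
  cforder_dvd_iff.2 fun x hx => by
    rw [← lin_charX h hx, show x ^ expo H = 1 from
      congrArg Subtype.val (Monoid.pow_exponent_eq_one (⟨x, hx⟩ : H)), h.2]

theorem cforder_lin_char_dvdG (h : IsLinChar H l) : cforder H l ∣ ♯H :=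
  (cforder_lin_char_dvd_expo h).trans Group.exponent_dvd_nat_card

theorem cforder_lin_char_gt0 (h : IsLinChar H l) : 0 < cforder H l :=
  Nat.pos_of_dvd_of_pos (cforder_lin_char_dvdG h) Nat.card_pos

theorem cforder_dvd_relIndex (h : IsLinChar H l) (hN : N ≤ cfker H l) :
    cforder H l ∣ N.relIndex H := by
  refine Dvd.dvd.trans (cforder_dvd_iff.2 fun x hx => ?_) (relIndex_dvd_of_le_left H hN)
  have : ((cfker H l).subgroupOf H).Normal :=
    Core.normal_subgroupOf_of_le_normalizer (cfker_normal h.mem_CF).2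
  rw [← lin_charX h hx]
  exact (mem_cfker_lin h).1 (((cfker H l).subgroupOf H).pow_index_mem ⟨x, hx⟩)

theorem cforder_eq_one_iff (hφ : φ ∈ CF H) : cforder H φ = 1 ↔ φ = cf1 H := by
  rw [← Nat.dvd_one, cforder_dvd_iff]
  exact ⟨fun h => cfun_ext hφ (cf1_mem_CF H) fun x hx => by simpa [cf1E hx] using h x hx,
    fun e x hx => by simp [e, cf1E hx]⟩

theorem pow_eq_cf1_iff (hφ : φ ∈ CF H) {n : ℕ} (hn : n ≠ 0) : φ ^ n = cf1 H ↔ cforder H φ ∣ n := by
  rw [cforder_dvd_iff]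
  exact ⟨fun e x hx => by simpa [cf1E hx] using congrFun e x,
    fun h => cfun_ext (pow_mem_CF hφ hn) (cf1_mem_CF H) fun x hx => by simpa [cf1E hx] using h x hx⟩

omit [Finite G] in
theorem cforder_cfAut (u : ℂ ≃+* ℂ) (φ : G → ℂ) : cforder H (cfAut u φ) = cforder H φ :=
  Nat.dvd_right_iff_eq.1 fun n => by
    simp only [cforder_dvd_iff, cfAutE, ← map_pow, EmbeddingLike.map_eq_one_iff]

omit [Finite G] in
theorem cforder_star (φ : G → ℂ) : cforder H (star φ) = cforder H φ := cforder_cfAut conjAut φ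

theorem cforder_cfRes_dvd (h : K ≤ H) (φ : G → ℂ) : cforder K (cfRes K φ) ∣ cforder H φ :=
  cforder_dvd_iff.2 fun x hx => by rw [cfResE φ hx, pow_cforder φ (h hx)]

end Cfsg.Agent.OO
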