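import Mathlib
import Cfsg.Agent.Lib.OO.CF3

/-!
# CF4: virtual characters, orthogonal sets, isometries (mathcomp `vcharacter.v`)
-/

set_option autoImplicit false
set_option linter.unusedSectionVars false

namespace Cfsg.Agent.OO

open Subgroup
open scoped Pointwise ComplexConjugate

universe u v

variable {G : Type u} [Group G] [Finite G] {H K L N Γ : Subgroup G} {φ ψ θ χ ξ α β : G → ℂ}
  {A B : Set G} {S T : Finset (G → ℂ)}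

/-! ### integral spans -/

section Span
omit [Group G] [Finite G]

theorem mem_zchar (h : φ ∈ S) : φ ∈ Zspan S := Submodule.subset_span h

theorem mem_ZspanOn : φ ∈ ZspanOn S A ↔ φ ∈ Zspan S ∧ φ ∈ suppOn A := Iff.rfl

theorem mem_zchar_on (h : φ ∈ S) (hA : φ ∈ suppOn A) : φ ∈ ZspanOn S A := ⟨mem_zchar h, hA⟩

theorem zcharW (h : φ ∈ ZspanOn S A) : φ ∈ Zspan S := h.1

theorem zchar_on (h : φ ∈ ZspanOn S A) : φ ∈ suppOn A := h.2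

theorem zchar_onS (h : A ⊆ B) : ZspanOn S A ≤ ZspanOn S B := fun _ hφ => ⟨hφ.1, suppOn_mono h hφ.2⟩

theorem zchar_trans (h : ∀ ξ ∈ S, ξ ∈ Zspan T) : Zspan S ≤ Zspan T := Submodule.span_le.2 h

theorem zchar_trans_on (h : ∀ ξ ∈ S, ξ ∈ Zspan T) : ZspanOn S A ≤ ZspanOn T A :=
  fun _ hφ => ⟨zchar_trans h hφ.1, hφ.2⟩

theorem zchar_subset (h : S ⊆ T) : Zspan S ≤ Zspan T := zchar_trans fun _ hξ => mem_zchar (h hξ)

theorem zchar_subset_on (h : S ⊆ T) : ZspanOn S A ≤ ZspanOn T A :=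
  fun _ hφ => ⟨zchar_subset h hφ.1, hφ.2⟩

theorem zchar_expansion : φ ∈ Zspan S ↔ ∃ z : (G → ℂ) → ℤ, φ = ∑ ξ ∈ S, z ξ • ξ := by
  rw [Zspan, Submodule.mem_span_finset]
  exact ⟨fun ⟨z, _, h⟩ => ⟨z, h.symm⟩, fun ⟨z, h⟩ => by
    classical
    exact ⟨fun ξ => if ξ ∈ S then z ξ else 0, fun ξ hξ => by_contra fun h' => hξ (if_neg h'),
      by rw [h]; exact Finset.sum_congr rfl fun ξ hξ => by simp [hξ]⟩⟩

theorem Zspan.induction {P : (G → ℂ) → Prop} (h : φ ∈ Zspan S) (h0 : P 0) (hS : ∀ ξ ∈ S, P ξ)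
    (hsub : ∀ a b, a ∈ Zspan S → b ∈ Zspan S → P a → P b → P (a - b)) : P φ := by
  have hneg : ∀ a ∈ Zspan S, P a → P (-a) := fun a ha h => by
    simpa using hsub 0 a (zero_mem _) ha h0 h
  have hadd : ∀ a b, a ∈ Zspan S → b ∈ Zspan S → P a → P b → P (a + b) := fun a b ha hb h h' => by
    simpa using hsub a (-b) ha (neg_mem hb) h (hneg b hb h')
  induction h using Submodule.span_induction with
  | mem x hx => exact hS x hx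
  | zero => exact h0
  | add x y hx hy h h' => exact hadd x y hx hy h h'
  | smul a x hx h =>
    induction a using Int.induction_on with
    | zero => simpa using h0
    | succ n ih => rw [add_smul, one_smul]; exact hadd _ _ (Submodule.smul_mem _ _ hx) hx ih h
    | pred n ih => rw [sub_smul, one_smul]; exact hsub _ _ (Submodule.smul_mem _ _ hx) hx ih h

theorem zchar_span (h : φ ∈ Zspan S) : φ ∈ Submodule.span ℂ (S : Set (G → ℂ)) :=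
  Submodule.span_le_restrictScalars ℤ ℂ _ h

theorem Zspan_le {M : Submodule ℂ (G → ℂ)} (hS : ∀ ξ ∈ S, ξ ∈ M) (h : φ ∈ Zspan S) : φ ∈ M :=
  (Submodule.span_le.2 hS : Submodule.span ℂ (S : Set (G → ℂ)) ≤ M) (zchar_span h)

theorem scale_zchar {M : Submodule ℤ (G → ℂ)} {c : ℂ} (hc : IsCint c) (h : φ ∈ M) : c • φ ∈ M := by
  obtain ⟨n, rfl⟩ := hc
  rw [Int.cast_smul_eq_zsmul]; exact M.smul_mem n h

theorem map_zchar {G' : Type*} {M : Submodule ℤ (G' → ℂ)} (f : (G → ℂ) →+ (G' → ℂ))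
    (hS : ∀ ξ ∈ S, f ξ ∈ M) (h : φ ∈ Zspan S) : f φ ∈ M :=
  Zspan.induction (P := fun φ => f φ ∈ M) h (by simp) hS fun a b _ _ ha hb => by
    rw [map_sub]; exact sub_mem ha hb

theorem eq_on_zchar {V : Type*} [AddCommGroup V] {f g : (G → ℂ) →+ V} (hS : ∀ ξ ∈ S, f ξ = g ξ)
    (h : φ ∈ Zspan S) : f φ = g φ :=
  Zspan.induction (P := fun φ => f φ = g φ) h (by simp) hS fun a b _ _ ha hb => by
    rw [map_sub, map_sub, ha, hb]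

theorem cfAut_zchar (u : ℂ ≃+* ℂ) (hS : ∀ ξ ∈ S, cfAut u ξ ∈ S) (h : φ ∈ Zspan S) :
    cfAut u φ ∈ Zspan S :=
  map_zchar (cfAutR u).toAddMonoidHom (fun ξ hξ => mem_zchar (hS ξ hξ)) h

theorem star_zchar (hS : ∀ ξ ∈ S, star ξ ∈ S) (h : φ ∈ Zspan S) : star φ ∈ Zspan S :=
  cfAut_zchar conjAut hS h

theorem Cint_zchar_apply {x : G} (hS : ∀ ξ ∈ S, IsCint (ξ x)) (h : φ ∈ Zspan S) : IsCint (φ x) :=
  Zspan.induction (P := fun φ => IsCint (φ x)) h isCint_zero hS fun _ _ _ _ => IsCint.sub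

end Span

theorem zcharD1E (hS : ∀ ξ ∈ S, ξ ∈ CF H) : φ ∈ ZspanOn S (sharp H) ↔ φ ∈ Zspan S ∧ φ 1 = 0 :=
  and_congr_right fun h => mem_suppOn_sharp (Zspan_le hS h).1

theorem zchar_mem_CF (hS : ∀ ξ ∈ S, ξ ∈ CF H) (h : φ ∈ Zspan S) : φ ∈ CF H := Zspan_le hS h

theorem zchar_mem_CFon (hS : ∀ ξ ∈ S, ξ ∈ CF H) (h : φ ∈ ZspanOn S A) : φ ∈ CFon H A :=
  ⟨Zspan_le hS h.1, h.2⟩

theorem cfdot_zchar_eq_zero (h : φ ∈ Zspan S) (h0 : ∀ ξ ∈ S, ⟪ξ, ψ⟫[H] = 0) : ⟪φ, ψ⟫[H] = 0 :=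
  cfdot_span_eq_zero h h0

theorem Orth.cfdot_zchar (h : Orth H S T) (hφ : φ ∈ Zspan S) (hψ : ψ ∈ Zspan T) :
    ⟪φ, ψ⟫[H] = 0 :=
  cfdot_zchar_eq_zero hφ fun ξ hξ => cfdot_symm0 (cfdot_zchar_eq_zero hψ fun η hη =>
    cfdot_symm0 (h ξ hξ η hη))

theorem Orth.symm (h : Orth H S T) : Orth H T S := fun φ hφ ψ hψ => cfdot_symm0 (h ψ hψ φ hφ)

theorem Cint_cfdot_zchar (h : ∀ ξ ∈ S, IsCint ⟪ξ, ψ⟫[H]) (hφ : φ ∈ Zspan S) : IsCint ⟪φ, ψ⟫[H] :=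
  Zspan.induction (P := fun φ => IsCint ⟪φ, ψ⟫[H]) hφ (by simpa using isCint_zero) h
    fun a b _ _ ha hb => by rw [cfdotBl]; exact ha.sub hb

/-- elements of `ℤ[S]` vanishing at `1` are combinations of the differences `ξ - a(ξ) χ` -/
theorem zchar_pivot {a : (G → ℂ) → ℂ} (hχ : χ 1 ≠ 0) (ha : ∀ ξ ∈ S, ξ 1 = a ξ * χ 1)
    (h : φ ∈ Zspan S) (h1 : φ 1 = 0) :
    ∃ z : (G → ℂ) → ℤ, φ = ∑ ξ ∈ S, z ξ • ξ ∧ φ = ∑ ξ ∈ S, z ξ • (ξ - a ξ • χ) := by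
  obtain ⟨z, hz⟩ := zchar_expansion.1 h
  refine ⟨z, hz, ?_⟩
  have h2 : (∑ ξ ∈ S, z ξ * a ξ) * χ 1 = 0 := by
    rw [← h1, hz, Finset.sum_mul, Finset.sum_apply]
    exact Finset.sum_congr rfl fun ξ hξ => by simp [ha ξ hξ, mul_assoc]
  have h3 : ∑ ξ ∈ S, z ξ • a ξ • χ = 0 := by
    simp only [← Int.cast_smul_eq_zsmul ℂ, smul_smul, ← Finset.sum_smul]
    rw [(mul_eq_zero.1 h2).resolve_right hχ, zero_smul]
  simp only [smul_sub, Finset.sum_sub_distrib, h3, sub_zero]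
  exact hz

/-! ### virtual characters -/

theorem irr_vchar (h : IsIrr H χ) : χ ∈ ZIrr H := mem_zchar (mem_Irr.2 h)

theorem vchar_mem_CF (h : φ ∈ ZIrr H) : φ ∈ CF H := Zspan_le (fun _ h => (mem_Irr.1 h).mem_CF) h

theorem mem_ZIrrOn : φ ∈ ZIrrOn H A ↔ φ ∈ ZIrr H ∧ φ ∈ suppOn A := Iff.rfl

theorem mem_ZIrrOn_sharp : φ ∈ ZIrrOn H (sharp H) ↔ φ ∈ ZIrr H ∧ φ 1 = 0 :=
  zcharD1E fun _ h => (mem_Irr.1 h).mem_CF

theorem vchar_of_cfdot (hφ : φ ∈ CF H) (h : ∀ χ, IsIrr H χ → IsCint ⟪φ, χ⟫[H]) : φ ∈ ZIrr H := by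
  rw [cfun_sum_cfdot hφ]
  exact sum_mem fun χ hχ => scale_zchar (h χ (mem_Irr.1 hχ)) (mem_zchar hχ)

theorem char_vchar (h : IsChar H χ) : χ ∈ ZIrr H :=
  vchar_of_cfdot h.mem_CF fun _ h' => (Cnat_cfdot_char h h'.isChar).isCint

theorem cf1_vchar (H : Subgroup G) : cf1 H ∈ ZIrr H := irr_vchar (isIrr_cf1 H)

theorem vcharP : φ ∈ ZIrr H ↔ ∃ χ ψ, IsChar H χ ∧ IsChar H ψ ∧ φ = χ - ψ := by
  refine ⟨fun h => Zspan.induction (P := fun φ => ∃ χ ψ, IsChar H χ ∧ IsChar H ψ ∧ φ = χ - ψ) h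
    ⟨0, 0, isChar_zero, isChar_zero, by simp⟩
    (fun ξ hξ => ⟨ξ, 0, (mem_Irr.1 hξ).isChar, isChar_zero, by simp⟩) ?_, ?_⟩
  · rintro _ _ - - ⟨a, b, ha, hb, rfl⟩ ⟨c, d, hc, hd, rfl⟩
    exact ⟨a + d, b + c, ha.add hd, hb.add hc, by abel⟩
  · rintro ⟨χ, ψ, h1, h2, rfl⟩
    exact sub_mem (char_vchar h1) (char_vchar h2)

theorem Cint_cfdot_vchar (hφ : φ ∈ ZIrr H) (hψ : ψ ∈ ZIrr H) : IsCint ⟪φ, ψ⟫[H] := by
  obtain ⟨a, b, ha, hb, rfl⟩ := vcharP.1 hφ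
  obtain ⟨c, d, hc, hd, rfl⟩ := vcharP.1 hψ
  simp only [cfdotBl, cfdotBr]
  exact ((Cnat_cfdot_char ha hc).isCint.sub (Cnat_cfdot_char hb hc).isCint).sub
    ((Cnat_cfdot_char ha hd).isCint.sub (Cnat_cfdot_char hb hd).isCint)

theorem Cint_cfdot_vchar_irr (hφ : φ ∈ ZIrr H) (hχ : IsIrr H χ) : IsCint ⟪φ, χ⟫[H] :=
  Cint_cfdot_vchar hφ (irr_vchar hχ)

theorem mem_ZIrr_iff : φ ∈ ZIrr H ↔ φ ∈ CF H ∧ ∀ χ, IsIrr H χ → IsCint ⟪φ, χ⟫[H] :=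
  ⟨fun h => ⟨vchar_mem_CF h, fun _ => Cint_cfdot_vchar_irr h⟩, fun h => vchar_of_cfdot h.1 h.2⟩

theorem cfdot_vchar_comm (hφ : φ ∈ ZIrr H) (hψ : ψ ∈ ZIrr H) : ⟪φ, ψ⟫[H] = ⟪ψ, φ⟫[H] := by
  rw [cfdotC, (Cint_cfdot_vchar hψ hφ).conj_eq]

theorem Cnat_cfdot_vchar_self (hφ : φ ∈ ZIrr H) : IsCnat ⟪φ, φ⟫[H] :=
  (Cint_cfdot_vchar hφ hφ).isCnat (by rw [← cfnorm_eq_re]; exact cfnorm_ge0 φ)

theorem Cnat_cfnorm_vchar (hφ : φ ∈ ZIrr H) : ∃ n : ℕ, cfnorm H φ = n := by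
  obtain ⟨n, hn⟩ := Cnat_cfdot_vchar_self hφ
  exact ⟨n, cfnorm_eq_of_cfdot (by simpa using hn)⟩

theorem cfnorm_vchar_ge1 (hφ : φ ∈ ZIrr H) (h0 : φ ≠ 0) : 1 ≤ cfnorm H φ := by
  obtain ⟨n, hn⟩ := Cnat_cfnorm_vchar hφ
  have := cfnorm_gt0 (vchar_mem_CF hφ) h0
  rw [hn] at this ⊢
  exact_mod_cast this

theorem vchar_eq_zero_of_cfnorm_lt (hφ : φ ∈ ZIrr H) (h : cfnorm H φ < 1) : φ = 0 :=
  by_contra fun h0 => (cfnorm_vchar_ge1 hφ h0).not_gt h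

theorem Cint_vchar1 (h : φ ∈ ZIrr H) : IsCint (φ 1) :=
  Cint_zchar_apply (fun _ h => (Cnat_char1 (mem_Irr.1 h).isChar).isCint) h

theorem Aint_vchar (h : φ ∈ ZIrr H) (x : G) : IsIntegral ℤ (φ x) := by
  obtain ⟨a, b, ha, hb, rfl⟩ := vcharP.1 h
  exact (Aint_char ha x).sub (Aint_char hb x)

theorem vchar_inv (h : φ ∈ ZIrr H) (x : G) : φ x⁻¹ = conj (φ x) := by
  obtain ⟨a, b, ha, hb, rfl⟩ := vcharP.1 h
  simp [char_inv ha, char_inv hb]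

theorem mul_vchar (hφ : φ ∈ ZIrr H) (hψ : ψ ∈ ZIrr H) : φ * ψ ∈ ZIrr H := by
  obtain ⟨a, b, ha, hb, rfl⟩ := vcharP.1 hφ
  obtain ⟨c, d, hc, hd, rfl⟩ := vcharP.1 hψ
  exact vcharP.2 ⟨a * c + b * d, a * d + b * c, (ha.mul hc).add (hb.mul hd),
    (ha.mul hd).add (hb.mul hc), by ring⟩

theorem cfRes_vchar (h : H ≤ K) (hφ : φ ∈ ZIrr K) : cfRes H φ ∈ ZIrr H :=
  map_zchar (cfRes H).toAddMonoidHom (fun _ hξ => char_vchar ((mem_Irr.1 hξ).isChar.cfRes h)) hφ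

theorem cfInd_vchar (h : H ≤ K) (hφ : φ ∈ ZIrr H) : cfInd K H φ ∈ ZIrr K :=
  map_zchar (cfInd K H).toAddMonoidHom (fun _ hξ => char_vchar ((mem_Irr.1 hξ).isChar.cfInd h)) hφ

theorem cfAut_vchar (u : ℂ ≃+* ℂ) (hφ : φ ∈ ZIrr H) : cfAut u φ ∈ ZIrr H :=
  cfAut_zchar u (fun _ h => mem_Irr.2 ((mem_Irr.1 h).cfAut u)) hφ

theorem star_vchar (hφ : φ ∈ ZIrr H) : star φ ∈ ZIrr H := cfAut_vchar conjAut hφ

theorem cfConjg_vchar {g : G} (hg : g ∈ 𝐍(H)) (hφ : φ ∈ ZIrr H) : cfConjg g φ ∈ ZIrr H :=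
  map_zchar (cfConjgL g).toRingHom.toAddMonoidHom
    (fun _ hξ => irr_vchar ((mem_Irr.1 hξ).cfConjg hg)) hφ

theorem vchar_aut_conj (h : φ ∈ ZIrr H) (u : ℂ ≃+* ℂ) (x : G) :
    u (conj (φ x)) = conj (u (φ x)) := by
  rw [← vchar_inv h, ← cfAutE, vchar_inv (cfAut_vchar u h), cfAutE]

theorem cfdot_aut_vchar (u : ℂ ≃+* ℂ) (φ : G → ℂ) (h : ψ ∈ ZIrr H) :
    ⟪cfAut u φ, cfAut u ψ⟫[H] = u ⟪φ, ψ⟫[H] := cfdot_cfAut u φ fun x _ => vchar_aut_conj h u x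

theorem cfdot_aut_vchar' (u : ℂ ≃+* ℂ) (hφ : φ ∈ ZIrr H) (h : ψ ∈ ZIrr H) :
    ⟪cfAut u φ, cfAut u ψ⟫[H] = ⟪φ, ψ⟫[H] := by
  rw [cfdot_aut_vchar u φ h, (Cint_cfdot_vchar hφ h).aut_eq]

theorem cfnorm_aut_vchar (u : ℂ ≃+* ℂ) (h : φ ∈ ZIrr H) : cfnorm H (cfAut u φ) = cfnorm H φ := by
  rw [cfnorm_eq_re, cfnorm_eq_re, cfdot_aut_vchar' u h h]

theorem star_cfAut_vchar (h : φ ∈ ZIrr H) (u : ℂ ≃+* ℂ) : star (cfAut u φ) = cfAut u (star φ) :=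
  funext fun x => (vchar_aut_conj h u x).symm

theorem sub_aut_vchar (u : ℂ ≃+* ℂ) (h : φ ∈ ZIrr H) : φ - cfAut u φ ∈ ZIrrOn H (sharp H) :=
  mem_ZIrrOn_sharp.2 ⟨sub_mem h (cfAut_vchar u h), by simp [cfAutE, (Cint_vchar1 h).aut_eq]⟩

theorem sub_conjC_vchar (h : φ ∈ ZIrr H) : φ - star φ ∈ ZIrrOn H (sharp H) :=
  sub_aut_vchar conjAut h

theorem zchar_trans_vchar (hS : ∀ ξ ∈ S, ξ ∈ ZIrr H) (h : φ ∈ Zspan S) : φ ∈ ZIrr H :=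
  zchar_trans hS h

theorem isChar_of_vchar (hφ : φ ∈ ZIrr H) (h : ∀ χ, IsIrr H χ → 0 ≤ (⟪φ, χ⟫[H]).re) : IsChar H φ :=
  isChar_of_cfdot (vchar_mem_CF hφ) fun χ hχ => (Cint_cfdot_vchar_irr hφ hχ).isCnat (h χ hχ)

/-! ### orthogonal and orthonormal sets -/

theorem orthonormal_of_irr (hS : ∀ χ ∈ S, IsIrr H χ) : Orthonormal' H S :=
  ⟨fun χ h => cfdot_irr_self (hS χ h), fun χ h ψ h' => cfdot_irr_ne (hS χ h) (hS ψ h')⟩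

theorem irr_orthonormal (H : Subgroup G) : Orthonormal' H (Irr H) := orthonormal_of_irr (by simp)

theorem Orthonormal'.pairwiseOrth (h : Orthonormal' H S) : PairwiseOrth H S :=
  ⟨fun h0 => by simpa using h.1 0 h0, h.2⟩

theorem Orthonormal'.subset (h : Orthonormal' H S) (hT : T ⊆ S) : Orthonormal' H T :=
  ⟨fun φ h' => h.1 φ (hT h'), fun φ h1 ψ h2 => h.2 φ (hT h1) ψ (hT h2)⟩

theorem PairwiseOrth.subset (h : PairwiseOrth H S) (hT : T ⊆ S) : PairwiseOrth H T :=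
  ⟨fun h' => h.1 (hT h'), fun φ h1 ψ h2 => h.2 φ (hT h1) ψ (hT h2)⟩

theorem PairwiseOrth.ne_zero (h : PairwiseOrth H S) (hξ : ξ ∈ S) : ξ ≠ 0 := fun e => h.1 (e ▸ hξ)

open Classical in
theorem Orthonormal'.cfdot (h : Orthonormal' H S) (hφ : φ ∈ S) (hψ : ψ ∈ S) :
    ⟪φ, ψ⟫[H] = if φ = ψ then 1 else 0 := by
  split_ifs with e
  · rw [← e, h.1 φ hφ]
  · exact h.2 φ hφ ψ hψ e

theorem Orthonormal'.cfnorm (h : Orthonormal' H S) (hφ : φ ∈ S) : cfnorm H φ = 1 :=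
  cfnorm_eq_one_iff.2 (h.1 φ hφ)

open Classical in
theorem Orthonormal'.union (h : Orthonormal' H S) (h' : Orthonormal' H T) (ho : Orth H S T) :
    Orthonormal' H (S ∪ T) := by
  refine ⟨fun φ hφ => ?_, fun φ hφ ψ hψ hne => ?_⟩
  · rcases Finset.mem_union.1 hφ with h1 | h1
    exacts [h.1 φ h1, h'.1 φ h1]
  · rcases Finset.mem_union.1 hφ with h1 | h1 <;> rcases Finset.mem_union.1 hψ with h2 | h2
    exacts [h.2 φ h1 ψ h2 hne, ho φ h1 ψ h2, ho.symm φ h1 ψ h2, h'.2 φ h1 ψ h2 hne]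

theorem Orth.disjoint (ho : Orth H S T) (h : Orthonormal' H S) : Disjoint S T :=
  Finset.disjoint_left.2 fun φ h1 h2 => by simpa [h.1 φ h1] using ho φ h1 φ h2

theorem PairwiseOrth.cfdot_sum (h : PairwiseOrth H S) (c : (G → ℂ) → ℂ) (hξ : ξ ∈ S) :
    ⟪∑ η ∈ S, c η • η, ξ⟫[H] = c ξ * ⟪ξ, ξ⟫[H] := by
  rw [cfdot_suml, Finset.sum_eq_single_of_mem ξ hξ fun η h' hne => by
    rw [cfdotZl, h.2 η h' ξ hξ hne, mul_zero], cfdotZl]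

/-- `cfproj_sum_orthonormal` -/
theorem Orthonormal'.cfdot_sum (h : Orthonormal' H S) (c : (G → ℂ) → ℂ) (hξ : ξ ∈ S) :
    ⟪∑ η ∈ S, c η • η, ξ⟫[H] = c ξ := by rw [h.pairwiseOrth.cfdot_sum c hξ, h.1 ξ hξ, mul_one]

theorem Orthonormal'.cfdot_sum_sum (h : Orthonormal' H S) (c d : (G → ℂ) → ℂ) :
    ⟪∑ η ∈ S, c η • η, ∑ η ∈ S, d η • η⟫[H] = ∑ η ∈ S, c η * conj (d η) := by
  rw [cfdot_sumr]
  exact Finset.sum_congr rfl fun η hη => by rw [cfdotZr, h.cfdot_sum c hη, mul_comm]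

theorem PairwiseOrth.cfnorm_sum (h : PairwiseOrth H S) (c : (G → ℂ) → ℂ) :
    cfnorm H (∑ η ∈ S, c η • η) = ∑ η ∈ S, ‖c η‖ ^ 2 * cfnorm H η := by
  rw [cfnorm_sum_orth _ _ fun i hi j hj hij => by
    rw [cfdotZl, cfdotZr, h.2 i hi j hj hij, mul_zero, mul_zero]]
  simp only [cfnormZ]

theorem Orthonormal'.cfnorm_sum (h : Orthonormal' H S) (c : (G → ℂ) → ℂ) :
    OO.cfnorm H (∑ η ∈ S, c η • η) = ∑ η ∈ S, ‖c η‖ ^ 2 := by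
  rw [h.pairwiseOrth.cfnorm_sum]
  exact Finset.sum_congr rfl fun η hη => by rw [h.cfnorm hη, mul_one]

/-- `cfnorm_orthonormal` -/
theorem Orthonormal'.cfnorm_sum_one (h : Orthonormal' H S) :
    OO.cfnorm H (∑ η ∈ S, η) = S.card := by
  simpa using h.cfnorm_sum fun _ => 1

open Classical in
theorem Orthonormal'.cfdot_sum_subset (h : Orthonormal' H S) (hT : T ⊆ S) (hξ : ξ ∈ S) :
    ⟪∑ η ∈ T, η, ξ⟫[H] = if ξ ∈ T then 1 else 0 := by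
  split_ifs with h1
  · simpa using (h.subset hT).cfdot_sum (fun _ => 1) h1
  · rw [cfdot_suml, Finset.sum_eq_zero fun η hη => h.2 η (hT hη) ξ hξ fun e => h1 (e ▸ hη)]

theorem PairwiseOrth.expansion (h : PairwiseOrth H S) (hS : ∀ ξ ∈ S, ξ ∈ CF H)
    (hφ : φ ∈ Submodule.span ℂ (S : Set (G → ℂ))) :
    φ = ∑ ξ ∈ S, (⟪φ, ξ⟫[H] / ⟪ξ, ξ⟫[H]) • ξ := by
  obtain ⟨c, -, rfl⟩ := Submodule.mem_span_finset.1 hφ
  exact Finset.sum_congr rfl fun ξ hξ => by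
    rw [h.cfdot_sum c hξ, mul_div_cancel_right₀ _ (cfdot_self_ne_zero (hS ξ hξ) (h.ne_zero hξ))]

/-- `orthonormal_span` -/
theorem Orthonormal'.expansion (h : Orthonormal' H S)
    (hφ : φ ∈ Submodule.span ℂ (S : Set (G → ℂ))) : φ = ∑ ξ ∈ S, ⟪φ, ξ⟫[H] • ξ := by
  obtain ⟨c, -, rfl⟩ := Submodule.mem_span_finset.1 hφ
  exact Finset.sum_congr rfl fun ξ hξ => by rw [h.cfdot_sum c hξ]

theorem PairwiseOrth.linearIndependent (h : PairwiseOrth H S) (hS : ∀ ξ ∈ S, ξ ∈ CF H) :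
    LinearIndepOn ℂ id (S : Set (G → ℂ)) := by
  rw [linearIndepOn_finset_iff]
  intro c hc ξ hξ
  have := h.cfdot_sum c hξ
  simp only [id] at hc
  rw [hc, cfdot0l] at this
  exact (mul_eq_zero.1 this.symm).resolve_right (cfdot_self_ne_zero (hS ξ hξ) (h.ne_zero hξ))

theorem Orthonormal'.cfdot_sub_proj (h : Orthonormal' H S) (β : G → ℂ) (hξ : ξ ∈ S) :
    ⟪β - ∑ η ∈ S, ⟪β, η⟫[H] • η, ξ⟫[H] = 0 := by
  rw [cfdotBl, h.cfdot_sum (fun η => ⟪β, η⟫[H]) hξ, sub_self]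

theorem Orthonormal'.cfnorm_proj (h : Orthonormal' H S) (β : G → ℂ) :
    OO.cfnorm H β = ∑ η ∈ S, ‖⟪β, η⟫[H]‖ ^ 2 + OO.cfnorm H (β - ∑ η ∈ S, ⟪β, η⟫[H] • η) := by
  rw [← h.cfnorm_sum (fun η => ⟪β, η⟫[H]), ← cfnormDd, add_sub_cancel]
  rw [cfdot_suml]
  exact Finset.sum_eq_zero fun η hη => by rw [cfdotZl, cfdot_symm0 (h.cfdot_sub_proj β hη), mul_zero]

/-- Bessel's inequality -/
theorem Orthonormal'.bessel (h : Orthonormal' H S) (β : G → ℂ) :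
    ∑ η ∈ S, ‖⟪β, η⟫[H]‖ ^ 2 ≤ OO.cfnorm H β := by
  rw [h.cfnorm_proj β]; linarith [cfnorm_ge0 (H := H) (β - ∑ η ∈ S, ⟪β, η⟫[H] • η)]

/-- `orthogonal_split` for virtual characters -/
theorem Orthonormal'.vchar_split (h : Orthonormal' H S) (hS : ∀ ξ ∈ S, ξ ∈ ZIrr H)
    (hβ : β ∈ ZIrr H) : ∃ X ∈ Zspan S, ∃ Y ∈ ZIrr H, β = X + Y ∧ (∀ ξ ∈ S, ⟪Y, ξ⟫[H] = 0) ∧
      ⟪X, Y⟫[H] = 0 := by
  have hX : ∑ η ∈ S, ⟪β, η⟫[H] • η ∈ Zspan S :=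
    sum_mem fun η hη => scale_zchar (Cint_cfdot_vchar hβ (hS η hη)) (mem_zchar hη)
  exact ⟨_, hX, _, sub_mem hβ (zchar_trans_vchar hS hX), by abel, fun ξ => h.cfdot_sub_proj β,
    cfdot_zchar_eq_zero hX fun ξ hξ => cfdot_symm0 (h.cfdot_sub_proj β hξ)⟩

/-- `orthogonal_split` -/
theorem PairwiseOrth.split (h : PairwiseOrth H S) (hS : ∀ ξ ∈ S, ξ ∈ CF H) (β : G → ℂ) :
    ∃ X ∈ Submodule.span ℂ (S : Set (G → ℂ)), ∃ Y, β = X + Y ∧ (∀ ξ ∈ S, ⟪Y, ξ⟫[H] = 0) ∧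
      ⟪X, Y⟫[H] = 0 := by
  have hX : ∑ ξ ∈ S, (⟪β, ξ⟫[H] / ⟪ξ, ξ⟫[H]) • ξ ∈ Submodule.span ℂ (S : Set (G → ℂ)) :=
    sum_mem fun η hη => Submodule.smul_mem _ _ (Submodule.subset_span hη)
  have hY : ∀ ξ ∈ S, ⟪β - ∑ ξ ∈ S, (⟪β, ξ⟫[H] / ⟪ξ, ξ⟫[H]) • ξ, ξ⟫[H] = 0 := fun ξ hξ => by
    rw [cfdotBl, h.cfdot_sum (fun ξ => ⟪β, ξ⟫[H] / ⟪ξ, ξ⟫[H]) hξ,
      div_mul_cancel₀ _ (cfdot_self_ne_zero (hS ξ hξ) (h.ne_zero hξ)), sub_self]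
  exact ⟨_, hX, _, by abel, hY, cfdot_span_eq_zero hX fun ξ hξ => cfdot_symm0 (hY ξ hξ)⟩

theorem Orthonormal'.zchar_cfdot (h : Orthonormal' H S) (hφ : φ ∈ Zspan S) (hξ : ξ ∈ S) :
    IsCint ⟪φ, ξ⟫[H] :=
  Cint_cfdot_zchar (fun η hη => by
    rw [h.cfdot hη hξ]; split_ifs; exacts [isCint_one, isCint_zero]) hφ

/-- a sum of squares of integers with few nonzero terms -/
theorem card_le_sum_norm_sq {ι : Type*} {s : Finset ι} {c : ι → ℂ} (h : ∀ i ∈ s, IsCint (c i))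
    (h0 : ∀ i ∈ s, c i ≠ 0) : (s.card : ℝ) ≤ ∑ i ∈ s, ‖c i‖ ^ 2 := by
  rw [Finset.card_eq_sum_ones, Nat.cast_sum]
  exact Finset.sum_le_sum fun i hi => by
    simpa using (h i hi).one_le_norm (h0 i hi)

theorem IsCint.eq_one_or_neg_one {a : ℂ} (h : IsCint a) (h0 : a ≠ 0) (h4 : ‖a‖ ^ 2 < 4) :
    a = 1 ∨ a = -1 := by
  obtain ⟨n, rfl⟩ := h
  rw [Complex.norm_intCast, sq_abs] at h4
  have h1 : n ^ 2 < 4 := by exact_mod_cast h4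
  have h2 : n ≠ 0 := by simpa using h0
  have h3 : n = 1 ∨ n = -1 := by
    rcases lt_trichotomy n 0 with h | h | h
    · right; nlinarith
    · exact absurd h h2
    · left; nlinarith
  rcases h3 with rfl | rfl <;> simp

/-- an element of `ℤ[S]` of norm `< 4` is a sum of elements `± ξ` -/
theorem Orthonormal'.small_norm (h : Orthonormal' H S) (hφ : φ ∈ Zspan S)
    (h4 : OO.cfnorm H φ < 4) : ∃ T ⊆ S, ∃ e : (G → ℂ) → ℂ, (∀ ξ ∈ T, e ξ = 1 ∨ e ξ = -1) ∧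
      (T.card : ℝ) = OO.cfnorm H φ ∧ φ = ∑ ξ ∈ T, e ξ • ξ := by
  classical
  have h1 := h.expansion (zchar_span hφ)
  rw [← Finset.sum_filter_of_ne (p := fun ξ => ⟪φ, ξ⟫[H] ≠ 0) fun ξ _ h e =>
    h (by rw [e, zero_smul])] at h1
  have h2 : ∀ ξ ∈ S.filter fun ξ => ⟪φ, ξ⟫[H] ≠ 0, ⟪φ, ξ⟫[H] = 1 ∨ ⟪φ, ξ⟫[H] = -1 := fun ξ hξ => by
    obtain ⟨h2, h3⟩ := Finset.mem_filter.1 hξ
    refine (h.zchar_cfdot hφ h2).eq_one_or_neg_one h3 (lt_of_le_of_lt ?_ ((h.bessel φ).trans_lt h4))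
    exact Finset.single_le_sum (f := fun η => ‖⟪φ, η⟫[H]‖ ^ 2) (fun _ _ => by positivity) h2
  refine ⟨_, Finset.filter_subset _ _, _, h2, ?_, h1⟩
  conv_rhs => rw [h1, (h.subset (Finset.filter_subset _ _)).cfnorm_sum]
  rw [Finset.card_eq_sum_ones, Nat.cast_sum]
  exact Finset.sum_congr rfl fun ξ hξ => by rcases h2 ξ hξ with e | e <;> simp [e]

theorem Orthonormal'.norm_one (h : Orthonormal' H S) (hφ : φ ∈ Zspan S)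
    (h1 : OO.cfnorm H φ = 1) : φ ∈ S ∨ -φ ∈ S := by
  obtain ⟨T, hT, e, he, hc, rfl⟩ := h.small_norm hφ (by rw [h1]; norm_num)
  rw [h1] at hc
  obtain ⟨ξ, rfl⟩ := Finset.card_eq_one.1 (by exact_mod_cast hc : T.card = 1)
  have := hT (Finset.mem_singleton_self ξ)
  rcases he ξ (Finset.mem_singleton_self ξ) with e | e <;> simp [e, this]

/-! ### signed irreducible characters -/

theorem vchar_norm1P (hφ : φ ∈ ZIrr H) (h1 : cfnorm H φ = 1) : IsDirr H φ :=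
  ((irr_orthonormal H).norm_one hφ h1).imp mem_Irr.1 mem_Irr.1

theorem IsIrr.isDirr (h : IsIrr H χ) : IsDirr H χ := Or.inl h

theorem IsDirr.neg (h : IsDirr H φ) : IsDirr H (-φ) := by
  rcases h with h | h
  · exact Or.inr (by simpa using h)
  · exact Or.inl h

theorem isDirr_neg : IsDirr H (-φ) ↔ IsDirr H φ := ⟨fun h => by simpa using h.neg, IsDirr.neg⟩

theorem IsDirr.vchar (h : IsDirr H φ) : φ ∈ ZIrr H := by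
  rcases h with h | h
  · exact irr_vchar h
  · simpa using neg_mem (irr_vchar h)

theorem IsDirr.mem_CF (h : IsDirr H φ) : φ ∈ CF H := vchar_mem_CF h.vchar

theorem IsDirr.cfnorm (h : IsDirr H φ) : cfnorm H φ = 1 := by
  rcases h with h | h
  · exact cfnorm_irr h
  · simpa using cfnorm_irr h

theorem IsDirr.cfdot_self (h : IsDirr H φ) : ⟪φ, φ⟫[H] = 1 := cfnorm_eq_one_iff.1 h.cfnorm

theorem isDirr_iff : IsDirr H φ ↔ φ ∈ ZIrr H ∧ cfnorm H φ = 1 :=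
  ⟨fun h => ⟨h.vchar, h.cfnorm⟩, fun h => vchar_norm1P h.1 h.2⟩

theorem IsDirr.exists_sign (h : IsDirr H φ) :
    ∃ e : ℂ, (e = 1 ∨ e = -1) ∧ ∃ χ, IsIrr H χ ∧ φ = e • χ := by
  rcases h with h | h
  · exact ⟨1, Or.inl rfl, φ, h, by simp⟩
  · exact ⟨-1, Or.inr rfl, -φ, h, by simp⟩

theorem IsDirr.smul_sign (h : IsDirr H φ) {e : ℂ} (he : e = 1 ∨ e = -1) : IsDirr H (e • φ) := by
  rcases he with rfl | rfl
  · simpa using h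
  · simpa using h.neg

theorem IsDirr.one_ne_zero (h : IsDirr H φ) : φ 1 ≠ 0 := by
  rcases h with h | h
  · exact irr1_neq0 h
  · simpa using irr1_neq0 h

theorem IsDirr.ne_zero (h : IsDirr H φ) : φ ≠ 0 := fun e => h.one_ne_zero (by simp [e])

theorem IsDirr.isIrr (h : IsDirr H φ) (h1 : 0 ≤ (φ 1).re) : IsIrr H φ :=
  h.resolve_right fun h' => by have := irr1_gt0 h'; simp at this; linarith

theorem vchar_isIrr (hφ : φ ∈ ZIrr H) (h1 : cfnorm H φ = 1) (h : 0 ≤ (φ 1).re) : IsIrr H φ :=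
  (vchar_norm1P hφ h1).isIrr h

theorem IsDirr.star (h : IsDirr H φ) : IsDirr H (star φ) :=
  vchar_norm1P (star_vchar h.vchar) (by rw [cfnorm_conjC, h.cfnorm])

theorem IsDirr.cfAut (h : IsDirr H φ) (u : ℂ ≃+* ℂ) : IsDirr H (cfAut u φ) :=
  vchar_norm1P (cfAut_vchar u h.vchar) (by rw [cfnorm_aut_vchar u h.vchar, h.cfnorm])

theorem IsDirr.ne_neg (h : IsDirr H φ) : φ ≠ -φ := fun e =>
  h.one_ne_zero (by simpa [eq_neg_iff_add_eq_zero] using congrFun e 1)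

theorem IsIrr.ne_neg (h : IsIrr H φ) (h' : IsIrr H ψ) : φ ≠ -ψ := fun e => by
  have h1 := irr1_gt0 h
  have h2 := irr1_gt0 h'
  rw [e] at h1
  simp at h1; linarith

theorem cfdot_dirr_eq_zero (h : IsDirr H φ) (h' : IsDirr H ψ) (h1 : φ ≠ ψ) (h2 : φ ≠ -ψ) :
    ⟪φ, ψ⟫[H] = 0 := by
  rcases h with h | h <;> rcases h' with h' | h'
  · exact cfdot_irr_ne h h' h1
  · simpa [cfdotNr] using cfdot_irr_ne h h' h2
  · simpa [cfdotNl] using cfdot_irr_ne h h' fun e => h2 (by rw [← e, neg_neg])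
  · simpa [cfdotNl, cfdotNr] using cfdot_irr_ne h h' fun e => h1 (neg_injective e)

theorem IsDirr.eq_or_eq_neg (h : IsDirr H φ) (h' : IsDirr H ψ) (h0 : ⟪φ, ψ⟫[H] ≠ 0) :
    φ = ψ ∨ φ = -ψ := by
  by_contra h1
  push Not at h1
  exact h0 (cfdot_dirr_eq_zero h h' h1.1 h1.2)

theorem cfdot_dirr_eq1 (h : IsDirr H φ) (h' : IsDirr H ψ) : ⟪φ, ψ⟫[H] = 1 ↔ φ = ψ := by
  refine ⟨fun h1 => (h.eq_or_eq_neg h' (by simp [h1])).resolve_right fun e => ?_,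
    fun e => by rw [e, h'.cfdot_self]⟩
  rw [e, cfdotNl, h'.cfdot_self] at h1
  norm_num at h1

theorem cfdot_dirr_cases (h : IsDirr H φ) (h' : IsDirr H ψ) :
    ⟪φ, ψ⟫[H] = 0 ∨ ⟪φ, ψ⟫[H] = 1 ∨ ⟪φ, ψ⟫[H] = -1 := by
  by_cases h0 : ⟪φ, ψ⟫[H] = 0
  · exact Or.inl h0
  · rcases h.eq_or_eq_neg h' h0 with rfl | rfl
    · simp [h.cfdot_self]
    · simp [cfdotNl, h'.cfdot_self]

/-- `zchar_small_norm` -/
theorem vchar_small_norm (hφ : φ ∈ ZIrr H) (h4 : cfnorm H φ < 4) :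
    ∃ S : Finset (G → ℂ), Orthonormal' H S ∧ (∀ α ∈ S, IsDirr H α) ∧ (S.card : ℝ) = cfnorm H φ ∧
      φ = ∑ α ∈ S, α := by
  classical
  obtain ⟨T, hT, e, he, hc, hs⟩ := (irr_orthonormal H).small_norm hφ h4
  have hi : ∀ ξ ∈ T, IsIrr H ξ := fun ξ h => mem_Irr.1 (hT h)
  have ho : ∀ ξ ∈ T, ∀ η ∈ T, ξ ≠ η → ⟪e ξ • ξ, e η • η⟫[H] = 0 := fun ξ h η h' hne => by
    rw [cfdotZl, cfdotZr, cfdot_irr_ne (hi ξ h) (hi η h') hne, mul_zero, mul_zero]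
  have hd : ∀ ξ ∈ T, IsDirr H (e ξ • ξ) := fun ξ h => (hi ξ h).isDirr.smul_sign (he ξ h)
  have hinj : Set.InjOn (fun ξ => e ξ • ξ) T := fun ξ h η h' e' => by_contra fun hne => by
    have := ho ξ h η h' hne
    simp only at e'
    rw [e', (hd η h').cfdot_self] at this
    exact one_ne_zero this
  refine ⟨T.image fun ξ => e ξ • ξ, ⟨?_, ?_⟩, ?_, by rw [Finset.card_image_of_injOn hinj, hc],
    by rw [Finset.sum_image hinj]; exact hs⟩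
  · simpa using fun ξ h => (hd ξ h).cfdot_self
  · simp only [Finset.forall_mem_image]
    exact fun ξ h η h' hne => ho ξ h η h' fun e => hne (by rw [e])
  · simpa using hd

theorem vchar_norm2 (hφ : φ ∈ ZIrr H) (h1 : φ 1 = 0) (h2 : cfnorm H φ = 2) :
    ∃ χ ξ, IsIrr H χ ∧ IsIrr H ξ ∧ χ ≠ ξ ∧ φ = χ - ξ := by
  classical
  obtain ⟨S, ho, hd, hc, rfl⟩ := vchar_small_norm hφ (by rw [h2]; norm_num)
  rw [h2] at hc
  obtain ⟨a, b, hab, rfl⟩ := Finset.card_eq_two.1 (by exact_mod_cast hc : S.card = 2)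
  rw [Finset.sum_pair hab] at h1 ⊢
  have h3 := congrArg Complex.re h1
  have h4 := ho.2 a (by simp) b (by simp) hab
  simp only [Pi.add_apply, Complex.add_re, Complex.zero_re] at h3
  rcases hd a (by simp) with ha | ha <;> rcases hd b (by simp) with hb | hb
  · linarith [irr1_gt0 ha, irr1_gt0 hb]
  · exact ⟨a, -b, ha, hb, fun e => by simp [e, cfdotNl, ho.1 b] at h4, by simp⟩
  · exact ⟨b, -a, hb, ha, fun e => by simp [e, cfdotNr, ho.1 a] at h4, by simp [add_comm]⟩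
  · have := irr1_gt0 ha
    have := irr1_gt0 hb
    simp at *; linarith

/-! ### isometries -/

section Iso

variable {E E' F F' : Submodule ℤ (G → ℂ)} {τ ν : (G → ℂ) → G → ℂ}

theorem sub_iso_to (hE : E' ≤ E) (hF : F ≤ F') (h : IsometryTo L Γ E F τ) : IsometryTo L Γ E' F' τ :=
  ⟨fun φ h1 ψ h2 => h.1 φ (hE h1) ψ (hE h2), fun φ h1 => hF (h.2 φ (hE h1))⟩

theorem IsometryTo.cfnorm (h : IsometryTo L Γ E F τ) (hφ : φ ∈ E) :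
    cfnorm Γ (τ φ) = cfnorm L φ := by rw [cfnorm_eq_re, cfnorm_eq_re, h.1 φ hφ φ hφ]

theorem IsometryTo.congr (h : IsometryTo L Γ E F τ) (e : ∀ φ ∈ E, ν φ = τ φ) :
    IsometryTo L Γ E F ν :=
  ⟨fun φ h1 ψ h2 => by rw [e φ h1, e ψ h2, h.1 φ h1 ψ h2], fun φ h1 => by rw [e φ h1]; exact h.2 φ h1⟩

theorem isometry_in_zchar (ν : (G → ℂ) →+ (G → ℂ))
    (h : ∀ ξ ∈ S, ∀ η ∈ S, ⟪ν ξ, ν η⟫[Γ] = ⟪ξ, η⟫[L]) (hφ : φ ∈ Zspan S) (hψ : ψ ∈ Zspan S) :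
    ⟪ν φ, ν ψ⟫[Γ] = ⟪φ, ψ⟫[L] := by
  refine Zspan.induction (P := fun φ => ⟪ν φ, ν ψ⟫[Γ] = ⟪φ, ψ⟫[L]) hφ (by simp) (fun ξ hξ => ?_)
    fun a b _ _ ha hb => by rw [map_sub, cfdotBl, cfdotBl, ha, hb]
  exact Zspan.induction (P := fun ψ => ⟪ν ξ, ν ψ⟫[Γ] = ⟪ξ, ψ⟫[L]) hψ (by simp) (h ξ hξ)
    fun a b _ _ ha hb => by rw [map_sub, cfdotBr, cfdotBr, ha, hb]

theorem isometryTo_zchar (ν : (G → ℂ) →+ (G → ℂ))
    (h : ∀ ξ ∈ S, ∀ η ∈ S, ⟪ν ξ, ν η⟫[Γ] = ⟪ξ, η⟫[L]) (hF : ∀ ξ ∈ S, ν ξ ∈ F) :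
    IsometryTo L Γ (Zspan S) F ν :=
  ⟨fun _ h1 _ h2 => isometry_in_zchar ν h h1 h2, fun _ h1 => map_zchar ν hF h1⟩

/-- a linear map with prescribed values on an orthogonal set -/
theorem exists_linear_of_orth (h : PairwiseOrth L S) (hS : ∀ ξ ∈ S, ξ ∈ CF L)
    (f : (G → ℂ) → G → ℂ) : ∃ ν : (G → ℂ) →ₗ[ℂ] (G → ℂ), ∀ ξ ∈ S, ν ξ = f ξ := by
  refine ⟨∑ η ∈ S, (⟪η, η⟫[L])⁻¹ • (cfdotL L η).smulRight (f η), fun ξ hξ => ?_⟩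
  rw [LinearMap.sum_apply, Finset.sum_eq_single_of_mem ξ hξ fun η hη hne => by
    simp [h.2 ξ hξ η hη hne.symm]]
  simp [smul_smul, cfdot_self_ne_zero (hS ξ hξ) (h.ne_zero hξ)]

/-- `Zisometry_of_iso` -/
theorem Zisometry_of_iso (h : PairwiseOrth L S) (hS : ∀ ξ ∈ S, ξ ∈ CF L) (f : (G → ℂ) → G → ℂ)
    (hf : ∀ ξ ∈ S, ∀ η ∈ S, ⟪f ξ, f η⟫[Γ] = ⟪ξ, η⟫[L]) (hF : ∀ ξ ∈ S, f ξ ∈ F) :
    ∃ ν : (G → ℂ) →ₗ[ℂ] (G → ℂ), (∀ ξ ∈ S, ν ξ = f ξ) ∧ IsometryTo L Γ (Zspan S) F ν := by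
  obtain ⟨ν, hν⟩ := exists_linear_of_orth h hS f
  exact ⟨ν, hν, isometryTo_zchar ν.toAddMonoidHom
    (fun ξ h1 η h2 => by simpa [hν ξ h1, hν η h2] using hf ξ h1 η h2)
    fun ξ h1 => by simpa [hν ξ h1] using hF ξ h1⟩

theorem Zisometry_inj (ν : (G → ℂ) →+ (G → ℂ)) (h : IsometryTo L Γ E F ν)
    (hE : ∀ φ ∈ E, φ ∈ CF L) (hφ : φ ∈ E) (hψ : ψ ∈ E) (e : ν φ = ν ψ) : φ = ψ := by
  have := h.cfnorm (sub_mem hφ hψ)
  rw [map_sub, e, sub_self, cfnorm0] at this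
  exact sub_eq_zero.1 ((cfnorm_eq0 (hE _ (sub_mem hφ hψ))).1 this.symm)

open Classical in
theorem Orthonormal'.image (h : Orthonormal' L S)
    (hf : ∀ ξ ∈ S, ∀ η ∈ S, ⟪τ ξ, τ η⟫[Γ] = ⟪ξ, η⟫[L]) : Orthonormal' Γ (S.image τ) := by
  constructor
  · simpa using fun ξ hξ => by rw [hf ξ hξ ξ hξ, h.1 ξ hξ]
  · simp only [Finset.forall_mem_image]
    exact fun ξ h1 η h2 hne => by rw [hf ξ h1 η h2, h.2 ξ h1 η h2 fun e => hne (by rw [e])]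

theorem PairwiseOrth.injOn (h : PairwiseOrth L S) (hS : ∀ ξ ∈ S, ξ ∈ CF L)
    (hf : ∀ ξ ∈ S, ∀ η ∈ S, ⟪τ ξ, τ η⟫[Γ] = ⟪ξ, η⟫[L]) : Set.InjOn τ S := fun ξ h1 η h2 e =>
  by_contra fun hne => cfdot_self_ne_zero (hS η h2) (h.ne_zero h2) (by
    rw [← hf η h2 η h2, ← h.2 ξ h1 η h2 hne, ← hf ξ h1 η h2, e])

theorem Orthonormal'.injOn (h : Orthonormal' L S)
    (hf : ∀ ξ ∈ S, ∀ η ∈ S, ⟪τ ξ, τ η⟫[Γ] = ⟪ξ, η⟫[L]) : Set.InjOn τ S := fun ξ h1 η h2 e =>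
  by_contra fun hne => one_ne_zero (by
    rw [← h.1 η h2, ← hf η h2 η h2, ← h.2 ξ h1 η h2 hne, ← hf ξ h1 η h2, e])

end Iso

end Cfsg.Agent.OO
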