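import Cfsg.Agent.Lib.OO.QuoB

/-! # Odd order project: umbrella import for the quotient API (`QuoA`, `QuoB`; includes `Basic`) -/
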