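import Mathlib
import Cfsg.Agent.Lib.OO.CF4
import Cfsg.Agent.Lib.OO.Quo

/-!
# CF5: inertia groups and Clifford theory (mathcomp `inertia.v`, Peterfalvi (1.5), (1.7)(a))
-/

set_option autoImplicit false
set_option linter.unusedSectionVars false

namespace Cfsg.Agent.OO

open Subgroup
open scoped Pointwise ComplexConjugate

universe u v

variable {G : Type u} [Group G] [Finite G] {H K L N T : Subgroup G} {φ ψ θ χ ξ l : G → ℂ} {g : G}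

/-! ### inertia groups -/

section
omit [Finite G]

theorem mem_inertia : g ∈ inertia K φ ↔ g ∈ K ∧ cfConjg g φ = φ := Iff.rfl

theorem inertia_le (K : Subgroup G) (φ : G → ℂ) : inertia K φ ≤ K := fun _ h => h.1

theorem inertiaJ (hg : g ∈ inertia K φ) : cfConjg g φ = φ := hg.2

theorem inertia_valJ (hg : g ∈ inertia K φ) (x : G) : φ (g * x * g⁻¹) = φ x := by
  rw [← hg.2, cfConjgEJ, hg.2]

theorem mem_inertia_of (hg : g ∈ K) (h : ∀ x, φ (g * x * g⁻¹) = φ x) : g ∈ inertia K φ :=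
  ⟨hg, funext fun x => by rw [cfConjgE, ← h]; congr 1; group⟩

theorem inertia_mono (φ : G → ℂ) (h : K ≤ L) : inertia K φ ≤ inertia L φ := fun _ hg => ⟨h hg.1, hg.2⟩

theorem inf_inertia (K L : Subgroup G) (φ : G → ℂ) : K ⊓ inertia L φ = inertia (K ⊓ L) φ := by
  ext; simp [mem_inertia, and_assoc]

theorem inertia_of_le (φ : G → ℂ) (h : K ≤ L) : inertia K φ = K ⊓ inertia L φ := by
  rw [inf_inertia, inf_eq_left.2 h]

theorem le_inertia_iff : K ≤ inertia L φ ↔ K ≤ L ∧ ∀ g ∈ K, cfConjg g φ = φ :=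
  ⟨fun h => ⟨h.trans (inertia_le _ _), fun _ hg => (h hg).2⟩, fun h _ hg => ⟨h.1 hg, h.2 _ hg⟩⟩

theorem inertia_eq_self_iff : inertia K φ = K ↔ ∀ g ∈ K, cfConjg g φ = φ :=
  ⟨fun h _ hg => (h.ge hg).2, fun h => (inertia_le _ _).antisymm fun _ hg => ⟨hg, h _ hg⟩⟩

theorem inertia_eq_of_le (h : K ≤ inertia L φ) : inertia K φ = K :=
  inertia_eq_self_iff.2 fun _ hg => (h hg).2

theorem inertia_inertia (K : Subgroup G) (φ : G → ℂ) : inertia (inertia K φ) φ = inertia K φ :=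
  inertia_eq_of_le le_rfl

theorem inertia_cfConjg_conj (g : G) (K : Subgroup G) (φ : G → ℂ) :
    inertia (g •ᶜ K) (cfConjg g φ) = g •ᶜ inertia K φ := by
  ext x
  rw [mem_inertia, mem_conj, mem_conj, mem_inertia, cfConjgM, cfConjgM]
  refine and_congr_right fun _ => ⟨fun h => by rw [h, cfConjgK], fun h => ?_⟩
  rw [← cfConjgKV g (cfConjg x (cfConjg g φ)), h]

theorem inertia_cfConjg (hg : g ∈ 𝐍(K)) (φ : G → ℂ) :
    inertia K (cfConjg g φ) = g •ᶜ inertia K φ := by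
  rw [← inertia_cfConjg_conj, conj_eq_of_mem_norm hg]

@[simp] theorem inertia_cfAut (u : ℂ ≃+* ℂ) (K : Subgroup G) (φ : G → ℂ) :
    inertia K (cfAut u φ) = inertia K φ := by
  ext; simp only [mem_inertia, cfConjg_cfAut, (cfAut_inj u).eq_iff]

@[simp] theorem inertia_star (K : Subgroup G) (φ : G → ℂ) : inertia K (star φ) = inertia K φ :=
  inertia_cfAut conjAut K φ

theorem inertia_smul {c : ℂ} (hc : c ≠ 0) (K : Subgroup G) (φ : G → ℂ) :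
    inertia K (c • φ) = inertia K φ := by
  ext; simp only [mem_inertia, cfConjg_smul, (smul_right_injective _ hc).eq_iff]

theorem inertia_mul (K : Subgroup G) (φ ψ : G → ℂ) : inertia K φ ⊓ inertia K ψ ≤ inertia K (φ * ψ) :=
  fun _ h => ⟨h.1.1, by rw [cfConjg_mul, h.1.2, h.2.2]⟩

theorem cent_sub_inertia (hφ : φ ∈ suppOn (H : Set G)) : K ⊓ 𝐂(H) ≤ inertia K φ := by
  intro g hg
  refine mem_inertia_of hg.1 fun x => ?_
  by_cases hx : x ∈ H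
  · rw [mem_cent_iff_conj.1 hg.2 x hx]
  · rw [hφ x hx, hφ _ fun h => hx ((mem_norm_iff.1 (cent_le_norm H hg.2) x).2 h)]

end

theorem sub_inertia (h : H ≤ K) (hφ : φ ∈ CF H) : H ≤ inertia K φ :=
  fun _ hg => ⟨h hg, cfConjg_id hφ hg⟩

theorem inertia_id (hφ : φ ∈ CF H) : inertia H φ = H := inertia_eq_of_le (sub_inertia le_rfl hφ)

theorem normal_inertia (h : H ⊴ K) (hφ : φ ∈ CF H) : H ⊴ inertia K φ :=
  h.mono (sub_inertia h.1 hφ) (inertia_le _ _)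

theorem inertia_cf1 (h : K ≤ 𝐍(H)) : inertia K (cf1 H) = K :=
  inertia_eq_self_iff.2 fun _ hg => cfConjg_cf1 (h hg)

theorem mem_CF_of_inertia (hφ : φ ∈ suppOn (K : Set G)) (h : inertia K φ = K) : φ ∈ CF K :=
  ⟨hφ, fun _ hg x => inertia_valJ (h.ge hg) x⟩

theorem inertia_cfRes (hψ : ψ ∈ CF K) (hn : K ≤ 𝐍(H)) : inertia K (cfRes H ψ) = K :=
  inertia_eq_self_iff.2 fun _ hg => cfConjg_cfRes_of_mem hψ hg (hn hg)

theorem inertia_le_inertia_cfRes (hn : K ≤ 𝐍(H)) (φ : G → ℂ) :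
    inertia K φ ≤ inertia K (cfRes H φ) :=
  fun _ hg => ⟨hg.1, by rw [cfConjg_cfRes (hn hg.1), hg.2]⟩

theorem inertia_le_inertia_cfInd (h1 : K ≤ 𝐍(L)) (h2 : K ≤ 𝐍(H)) (φ : G → ℂ) :
    inertia K φ ≤ inertia K (cfInd L H φ) :=
  fun _ hg => ⟨hg.1, by rw [cfConjg_cfInd (h1 hg.1) (h2 hg.1), hg.2]⟩

theorem inertia_le_norm_cfker (hn : K ≤ 𝐍(H)) (φ : G → ℂ) : inertia K φ ≤ 𝐍(cfker H φ) :=
  fun _ hg => conj_eq_self_iff.1 (by rw [← cfker_cfConjg (hn hg.1), hg.2])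

/-- elements acting trivially on `H / ker φ` fix `φ` -/
theorem mem_inertia_of_commutator (hφ : φ ∈ CF H) (hg : g ∈ K) (hn : g ∈ 𝐍(H))
    (h : ∀ x ∈ H, g * x * g⁻¹ * x⁻¹ ∈ cfker H φ) : g ∈ inertia K φ := by
  refine mem_inertia_of hg fun x => ?_
  by_cases hx : x ∈ H
  · rw [← cfkerMl (h x hx) x, inv_mul_cancel_right]
  · rw [cfun0 hφ hx, cfun0 hφ fun h => hx ((mem_norm_iff.1 hn x).2 h)]

/-- the inertia group of a linear character -/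
theorem mem_inertia_lin (hl : IsLinChar H l) (hg : g ∈ K) (hn : g ∈ 𝐍(H)) :
    g ∈ inertia K l ↔ ∀ x ∈ H, g * x * g⁻¹ * x⁻¹ ∈ cfker H l := by
  refine ⟨fun h x hx => ?_, mem_inertia_of_commutator hl.mem_CF hg hn⟩
  rw [mem_cfker_lin hl, lin_charMl hl (conj_mem_of_norm hn hx), inertia_valJ h, lin_charV hl hx,
    mul_inv_cancel₀ (lin_char_neq0 hl hx)]

/-! ### conjugacy classes of class functions -/

theorem mem_cfclass : ψ ∈ cfclass K φ ↔ ∃ g ∈ K, ψ = cfConjg g φ := by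
  simp [cfclass, eq_comm]

theorem cfConjg_mem_cfclass (φ : G → ℂ) (hg : g ∈ K) : cfConjg g φ ∈ cfclass K φ :=
  mem_cfclass.2 ⟨g, hg, rfl⟩

theorem cfclass_refl (K : Subgroup G) (φ : G → ℂ) : φ ∈ cfclass K φ :=
  mem_cfclass.2 ⟨1, K.one_mem, by simp⟩

theorem cfclass_trans (h : ψ ∈ cfclass K φ) (h' : θ ∈ cfclass K ψ) : θ ∈ cfclass K φ := by
  obtain ⟨g, hg, rfl⟩ := mem_cfclass.1 h
  obtain ⟨k, hk, rfl⟩ := mem_cfclass.1 h'
  exact mem_cfclass.2 ⟨k * g, mul_mem hk hg, by rw [cfConjgM]⟩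

theorem cfclass_symm (h : ψ ∈ cfclass K φ) : φ ∈ cfclass K ψ := by
  obtain ⟨g, hg, rfl⟩ := mem_cfclass.1 h
  exact mem_cfclass.2 ⟨g⁻¹, inv_mem hg, by simp⟩

theorem cfclass_sym : ψ ∈ cfclass K φ ↔ φ ∈ cfclass K ψ := ⟨cfclass_symm, cfclass_symm⟩

theorem cfclass_eq_of_mem (h : ψ ∈ cfclass K φ) : cfclass K ψ = cfclass K φ :=
  Finset.ext fun _ => ⟨cfclass_trans h, cfclass_trans (cfclass_symm h)⟩

theorem cfclass_mono (φ : G → ℂ) (h : K ≤ L) : cfclass K φ ⊆ cfclass L φ := fun _ hψ => by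
  obtain ⟨g, hg, rfl⟩ := mem_cfclass.1 hψ
  exact cfConjg_mem_cfclass _ (h hg)

theorem cfclass_one (h : ψ ∈ cfclass K φ) : ψ 1 = φ 1 := by
  obtain ⟨g, -, rfl⟩ := mem_cfclass.1 h; simp

theorem cfclass_irr (hn : K ≤ 𝐍(H)) (hθ : IsIrr H θ) (h : ψ ∈ cfclass K θ) : IsIrr H ψ := by
  obtain ⟨g, hg, rfl⟩ := mem_cfclass.1 h; exact hθ.cfConjg (hn hg)

theorem cfclass_mem_CF (hn : K ≤ 𝐍(H)) (hθ : θ ∈ CF H) (h : ψ ∈ cfclass K θ) : ψ ∈ CF H := by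
  obtain ⟨g, hg, rfl⟩ := mem_cfclass.1 h; exact cfConjg_mem_CF (hn hg) hθ

theorem cfclass_invariant (h : inertia K φ = K) : cfclass K φ = {φ} := by
  refine Finset.eq_singleton_iff_unique_mem.2 ⟨cfclass_refl _ _, fun ψ hψ => ?_⟩
  obtain ⟨g, hg, rfl⟩ := mem_cfclass.1 hψ
  exact (h.ge hg).2

theorem cfclass_cf1 (h : K ≤ 𝐍(H)) : cfclass K (cf1 H) = {cf1 H} := cfclass_invariant (inertia_cf1 h)

theorem le_cfker_cfclass (hn : K ≤ 𝐍(H)) (hN : K ≤ 𝐍(N)) (h : ψ ∈ cfclass K φ) :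
    N ≤ cfker H ψ ↔ N ≤ cfker H φ := by
  obtain ⟨g, hg, rfl⟩ := mem_cfclass.1 h
  rw [cfker_cfConjg (hn hg), le_conj_iff_inv_conj_le, conj_eq_of_mem_norm (inv_mem (hN hg))]

theorem sum_cfConjg {M : Type*} [AddCommMonoid M] (K : Subgroup G) (φ : G → ℂ) (f : (G → ℂ) → M) :
    ∑ g ∈ elts (K : Set G), f (cfConjg g φ) = ♯(inertia K φ) • ∑ ξ ∈ cfclass K φ, f ξ := by
  classical
  rw [← Finset.sum_fiberwise_of_maps_to (g := fun g => cfConjg g φ) (t := cfclass K φ)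
    (fun g hg => cfConjg_mem_cfclass _ (by simpa using hg)), Finset.smul_sum]
  refine Finset.sum_congr rfl fun ξ hξ => ?_
  rw [Finset.sum_congr rfl fun p hp => by rw [(Finset.mem_filter.1 hp).2], Finset.sum_const]
  congr 1
  obtain ⟨k, hk, rfl⟩ := mem_cfclass.1 hξ
  rw [← card_elts]
  symm
  refine Finset.card_bij (fun y _ => k * y) (fun y hy => ?_) (fun y _ z _ e => mul_left_cancel e)
    fun p hp => ?_
  · have hy : y ∈ inertia K φ := by simpa using hy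
    simp [K.mul_mem hk hy.1, cfConjgM, hy.2]
  · simp only [Finset.mem_filter, mem_elts, SetLike.mem_coe] at hp
    refine ⟨k⁻¹ * p, ?_, by group⟩
    simp only [mem_elts, SetLike.mem_coe, mem_inertia]
    exact ⟨K.mul_mem (inv_mem hk) hp.1, by rw [cfConjgM, hp.2, cfConjgK]⟩

theorem card_cfclass (K : Subgroup G) (φ : G → ℂ) : (cfclass K φ).card = (inertia K φ).relIndex K := by
  have h := sum_cfConjg K φ fun _ => (1 : ℕ)
  simp only [Finset.sum_const, smul_eq_mul, mul_one, card_elts] at h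
  rw [← card_mul_relIndex (inertia_le K φ)] at h
  exact (Nat.eq_of_mul_eq_mul_left (card_pos' _) h).symm

/-! ### Peterfalvi (1.5) -/

/-- (1.5)(a) -/
theorem cfResInd_sum_cfclass (hH : H ⊴ L) (hθ : θ ∈ CF H) :
    cfRes H (cfInd L H θ) = (H.relIndex (inertia L θ) : ℂ) • ∑ ξ ∈ cfclass L θ, ξ := by
  rw [cfResInd hH.1 θ (CF_le_suppOn H hθ) hH.2, sum_cfConjg L θ fun ξ => ξ, ← Nat.cast_smul_eq_nsmul ℂ,
    smul_smul, ← card_mul_relIndexC (sub_inertia hH.1 hθ), inv_mul_cancel_left₀ (cardC_ne_zero H)]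

theorem cfRes_Ind_invariant (hH : H ⊴ L) (hθ : θ ∈ CF H) (h : inertia L θ = L) :
    cfRes H (cfInd L H θ) = (H.relIndex L : ℂ) • θ := by
  rw [cfResInd_sum_cfclass hH hθ, cfclass_invariant h, h, Finset.sum_singleton]

open Classical in
theorem cfdot_sum_cfclass (hn : L ≤ 𝐍(H)) (hθ : IsIrr H θ) (hφ : IsIrr H φ) :
    ⟪∑ ξ ∈ cfclass L θ, ξ, φ⟫[H] = if φ ∈ cfclass L θ then 1 else 0 := by
  rw [cfdot_suml, Finset.sum_congr rfl fun ξ hξ => cfdot_irr (cfclass_irr hn hθ hξ) hφ,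
    Finset.sum_ite_eq']

open Classical in
theorem cfdot_Ind_Ind_irr (hH : H ⊴ L) (hθ : IsIrr H θ) (hφ : IsIrr H φ) :
    ⟪cfInd L H θ, cfInd L H φ⟫[L] = if φ ∈ cfclass L θ then (H.relIndex (inertia L θ) : ℂ) else 0 := by
  rw [← cfdot_Res_l hH.1 (cfInd_mem_CF _ _ _) hφ.mem_CF, cfResInd_sum_cfclass hH hθ.mem_CF, cfdotZl,
    cfdot_sum_cfclass hH.2 hθ hφ]
  split_ifs <;> simp

/-- (1.5)(b) -/
theorem cfnorm_Ind_irr (hH : H ⊴ L) (hθ : IsIrr H θ) :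
    ⟪cfInd L H θ, cfInd L H θ⟫[L] = H.relIndex (inertia L θ) := by
  rw [cfdot_Ind_Ind_irr hH hθ hθ, if_pos (cfclass_refl _ _)]

theorem cfnorm_Ind_irr' (hH : H ⊴ L) (hθ : IsIrr H θ) :
    cfnorm L (cfInd L H θ) = H.relIndex (inertia L θ) :=
  cfnorm_eq_of_cfdot (by rw [cfnorm_Ind_irr hH hθ]; simp)

theorem inertia_Ind_irr_iff (hH : H ⊴ L) (hθ : IsIrr H θ) :
    IsIrr L (cfInd L H θ) ↔ inertia L θ ≤ H := by
  rw [irrEchar, cfnorm_Ind_irr hH hθ, and_iff_right (hθ.isChar.cfInd hH.1), Nat.cast_eq_one,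
    relIndex_eq_one]

theorem inertia_Ind_irr (hH : H ⊴ L) (hθ : IsIrr H θ) (h : inertia L θ ≤ H) : IsIrr L (cfInd L H θ) :=
  (inertia_Ind_irr_iff hH hθ).2 h

theorem inertia_eq_of_Ind_irr (hH : H ⊴ L) (hθ : IsIrr H θ) (h : IsIrr L (cfInd L H θ)) :
    inertia L θ = H :=
  ((inertia_Ind_irr_iff hH hθ).1 h).antisymm (sub_inertia hH.1 hθ.mem_CF)

theorem cfclass_Ind' (H : Subgroup G) (h : φ ∈ cfclass L θ) : cfInd L H φ = cfInd L H θ := by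
  obtain ⟨g, hg, rfl⟩ := mem_cfclass.1 h
  exact cfInd_cfConjg H hg θ

/-- (1.5)(c) -/
theorem cfclass_Ind (_hH : H ⊴ L) (_hθ : θ ∈ CF H) (h : φ ∈ cfclass L θ) :
    cfInd L H φ = cfInd L H θ := cfclass_Ind' H h

theorem not_cfclass_Ind_ortho (hH : H ⊴ L) (hθ : IsIrr H θ) (hφ : IsIrr H φ) (h : φ ∉ cfclass L θ) :
    ⟪cfInd L H θ, cfInd L H φ⟫[L] = 0 := by
  rw [cfdot_Ind_Ind_irr hH hθ hφ, if_neg h]

theorem cfclass_Ind_irrP (hH : H ⊴ L) (hθ : IsIrr H θ) (hφ : IsIrr H φ) :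
    cfInd L H φ = cfInd L H θ ↔ φ ∈ cfclass L θ := by
  refine ⟨fun e => ?_, cfclass_Ind' H⟩
  by_contra h
  have := not_cfclass_Ind_ortho hH hθ hφ h
  rw [e, cfnorm_Ind_irr hH hθ] at this
  exact relIndexC_ne_zero _ _ this

theorem cfInd_ortho_of_ne (hH : H ⊴ L) (hθ : IsIrr H θ) (hφ : IsIrr H φ)
    (h : cfInd L H θ ≠ cfInd L H φ) : ⟪cfInd L H θ, cfInd L H φ⟫[L] = 0 :=
  not_cfclass_Ind_ortho hH hθ hφ fun h' => h (cfclass_Ind' H h').symm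

theorem cfInd_irr_eq1 (hH : H ⊴ L) (hθ : IsIrr H θ) :
    cfInd L H θ = cfInd L H (cf1 H) ↔ θ = cf1 H := by
  rw [cfclass_Ind_irrP hH (isIrr_cf1 H) hθ, cfclass_cf1 hH.2, Finset.mem_singleton]

/-- summation over a conjugation invariant set of irreducible characters, class by class -/
theorem sum_seqInd_cfclass {M : Type*} [AddCommMonoid M] (hH : H ⊴ L) {X : Finset (G → ℂ)}
    (hX : ∀ θ ∈ X, IsIrr H θ) (hc : ∀ θ ∈ X, ∀ g ∈ L, cfConjg g θ ∈ X) (f : (G → ℂ) → M)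
    (F : (G → ℂ) → M) (hF : ∀ θ ∈ X, F (cfInd L H θ) = ∑ ξ ∈ cfclass L θ, f ξ) :
    ∑ φ ∈ seqInd H L X, F φ = ∑ θ ∈ X, f θ := by
  classical
  rw [← Finset.sum_fiberwise_of_maps_to (g := fun θ => cfInd L H θ) (s := X) (t := seqInd H L X)
    (fun θ hθ => by unfold seqInd; convert Finset.mem_image_of_mem (cfInd L H) hθ)]
  refine Finset.sum_congr rfl fun φ hφ => ?_
  obtain ⟨θ, hθ, rfl⟩ : ∃ θ ∈ X, cfInd L H θ = φ := by simpa [seqInd] using hφ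
  rw [hF θ hθ]
  refine Finset.sum_congr (Finset.ext fun ξ => ?_) fun _ _ => rfl
  rw [Finset.mem_filter]
  refine ⟨fun h => ⟨?_, cfclass_Ind' H h⟩, fun h => (cfclass_Ind_irrP hH (hX θ hθ) (hX ξ h.1)).1 h.2⟩
  obtain ⟨g, hg, rfl⟩ := mem_cfclass.1 h
  exact hc θ hθ g hg

theorem card_imset_Ind_irr (hH : H ⊴ L) {X : Finset (G → ℂ)} (hX : ∀ θ ∈ X, IsIrr H θ)
    (hi : ∀ θ ∈ X, IsIrr L (cfInd L H θ)) (hc : ∀ θ ∈ X, ∀ g ∈ L, cfConjg g θ ∈ X) :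
    X.card = H.relIndex L * (seqInd H L X).card := by
  have := sum_seqInd_cfclass hH hX hc (fun _ => 1) (fun _ => H.relIndex L) fun θ hθ => by
    rw [Finset.sum_const, smul_eq_mul, mul_one, card_cfclass, inertia_eq_of_Ind_irr hH (hX θ hθ) (hi θ hθ)]
  simpa [mul_comm] using this.symm

/-- (1.5)(d) -/
theorem scaled_cfResInd_sum_cfclass (hH : H ⊴ L) (hθ : IsIrr H θ) :
    (cfInd L H θ 1 / ⟪cfInd L H θ, cfInd L H θ⟫[L]) • cfRes H (cfInd L H θ) =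
      (H.relIndex L : ℂ) • ∑ ξ ∈ cfclass L θ, ξ 1 • ξ := by
  rw [cfnorm_Ind_irr hH hθ, cfResInd_sum_cfclass hH hθ.mem_CF, smul_smul,
    div_mul_cancel₀ _ (relIndexC_ne_zero _ _), cfInd1 hH.1, mul_smul, Finset.smul_sum]
  rw [Finset.sum_congr rfl fun ξ hξ => by rw [← cfclass_one hξ]]

/-! ### Clifford's theorem -/

theorem cfdot_Res_cfclass (hH : H ⊴ L) (hχ : χ ∈ CF L) (h : φ ∈ cfclass L θ) :
    ⟪cfRes H χ, φ⟫[H] = ⟪cfRes H χ, θ⟫[H] := by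
  obtain ⟨g, hg, rfl⟩ := mem_cfclass.1 h
  rw [← cfConjg_cfRes_of_mem hχ hg (hH.2 hg), cfdot_cfConjg (hH.2 hg),
    cfConjg_cfRes_of_mem hχ hg (hH.2 hg)]

theorem cfclass_of_constt_Res (hH : H ⊴ L) (hχ : IsIrr L χ) (hθ : IsIrr H θ) (hφ : IsIrr H φ)
    (h1 : ⟪cfRes H χ, θ⟫[H] ≠ 0) (h2 : ⟪cfRes H χ, φ⟫[H] ≠ 0) : φ ∈ cfclass L θ := by
  by_contra h
  rw [← cfdot_Ind_irr hH.1 hθ.isChar hχ.isChar] at h1
  refine h2 ?_
  rw [cfdot_Res_l hH.1 hχ.mem_CF hφ.mem_CF]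
  exact cfdot_constt_eq_zero (hθ.isChar.cfInd hH.1) hχ h1 (hφ.isChar.cfInd hH.1)
    (not_cfclass_Ind_ortho hH hθ hφ h)

/-- Clifford's theorem, Isaacs (6.2) -/
theorem Clifford_Res_sum_cfclass (hH : H ⊴ L) (hχ : IsIrr L χ) (hθ : IsIrr H θ)
    (h : ⟪cfRes H χ, θ⟫[H] ≠ 0) : cfRes H χ = ⟪cfRes H χ, θ⟫[H] • ∑ ξ ∈ cfclass L θ, ξ := by
  refine cfun_ext_irr (cfRes_mem_CF hH.1 hχ.mem_CF) (Submodule.smul_mem _ _
    (Submodule.sum_mem _ fun ξ hξ => cfclass_mem_CF hH.2 hθ.mem_CF hξ)) fun φ hφ => ?_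
  rw [cfdotZl, cfdot_sum_cfclass hH.2 hθ hφ]
  split_ifs with h1
  · rw [mul_one, cfdot_Res_cfclass hH hχ.mem_CF h1]
  · rw [mul_zero]
    by_contra h2
    exact h1 (cfclass_of_constt_Res hH hχ hθ hφ h h2)

theorem Clifford_one (hH : H ⊴ L) (hχ : IsIrr L χ) (hθ : IsIrr H θ) (h : ⟪cfRes H χ, θ⟫[H] ≠ 0) :
    χ 1 = ⟪cfRes H χ, θ⟫[H] * (inertia L θ).relIndex L * θ 1 := by
  have := congrFun (Clifford_Res_sum_cfclass hH hχ hθ h) 1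
  rw [cfRes1, Pi.smul_apply, Finset.sum_apply, Finset.sum_congr rfl fun ξ hξ => cfclass_one hξ,
    Finset.sum_const, card_cfclass] at this
  rw [this]; simp [mul_assoc]

/-- Clifford's theorem for an invariant constituent -/
theorem Clifford_invariant (hH : H ⊴ L) (hχ : IsIrr L χ) (hθ : IsIrr H θ) (h : ⟪cfRes H χ, θ⟫[H] ≠ 0)
    (hi : inertia L θ = L) : cfRes H χ = ⟪cfRes H χ, θ⟫[H] • θ := by
  conv_lhs => rw [Clifford_Res_sum_cfclass hH hχ hθ h, cfclass_invariant hi, Finset.sum_singleton]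

theorem exists_cfRes_eq_smul (hH : H ⊴ L) (hχ : IsIrr L χ) (hθ : IsIrr H θ)
    (h : ⟪cfRes H χ, θ⟫[H] ≠ 0) (hi : inertia L θ = L) :
    ∃ e : ℕ, e ≠ 0 ∧ ⟪cfRes H χ, θ⟫[H] = e ∧ cfRes H χ = (e : ℂ) • θ ∧ χ 1 = e * θ 1 := by
  obtain ⟨e, he⟩ := Cnat_cfdot_char (hχ.isChar.cfRes hH.1) hθ.isChar
  have h1 := Clifford_invariant hH hχ hθ h hi
  rw [he] at h h1
  exact ⟨e, by simpa using h, he, h1, by simpa using congrFun h1 1⟩

/-- Isaacs (6.7)-like: the degree of a constituent of the restriction divides the degree -/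
theorem dvdn_constt_Res1_irr1 (hH : H ⊴ L) (hχ : IsIrr L χ) (hθ : IsIrr H θ)
    (h : ⟪cfRes H χ, θ⟫[H] ≠ 0) : ∃ n : ℕ, χ 1 = n * θ 1 := by
  obtain ⟨e, he⟩ := Cnat_cfdot_char (hχ.isChar.cfRes hH.1) hθ.isChar
  exact ⟨e * (inertia L θ).relIndex L, by rw [Clifford_one hH hχ hθ h, he]; simp⟩

/-- an irreducible character above `θ` is `Ind θ` when the latter is irreducible -/
theorem eq_cfInd_of_constt (hH : H ≤ L) (hχ : IsIrr L χ) (hθ : IsChar H θ) (hI : IsIrr L (cfInd L H θ))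
    (h : ⟪cfRes H χ, θ⟫[H] ≠ 0) : χ = cfInd L H θ :=
  (hI.eq_of_cfdot_ne_zero hχ (by rwa [cfdot_Ind_irr hH hθ hχ.isChar])).symm

theorem cfRes_cfInd_of_irr (hH : H ⊴ L) (hθ : IsIrr H θ) (hI : IsIrr L (cfInd L H θ)) :
    cfRes H (cfInd L H θ) = ∑ ξ ∈ cfclass L θ, ξ := by
  rw [cfResInd_sum_cfclass hH hθ.mem_CF, inertia_eq_of_Ind_irr hH hθ hI]; simp

theorem re_cfdot_char_ge0 (h : IsChar H φ) (h' : IsChar H ψ) : 0 ≤ (⟪φ, ψ⟫[H]).re := by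
  obtain ⟨n, hn⟩ := Cnat_cfdot_char h h'
  rw [hn]; simp

theorem constt_Res_trans (hH : H ≤ K) (hφ : IsChar K φ) (hψ : IsIrr K ψ) (h0 : ⟪φ, ψ⟫[K] ≠ 0)
    (hθ : IsChar H θ) (h1 : ⟪cfRes H ψ, θ⟫[H] ≠ 0) : ⟪cfRes H φ, θ⟫[H] ≠ 0 := by
  intro h
  rw [cfdot_Res_l hH hφ.mem_CF hθ.mem_CF] at h
  rw [cfdot_Res_l hH hψ.mem_CF hθ.mem_CF] at h1
  exact h1 (cfdot_constt_eq_zero hφ hψ h0 (hθ.cfInd hH) h)

theorem constt_Ind_trans (hH : H ≤ K) (hφ : IsChar H φ) (hψ : IsIrr H ψ) (h0 : ⟪φ, ψ⟫[H] ≠ 0)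
    (hχ : IsChar K χ) (h1 : ⟪cfInd K H ψ, χ⟫[K] ≠ 0) : ⟪cfInd K H φ, χ⟫[K] ≠ 0 := by
  intro h
  rw [← Frobenius_reciprocity hH hφ.mem_CF hχ.mem_CF] at h
  rw [← Frobenius_reciprocity hH hψ.mem_CF hχ.mem_CF] at h1
  exact h1 (cfdot_constt_eq_zero hφ hψ h0 (hχ.cfRes hH) h)

/-- a constituent of `Ind_H^L θ` lies over a constituent of `Ind_H^K θ` -/
theorem exists_constt_between (hH : H ≤ K) (hK : K ≤ L) (hθ : θ ∈ CF H) (hχ : χ ∈ CF L)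
    (h : ⟪cfRes H χ, θ⟫[H] ≠ 0) :
    ∃ ψ, IsIrr K ψ ∧ ⟪cfRes K χ, ψ⟫[K] ≠ 0 ∧ ⟪cfRes H ψ, θ⟫[H] ≠ 0 := by
  rw [← cfResRes hH, cfdot_Res_l hH (cfRes_mem_CF hK hχ) hθ] at h
  obtain ⟨ψ, hψ, h1, h2⟩ := exists_common_constt (cfRes_mem_CF hK hχ) h
  refine ⟨ψ, hψ, h1, ?_⟩
  rw [cfdot_Res_l hH hψ.mem_CF hθ]
  exact fun h => h2 (cfdot_symm0 h)

/-! ### the Clifford correspondence, Isaacs (6.11) -/

section Bijection

theorem re_cfdot_Res_le (hH : H ≤ K) (hψ : IsChar K (φ - ψ)) (hθ : IsChar H θ) :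
    (⟪cfRes H ψ, θ⟫[H]).re ≤ (⟪cfRes H φ, θ⟫[H]).re := by
  have := re_cfdot_char_ge0 (hψ.cfRes hH) hθ
  rw [map_sub, cfdotBl, Complex.sub_re] at this
  linarith

theorem constt_Inertia_aux (hH : H ⊴ L) (hθ : IsIrr H θ) (hψ : IsIrr (inertia L θ) ψ)
    (h : ⟪cfRes H ψ, θ⟫[H] ≠ 0) : IsIrr L (cfInd L (inertia L θ) ψ) ∧
      ⟪cfRes H (cfInd L (inertia L θ) ψ), θ⟫[H] = ⟪cfRes H ψ, θ⟫[H] := by
  have hT := normal_inertia hH hθ.mem_CF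
  have hTL := inertia_le L θ
  obtain ⟨e, -, he, -, he1⟩ := exists_cfRes_eq_smul hT hψ hθ h (inertia_inertia _ _)
  obtain ⟨χ, hχ, h0⟩ := constt_cfInd_irr hψ hTL
  have h0' : ⟪cfRes (inertia L θ) χ, ψ⟫[inertia L θ] ≠ 0 := by
    rwa [← cfdot_Ind_irr hTL hψ.isChar hχ.isChar]
  have h1 : ⟪cfRes H χ, θ⟫[H] ≠ 0 := by
    have := constt_Res_trans hT.1 (hχ.isChar.cfRes hTL) hψ h0' hθ.isChar h
    rwa [cfResRes hT.1] at this
  obtain ⟨f, hf⟩ := Cnat_cfdot_char (hχ.isChar.cfRes hH.1) hθ.isChar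
  have hef : (e : ℝ) ≤ f := by
    have := re_cfdot_Res_le hT.1
      ((hχ.isChar.cfRes hTL).sub_of_constt hψ h0') hθ.isChar
    rwa [cfResRes hT.1, he, hf, Complex.natCast_re, Complex.natCast_re] at this
  have h2 := char1_ge_constt (hψ.isChar.cfInd hTL) hχ h0
  have h3 := Clifford_one hH hχ hθ h1
  obtain ⟨d, hd, hd1⟩ := hθ.exists_one
  rw [cfInd1 hTL, he1, h3, hf, hd1] at h2
  have h4 : (f : ℝ) * (inertia L θ).relIndex L * d ≤ (inertia L θ).relIndex L * (e * d) := by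
    simpa using h2
  have ht : (0 : ℝ) < (inertia L θ).relIndex L := by exact_mod_cast relIndex_pos _ _
  have hd' : (0 : ℝ) < d := by exact_mod_cast hd
  have hfe : f = e := by
    have : (f : ℝ) ≤ e := by
      by_contra hc
      have := mul_pos (mul_pos (sub_pos.2 (not_le.1 hc)) ht) hd'
      nlinarith
    exact_mod_cast le_antisymm this hef
  have e1 : cfInd L (inertia L θ) ψ = χ := eq_of_constt_of_one_eq (hψ.isChar.cfInd hTL) hχ h0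
    (by rw [cfInd1 hTL, he1, h3, hf, hfe]; ring)
  rw [e1, he, hf, hfe]
  exact ⟨hχ, rfl⟩

theorem constt_Inertia_irr (hH : H ⊴ L) (hθ : IsIrr H θ) (hψ : IsIrr (inertia L θ) ψ)
    (h : ⟪cfRes H ψ, θ⟫[H] ≠ 0) : IsIrr L (cfInd L (inertia L θ) ψ) :=
  (constt_Inertia_aux hH hθ hψ h).1

theorem constt_Inertia_cfdot (hH : H ⊴ L) (hθ : IsIrr H θ) (hψ : IsIrr (inertia L θ) ψ)
    (h : ⟪cfRes H ψ, θ⟫[H] ≠ 0) :
    ⟪cfRes H (cfInd L (inertia L θ) ψ), θ⟫[H] = ⟪cfRes H ψ, θ⟫[H] :=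
  (constt_Inertia_aux hH hθ hψ h).2

/-- `ψ` is the only constituent of `Res (Ind ψ)` lying over `θ` -/
theorem constt_Inertia_unique (hH : H ⊴ L) (hθ : IsIrr H θ) (hψ : IsIrr (inertia L θ) ψ)
    (h : ⟪cfRes H ψ, θ⟫[H] ≠ 0) (hξ : IsIrr (inertia L θ) ξ) (h' : ⟪cfRes H ξ, θ⟫[H] ≠ 0)
    (h0 : ⟪cfRes (inertia L θ) (cfInd L (inertia L θ) ψ), ξ⟫[inertia L θ] ≠ 0) : ξ = ψ := by
  by_contra hne
  have hT := normal_inertia hH hθ.mem_CF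
  have hTL := inertia_le L θ
  have hχ := constt_Inertia_irr hH hθ hψ h
  have hR := hχ.isChar.cfRes hTL
  have h1 : ⟪cfRes (inertia L θ) (cfInd L (inertia L θ) ψ), ψ⟫[inertia L θ] ≠ 0 := by
    rw [cfdot_Res_l hTL hχ.mem_CF hψ.mem_CF, cfdot_irr_self hχ]; exact one_ne_zero
  have h2 := hR.sub_of_constt hψ h1
  have h3 := constt_Res_trans hT.1 h2 hξ (by rwa [cfdotBl, cfdot_irr_ne hψ hξ (Ne.symm hne), sub_zero])
    hθ.isChar h'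
  rw [map_sub, cfdotBl, cfResRes hT.1, constt_Inertia_cfdot hH hθ hψ h, sub_self] at h3
  exact h3 rfl

theorem constt_Inertia_inj (hH : H ⊴ L) (hθ : IsIrr H θ) (hψ : IsIrr (inertia L θ) ψ)
    (h : ⟪cfRes H ψ, θ⟫[H] ≠ 0) (hξ : IsIrr (inertia L θ) ξ) (h' : ⟪cfRes H ξ, θ⟫[H] ≠ 0)
    (e : cfInd L (inertia L θ) ξ = cfInd L (inertia L θ) ψ) : ξ = ψ := by
  refine constt_Inertia_unique hH hθ hψ h hξ h' ?_
  rw [cfdot_Res_l (inertia_le L θ) (cfInd_mem_CF _ _ _) hξ.mem_CF, e,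
    cfdot_irr_self (constt_Inertia_irr hH hθ hψ h)]
  exact one_ne_zero

theorem constt_Inertia_surj (hH : H ⊴ L) (hθ : IsIrr H θ) (hχ : IsIrr L χ)
    (h : ⟪cfRes H χ, θ⟫[H] ≠ 0) :
    ∃ ψ, IsIrr (inertia L θ) ψ ∧ ⟪cfRes H ψ, θ⟫[H] ≠ 0 ∧ χ = cfInd L (inertia L θ) ψ := by
  obtain ⟨ψ, hψ, h1, h2⟩ := exists_constt_between (sub_inertia hH.1 hθ.mem_CF) (inertia_le L θ)
    hθ.mem_CF hχ.mem_CF h
  exact ⟨ψ, hψ, h2, eq_cfInd_of_constt (inertia_le L θ) hχ hψ.isChar (constt_Inertia_irr hH hθ hψ h2) h1⟩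

/-- the correspondence for a subgroup containing the inertia group -/
theorem irr_cfInd_of_inertia_le (hH : H ⊴ L) (hθ : IsIrr H θ) (hT : inertia L θ ≤ T) (hTL : T ≤ L)
    (hψ : IsIrr T ψ) (h : ⟪cfRes H ψ, θ⟫[H] ≠ 0) : IsIrr L (cfInd L T ψ) := by
  have e : inertia T θ = inertia L θ := by rw [inertia_of_le θ hTL, inf_eq_right.2 hT]
  obtain ⟨ξ, hξ, h1, rfl⟩ := constt_Inertia_surj
    (hH.mono ((sub_inertia hH.1 hθ.mem_CF).trans hT) hTL) hθ hψ h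
  rw [e] at hξ ⊢
  rw [cfIndInd' hT hTL hξ.mem_CF]
  exact constt_Inertia_irr hH hθ hξ h1

/-- (1.7)(a) (Clifford correspondence) -/
theorem cfInd_sum_Inertia (hH : H ⊴ L) (hθ : IsIrr H θ) :
    (∀ ψ, IsIrr (inertia L θ) ψ → ⟪cfInd (inertia L θ) H θ, ψ⟫[inertia L θ] ≠ 0 →
      IsIrr L (cfInd L (inertia L θ) ψ) ∧
      ⟪cfInd L H θ, cfInd L (inertia L θ) ψ⟫[L] = ⟪cfInd (inertia L θ) H θ, ψ⟫[inertia L θ]) ∧
    (∀ ψ ψ', IsIrr (inertia L θ) ψ → ⟪cfInd (inertia L θ) H θ, ψ⟫[inertia L θ] ≠ 0 →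
      IsIrr (inertia L θ) ψ' → ⟪cfInd (inertia L θ) H θ, ψ'⟫[inertia L θ] ≠ 0 →
      cfInd L (inertia L θ) ψ = cfInd L (inertia L θ) ψ' → ψ = ψ') ∧
    ∀ χ, IsIrr L χ → ⟪cfInd L H θ, χ⟫[L] ≠ 0 → ∃ ψ, IsIrr (inertia L θ) ψ ∧
      ⟪cfInd (inertia L θ) H θ, ψ⟫[inertia L θ] ≠ 0 ∧ χ = cfInd L (inertia L θ) ψ := by
  have hT := sub_inertia hH.1 hθ.mem_CF
  refine ⟨fun ψ hψ h => ?_, fun ψ ξ hψ h hξ h' e => ?_, fun χ hχ h => ?_⟩
  · rw [cfdot_Ind_irr hT hθ.isChar hψ.isChar] at h ⊢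
    have := constt_Inertia_aux hH hθ hψ h
    exact ⟨this.1, by rw [cfdot_Ind_irr hH.1 hθ.isChar this.1.isChar, this.2]⟩
  · rw [cfdot_Ind_irr hT hθ.isChar hψ.isChar] at h
    rw [cfdot_Ind_irr hT hθ.isChar hξ.isChar] at h'
    exact constt_Inertia_inj hH hθ hξ h' hψ h e
  · rw [cfdot_Ind_irr hH.1 hθ.isChar hχ.isChar] at h
    obtain ⟨ψ, hψ, h1, e⟩ := constt_Inertia_surj hH hθ hχ h
    exact ⟨ψ, hψ, by rwa [cfdot_Ind_irr hT hθ.isChar hψ.isChar], e⟩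

end Bijection

end Cfsg.Agent.OO
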