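import Mathlib
import Cfsg.Agent.Lib.OO.CF5

/-!
# CF5b: Gallagher's theorem, prime index extensions, Brauer's permutation lemma, Frobenius groups
-/

set_option autoImplicit false
set_option linter.unusedSectionVars false

namespace Cfsg.Agent.OO

open Subgroup
open scoped Pointwise ComplexConjugate

universe u v

variable {G : Type u} [Group G] [Finite G] {H K L N T : Subgroup G} {φ ψ θ χ ξ l : G → ℂ} {g : G}

/-! ### Gallagher's theorem, Isaacs (6.17) -/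

open Classical in
theorem cfInd_cf1_sum (hN : N ⊴ K) :
    cfInd K N (cf1 N) = ∑ β ∈ (Irr K).filter fun β => N ≤ cfker K β, β 1 • β := by
  rw [cfInd_cfun1 hN, sum_irr_cfker hN]

open Classical in
theorem cfIndRes_sum (hN : N ⊴ K) (hχ : χ ∈ CF K) :
    cfInd K N (cfRes N χ) = ∑ β ∈ (Irr K).filter fun β => N ≤ cfker K β, β 1 • (β * χ) := by
  rw [cfIndRes hχ, cfInd_cf1_sum hN, Finset.sum_mul]
  simp only [smul_mul_assoc]

theorem cfdot_mul_star_ext (hN : N ⊴ K) (hχ : IsChar K χ) (hθ : IsIrr N (cfRes N χ)) {γ : G → ℂ}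
    (hγ : γ ∈ CF K) (hk : N ≤ cfker K γ) : ⟪χ * star χ, γ⟫[K] = ⟪cf1 K, γ⟫[K] := by
  classical
  have hc := hχ.mul hχ.star
  have h1 : ⟪χ * star χ, cf1 K⟫[K] = ⟪χ, χ⟫[K] := by rw [← cfdot_mul_right, mul_cf1 hχ.mem_CF]
  have hχ0 : χ ≠ 0 := fun h => hθ.ne_zero (by rw [h, map_zero])
  have h2 : ⟪χ * star χ, cfInd K N (cf1 N)⟫[K] = 1 := by
    rw [cfdot_cfInd_right hN.1 hc.mem_CF (CF_le_suppOn N (cf1_mem_CF N)), ← cfdot_mul_right,
      ← cfdot_irr_self hθ, cfdot_cfRes_left, cfdot_cfRes_right]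
    exact cfdot_congr (fun _ _ => rfl) fun x hx => by simp [cf1E hx]
  have hm : cf1 K ∈ (Irr K).filter fun β => N ≤ cfker K β := by simp [isIrr_cf1, hN.1]
  rw [cfInd_cf1_sum hN, cfdot_sumr, ← Finset.add_sum_erase _ _ hm, cf1_one, one_smul, h1] at h2
  have h3 := congrArg Complex.re h2
  rw [Complex.add_re, Complex.re_sum, ← cfnorm_eq_re, Complex.one_re] at h3
  have h4 := cfnorm_vchar_ge1 (char_vchar hχ) hχ0
  have h5 : ∀ β ∈ ((Irr K).filter fun β => N ≤ cfker K β).erase (cf1 K),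
      0 ≤ (⟪χ * star χ, β 1 • β⟫[K]).re := fun β hβ => by
    have hβ : IsIrr K β := by simp only [Finset.mem_erase, Finset.mem_filter, mem_Irr] at hβ; exact hβ.2.1
    exact re_cfdot_char_ge0 hc (hβ.isChar.smul (Cnat_char1 hβ.isChar))
  have h6 := Finset.sum_nonneg h5
  have h7 := (Finset.sum_eq_zero_iff_of_nonneg h5).1 (by linarith)
  have h8 : ⟪χ, χ⟫[K] = 1 := cfnorm_eq_one_iff.1 (by linarith)
  rw [cfun_sum_cfdot hγ, cfdot_sumr, cfdot_sumr]
  refine Finset.sum_congr rfl fun β hβ => ?_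
  have hβ := mem_Irr.1 hβ
  rw [cfdotZr, cfdotZr]
  by_cases hb : N ≤ cfker K β
  · by_cases e : β = cf1 K
    · rw [e, h1, h8, cfdot_cf1]
    · have := h7 β (by simp [e, hβ, hb])
      obtain ⟨n, hn⟩ := Cnat_cfdot_char hc hβ.isChar
      obtain ⟨d, hd, hd1⟩ := hβ.exists_one
      rw [cfdotZr, hn, hd1] at this
      have hn0 : n = 0 := by simpa [hd.ne'] using this
      rw [hn, hn0, cfdot_irr_ne (isIrr_cf1 K) hβ (Ne.symm e)]; simp
  · rw [cfdot_eq_zero_of_cfker hγ hβ hk hb]; simp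

theorem cfdot_mul_ext (hN : N ⊴ K) (hχ : IsChar K χ) (hθ : IsIrr N (cfRes N χ)) {β γ : G → ℂ}
    (hβ : β ∈ CF K) (hγ : γ ∈ CF K) (h1 : N ≤ cfker K β) (h2 : N ≤ cfker K γ) :
    ⟪β * χ, γ * χ⟫[K] = ⟪β, γ⟫[K] := by
  rw [mul_comm β, mul_comm γ, cfdot_mul_right, mul_right_comm, cfdot_mul_left,
    cfdot_mul_star_ext hN hχ hθ (mul_mem_CF (star_mem_CF hβ) hγ)
      ((le_inf (by rwa [cfker_star]) h2).trans (cfker_mul _ _)), ← cfdot_mul_left, cf1_mul hβ]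

theorem Gallagher_irr (hN : N ⊴ K) (hχ : IsChar K χ) (hθ : IsIrr N (cfRes N χ)) {β : G → ℂ}
    (hβ : IsIrr K β) (h : N ≤ cfker K β) : IsIrr K (β * χ) :=
  (hβ.isChar.mul hχ).isIrr_of_cfdot (by
    rw [cfdot_mul_ext hN hχ hθ hβ.mem_CF hβ.mem_CF h h, cfdot_irr_self hβ])

theorem Gallagher_inj (hN : N ⊴ K) (hχ : IsChar K χ) (hθ : IsIrr N (cfRes N χ)) {β γ : G → ℂ}
    (hβ : β ∈ CF K) (hγ : γ ∈ CF K) (h1 : N ≤ cfker K β) (h2 : N ≤ cfker K γ) (e : β * χ = γ * χ) :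
    β = γ := by
  have hk : N ≤ cfker K (β - γ) := by
    rw [sub_eq_add_neg]; exact (le_inf h1 (by rwa [cfker_neg])).trans (cfker_add _ _)
  have := cfdot_mul_ext hN hχ hθ (sub_mem hβ hγ) (sub_mem hβ hγ) hk hk
  rw [sub_mul, e, sub_self, cfdot0l] at this
  exact sub_eq_zero.1 ((cfdot_self_eq0 (sub_mem hβ hγ)).1 this.symm)

theorem Gallagher_surj (hN : N ⊴ K) (hχ : IsChar K χ) (hθ : IsIrr N (cfRes N χ)) (hψ : IsIrr K ψ)
    (h : ⟪cfRes N ψ, cfRes N χ⟫[N] ≠ 0) : ∃ β, IsIrr K β ∧ N ≤ cfker K β ∧ ψ = β * χ := by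
  classical
  rw [cfdot_Res_l hN.1 hψ.mem_CF hθ.mem_CF, cfIndRes_sum hN hχ.mem_CF, cfdot_sumr] at h
  obtain ⟨β, hβ, h1⟩ := Finset.exists_ne_zero_of_sum_ne_zero h
  simp only [Finset.mem_filter, mem_Irr] at hβ
  rw [cfdotZr] at h1
  exact ⟨β, hβ.1, hβ.2, hψ.eq_of_cfdot_ne_zero (Gallagher_irr hN hχ hθ hβ.1 hβ.2)
    (right_ne_zero_of_mul h1)⟩

/-- `cfRes_irr_irr` -/
theorem isIrr_of_cfRes (hχ : IsChar K χ) (hH : H ≤ K) (h : IsIrr H (cfRes H χ)) : IsIrr K χ := by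
  obtain ⟨ψ, hψ, h0⟩ := hχ.exists_constt fun e => h.ne_zero (by rw [e, map_zero])
  obtain ⟨θ, hθ, h1⟩ := constt_cfRes_irr hψ hH
  have e := h.eq_of_cfdot_ne_zero hθ (constt_Res_trans hH hχ hψ h0 hθ.isChar h1)
  have h2 := char1_ge_constt (hψ.isChar.cfRes hH) hθ h1
  have h3 := char1_ge_constt hχ hψ h0
  rw [← e, cfRes1, cfRes1] at h2
  obtain ⟨m, hm⟩ := Cnat_char1 hχ
  obtain ⟨n, hn⟩ := Cnat_char1 hψ.isChar
  rw [eq_of_constt_of_one_eq hχ hψ h0 (by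
    rw [hm, hn] at h2 h3 ⊢
    simp only [Complex.natCast_re, Nat.cast_le] at h2 h3
    rw [le_antisymm h2 h3])]
  exact hψ

/-- constituents over an invariant character when the quotient is abelian -/
theorem exists_lin_mul_of_der_le (hN : N ⊴ K) (hd : der K ≤ N) (hχ : IsIrr K χ) (hψ : IsIrr K ψ)
    (h : ⟪cfRes N ψ, cfRes N χ⟫[N] ≠ 0) : ∃ l, IsLinChar K l ∧ N ≤ cfker K l ∧ ψ = l * χ := by
  classical
  rw [cfdot_Res_l hN.1 hψ.mem_CF (cfRes_mem_CF hN.1 hχ.mem_CF), cfIndRes_sum hN hχ.mem_CF,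
    cfdot_sumr] at h
  obtain ⟨β, hβ, h1⟩ := Finset.exists_ne_zero_of_sum_ne_zero h
  simp only [Finset.mem_filter, mem_Irr] at hβ
  rw [cfdotZr] at h1
  have hl := lin_irr_der1 hβ.1 (hd.trans hβ.2)
  exact ⟨β, hl, hβ.2, hψ.eq_of_cfdot_ne_zero (mul_lin_irr hl hχ) (right_ne_zero_of_mul h1)⟩

theorem cfRes_mul_of_cfker (h : N ≤ cfker K l) (χ : G → ℂ) : cfRes N (l * χ) = l 1 • cfRes N χ := by
  refine cfRes_ext (ψ := l 1 • χ) (fun x hx => ?_) |>.trans (map_smul _ _ _)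
  simp [cfker1 (h hx)]

theorem cfRes_lin_mul (hl : IsLinChar K l) (h : N ≤ cfker K l) (χ : G → ℂ) :
    cfRes N (l * χ) = cfRes N χ := by
  rw [cfRes_mul_of_cfker h, hl.one, one_smul]

/-- a character fixed by a linear character vanishes off its kernel -/
theorem eq_zero_of_lin_mul_eq (hl : IsLinChar K l) (e : l * χ = χ) {x : G} (hx : x ∉ cfker K l) :
    χ x = 0 := by
  by_contra h
  exact hx ((mem_cfker_lin hl).2 (mul_right_cancel₀ h (by rw [one_mul]; exact congrFun e x)))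

/-- Isaacs (6.20): invariant characters extend to overgroups of prime index -/
theorem prime_invariant_irr_extendible (hN : N ⊴ K) (hp : (N.relIndex K).Prime) (hθ : IsIrr N θ)
    (hi : inertia K θ = K) : ∃ χ, IsIrr K χ ∧ cfRes N χ = θ := by
  classical
  obtain ⟨χ, hχ, h0⟩ := constt_cfInd_irr hθ hN.1
  rw [cfdot_Ind_irr hN.1 hθ.isChar hχ.isChar] at h0
  obtain ⟨e, he0, -, he, -⟩ := exists_cfRes_eq_smul hN hχ hθ h0 hi
  have hn : ⟪cfRes N χ, cfRes N χ⟫[N] = (e * e : ℕ) := by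
    rw [he, cfdotZl, cfdotZr, cfdot_irr_self hθ]; simp
  suffices e * e = 1 by
    exact ⟨χ, hχ, by rw [he, Nat.eq_one_of_mul_eq_one_right this]; simp⟩
  have hd := der_le_of_relIndex_prime hN hp
  have hm : cf1 K ∈ (Irr K).filter fun β => N ≤ cfker K β := by simp [isIrr_cf1, hN.1]
  have h1 := hn
  rw [Frobenius_reciprocity hN.1 (cfRes_mem_CF hN.1 hχ.mem_CF) hχ.mem_CF, cfIndRes_sum hN hχ.mem_CF,
    cfdot_suml, ← Finset.add_sum_erase _ _ hm, cf1_one, one_smul, cf1_mul hχ.mem_CF,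
    cfdot_irr_self hχ, Finset.sum_eq_zero, add_zero] at h1
  · exact_mod_cast h1.symm
  intro β hβ
  simp only [Finset.mem_erase, Finset.mem_filter, mem_Irr] at hβ
  have hl := lin_irr_der1 hβ.2.1 (hd.trans hβ.2.2)
  rw [cfdotZl, cfdot_irr_ne (mul_lin_irr hl hχ) hχ, mul_zero]
  intro e1
  have hk : cfker K β = N := by
    rcases (covBy_of_relIndex_prime hN.1 hp).eq_or_eq hβ.2.2 (cfker_le _ _) with h | h
    · exact h
    · exact absurd (hβ.2.1.le_cfker_iff.1 h.ge) hβ.1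
  have h2 := cfdot_of_suppOn hN.1 (φ := χ) (fun x hx => eq_zero_of_lin_mul_eq hl e1 (hk ▸ hx)) χ
  rw [cfdot_irr_self hχ, mul_one, ← cfdot_cfRes_left, ← cfdot_cfRes_right, hn, Nat.cast_inj] at h2
  rw [h2] at hp
  have h3 : e ≠ 1 := fun h => Nat.not_prime_one (by simpa [h] using hp)
  exact Nat.not_prime_mul h3 h3 hp

/-- for a normal subgroup of prime index the inertia group is everything or nothing -/
theorem inertia_prime_cases (hN : N ⊴ K) (hp : (N.relIndex K).Prime) (hθ : θ ∈ CF N) :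
    inertia K θ = N ∨ inertia K θ = K :=
  (covBy_of_relIndex_prime hN.1 hp).eq_or_eq (sub_inertia hN.1 hθ) (inertia_le _ _)

/-- Isaacs (6.19): restriction to a normal subgroup of prime index -/
theorem cfRes_prime_irr_cases (hN : N ⊴ K) (hp : (N.relIndex K).Prime) (hχ : IsIrr K χ) :
    IsIrr N (cfRes N χ) ∨ ∃ θ, IsIrr N θ ∧ inertia K θ = N ∧ χ = cfInd K N θ := by
  obtain ⟨θ, hθ, h⟩ := constt_cfRes_irr hχ hN.1
  rcases inertia_prime_cases hN hp hθ.mem_CF with hi | hi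
  · exact Or.inr ⟨θ, hθ, hi, eq_cfInd_of_constt hN.1 hχ hθ.isChar (inertia_Ind_irr hN hθ hi.le) h⟩
  · obtain ⟨ψ, hψ, rfl⟩ := prime_invariant_irr_extendible hN hp hθ hi
    obtain ⟨l, hl, hk, rfl⟩ := exists_lin_mul_of_der_le hN (der_le_of_relIndex_prime hN hp) hψ hχ h
    exact Or.inl (by rwa [cfRes_lin_mul hl hk])

/-! ### Brauer's permutation lemma -/

open Classical in
theorem card_filter_conj_eq (H : Subgroup G) (x y : G) :
    ((elts (H : Set G)).filter fun h => h * x * h⁻¹ = y).card =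
      if ∃ h ∈ H, h * x * h⁻¹ = y then ♯(H ⊓ 𝐂[y]) else 0 := by
  split_ifs with h
  · obtain ⟨k, hk, rfl⟩ := h
    rw [← card_elts]
    symm
    refine Finset.card_bij (fun c _ => c * k) (fun c hc => ?_) (fun _ _ _ _ e => mul_right_cancel e)
      fun h hh => ?_
    · have hc : c ∈ H ⊓ 𝐂[k * x * k⁻¹] := by simpa using hc
      simp only [Finset.mem_filter, mem_elts, SetLike.mem_coe]
      exact ⟨mul_mem hc.1 hk, by rw [← mem_cent1_iff_conj.1 hc.2]; group⟩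
    · simp only [Finset.mem_filter, mem_elts, SetLike.mem_coe] at hh
      refine ⟨h * k⁻¹, ?_, by group⟩
      simp only [mem_elts, SetLike.mem_coe]
      refine mem_inf.2 ⟨mul_mem hh.1 (inv_mem hk), mem_cent1_iff_conj.2 ?_⟩
      conv_rhs => rw [← hh.2]
      group
  · rw [Finset.card_eq_zero, Finset.filter_eq_empty_iff]
    exact fun k hk e => h ⟨k, by simpa using hk, e⟩

open Classical in
/-- Brauer's permutation lemma: the number of irreducible characters fixed by `g` -/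
theorem card_afix_irr (hg : g ∈ 𝐍(H)) :
    ((Irr H).filter fun χ => cfConjg g χ = χ).card * ♯H = ∑ h ∈ elts (H : Set G), ♯(H ⊓ 𝐂[h * g]) := by
  have h1 : (((Irr H).filter fun χ => cfConjg g χ = χ).card : ℂ) =
      ∑ χ ∈ Irr H, ⟪cfConjg g⁻¹ χ, χ⟫[H] := by
    rw [Finset.card_filter, Nat.cast_sum]
    refine Finset.sum_congr rfl fun χ hχ => ?_
    rw [cfdot_irr ((mem_Irr.1 hχ).cfConjg (inv_mem hg)) (mem_Irr.1 hχ)]
    have : cfConjg g⁻¹ χ = χ ↔ cfConjg g χ = χ :=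
      ⟨fun h => by conv_lhs => rw [← h, cfConjgKV], fun h => by conv_lhs => rw [← h, cfConjgK]⟩
    simp only [this]
    split_ifs <;> simp
  have h2 : ∀ x ∈ elts (H : Set G), ∑ χ ∈ Irr H, cfConjg g⁻¹ χ x * conj (χ x) =
      (((elts (H : Set G)).filter fun h => x ∈ 𝐂[h * g]).card : ℂ) := by
    intro x hx
    have hx : x ∈ H := by simpa using hx
    simp only [cfConjgE, inv_inv]
    rw [second_orthogonality_relation (conj_mem_of_norm hg hx) hx, Finset.filter_congr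
      (q := fun h => h * (g * x * g⁻¹) * h⁻¹ = x), card_filter_conj_eq]
    · split_ifs <;> simp
    · intro h _
      rw [mem_cent1_comm, mem_cent1_iff_conj]
      simp [mul_assoc]
  apply Nat.cast_injective (R := ℂ)
  rw [Nat.cast_mul, h1]
  simp only [cfdotE]
  rw [← Finset.mul_sum, mul_comm, mul_inv_cancel_left₀ (cardC_ne_zero H), Finset.sum_comm,
    Finset.sum_congr rfl h2, ← Nat.cast_sum, Nat.cast_inj]
  simp only [Finset.card_filter]
  rw [Finset.sum_comm]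
  refine Finset.sum_congr rfl fun h _ => ?_
  rw [← Finset.card_filter, ← card_elts]
  congr 1; ext; simp

open Classical in
theorem card_afix_irr_of_const (hg : g ∈ 𝐍(H)) {n : ℕ} (h : ∀ x ∈ H, ♯(H ⊓ 𝐂[x * g]) = n) :
    ((Irr H).filter fun χ => cfConjg g χ = χ).card = n := by
  have := card_afix_irr hg
  rw [Finset.sum_congr rfl fun x hx => h x (by simpa using hx), sum_elts_const, smul_eq_mul,
    mul_comm ♯H] at this
  exact Nat.eq_of_mul_eq_mul_right (card_pos' H) this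

/-- a fixed point free automorphism fixes no nonprincipal irreducible character -/
theorem eq_cf1_of_cfConjg_eq (hg : g ∈ 𝐍(H)) (hf : H ⊓ 𝐂[g] = ⊥) (hθ : IsIrr H θ)
    (h : cfConjg g θ = θ) : θ = cf1 H := by
  classical
  have h1 := card_afix_irr_of_const hg (n := 1) fun x hx => by
    obtain ⟨y, hy, e⟩ := Frob.exists_conj_of_fpf hg (fun k hk e => by
      rw [← mem_bot, ← hf]; exact ⟨hk, mem_cent1.2 e.symm⟩) hx
    rw [← e, cent1_conj, ← conj_eq_of_mem (H := H) hy, ← conj_inf, card_conj_smul, hf, card_bot]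
  exact Finset.card_le_one.1 h1.le _ (by simp [hθ, h]) _ (by simp [isIrr_cf1, cfConjg_cf1 hg])

theorem inertia_le_of_fpf (hn : K ≤ 𝐍(H)) (hf : ∀ g ∈ K, g ∉ T → H ⊓ 𝐂[g] = ⊥) (hθ : IsIrr H θ)
    (h1 : θ ≠ cf1 H) : inertia K θ ≤ T := fun g hg => by
  by_contra h
  exact h1 (eq_cf1_of_cfConjg_eq (hn hg.1) (hf g hg.1 h) hθ hg.2)

/-! ### characters of Frobenius groups, Isaacs (6.34) -/

theorem IsFrobKer.inf_cent1_eq_bot (hF : IsFrobKer L K) (hg : g ∈ L) (hK : g ∉ K) : K ⊓ 𝐂[g] = ⊥ := by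
  obtain ⟨R, hR⟩ := hF
  refine eq_bot_iff.2 fun k hk => mem_bot.2 (by_contra fun h => hK ?_)
  exact hR.pair.mem_left_of_commute (hR.sup_eq ▸ hg) hk.1 h (mem_cent1.1 hk.2).symm

theorem inertia_Frobenius_ker (hF : IsFrobKer L K) (hθ : IsIrr K θ) (h1 : θ ≠ cf1 K) :
    inertia L θ = K := by
  obtain ⟨R, hR⟩ := id hF
  exact (inertia_le_of_fpf hR.ker_normal.2 (fun g => hF.inf_cent1_eq_bot) hθ h1).antisymm
    (sub_inertia hR.ker_le hθ.mem_CF)

theorem irr_induced_Frobenius_ker (hF : IsFrobKer L K) (hθ : IsIrr K θ) (h1 : θ ≠ cf1 K) :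
    IsIrr L (cfInd L K θ) ∧ ¬ K ≤ cfker L (cfInd L K θ) := by
  obtain ⟨R, hR⟩ := id hF
  refine ⟨inertia_Ind_irr hR.ker_normal hθ (inertia_Frobenius_ker hF hθ h1).le, ?_⟩
  rw [sub_cfker_Ind hR.ker_le le_rfl hR.ker_normal.2 hθ.isChar, hθ.le_cfker_iff]
  exact h1

theorem Frobenius_Ind_irrP (hF : IsFrobKer L K) (hχ : IsIrr L χ) :
    ¬ K ≤ cfker L χ ↔ ∃ θ, IsIrr K θ ∧ θ ≠ cf1 K ∧ χ = cfInd L K θ := by
  obtain ⟨R, hR⟩ := id hF
  refine ⟨fun h => ?_, fun ⟨θ, hθ, h1, e⟩ => e ▸ (irr_induced_Frobenius_ker hF hθ h1).2⟩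
  obtain ⟨θ, hθ, h0⟩ := constt_cfRes_irr hχ hR.ker_le
  have h1 : θ ≠ cf1 K := fun e => h ((constt0_Res_cfker hR.ker_normal hχ).1 (e ▸ h0))
  exact ⟨θ, hθ, h1, eq_cfInd_of_constt hR.ker_le hχ hθ.isChar (irr_induced_Frobenius_ker hF hθ h1).1 h0⟩

end Cfsg.Agent.OO
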