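import Mathlib
import Cfsg.Agent.Lib.OO.CF5b

/-!
# CF6: inflation from quotients, semidirect and direct factors
-/

set_option autoImplicit false
set_option linter.unusedSectionVars false

namespace Cfsg.Agent.OO

open Subgroup
open scoped Pointwise ComplexConjugate

universe u v

variable {G : Type u} [Group G] [Finite G] {A B H K L M N R : Subgroup G} {φ ψ θ χ ξ : G → ℂ}
  {g x y : G}

/-! ### `cfMod` and `cfQuo` -/

section Mod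

variable {α β : Coset N → ℂ}

section
omit [Finite G]

theorem cfModE (α : Coset N → ℂ) (hx : x ∈ H) : cfMod H N α x = α (coset N x) := if_pos hx

theorem cfMod_quoOnto (hn : H ≤ 𝐍(N)) (α : Coset N → ℂ) (x : H) : cfMod H N α x = α (quoOnto hn x) := by
  rw [coe_quoOnto, cfModE α x.2]

theorem cfMod_of_not_mem (α : Coset N → ℂ) (hx : x ∉ H) : cfMod H N α x = 0 := if_neg hx

theorem cfMod_suppOn (H N : Subgroup G) (α : Coset N → ℂ) : cfMod H N α ∈ suppOn (H : Set G) :=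
  fun _ hx => cfMod_of_not_mem α hx

@[simp] theorem cfMod1 (H N : Subgroup G) (α : Coset N → ℂ) : cfMod H N α 1 = α 1 := by
  rw [cfModE α H.one_mem, coset_eq_one N.one_mem]

/-- `cfMod` as a linear map -/
noncomputable def cfModL (H N : Subgroup G) : (Coset N → ℂ) →ₗ[ℂ] (G → ℂ) where
  toFun := cfMod H N
  map_add' α β := by ext x; by_cases hx : x ∈ H <;> simp [cfMod, hx]
  map_smul' c α := by ext x; by_cases hx : x ∈ H <;> simp [cfMod, hx]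

@[simp] theorem cfMod_zero (H N : Subgroup G) : cfMod H N 0 = 0 := map_zero (cfModL H N)
theorem cfMod_add (H : Subgroup G) (α β : Coset N → ℂ) :
    cfMod H N (α + β) = cfMod H N α + cfMod H N β := map_add (cfModL H N) α β
theorem cfMod_sub (H : Subgroup G) (α β : Coset N → ℂ) :
    cfMod H N (α - β) = cfMod H N α - cfMod H N β := map_sub (cfModL H N) α β
theorem cfMod_neg (H : Subgroup G) (α : Coset N → ℂ) : cfMod H N (-α) = -cfMod H N α :=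
  map_neg (cfModL H N) α
theorem cfMod_smul (H : Subgroup G) (c : ℂ) (α : Coset N → ℂ) :
    cfMod H N (c • α) = c • cfMod H N α := map_smul (cfModL H N) c α
theorem cfMod_sum {ι : Type*} (H : Subgroup G) (s : Finset ι) (f : ι → Coset N → ℂ) :
    cfMod H N (∑ i ∈ s, f i) = ∑ i ∈ s, cfMod H N (f i) := map_sum (cfModL H N) f s
theorem cfMod_mul (H : Subgroup G) (α β : Coset N → ℂ) :
    cfMod H N (α * β) = cfMod H N α * cfMod H N β := by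
  ext x; by_cases hx : x ∈ H <;> simp [cfMod, hx]
theorem cfAut_cfMod (u : ℂ ≃+* ℂ) (H : Subgroup G) (α : Coset N → ℂ) :
    cfAut u (cfMod H N α) = cfMod H N (cfAut u α) := by
  ext x; by_cases hx : x ∈ H <;> simp [cfMod, cfAut, hx]
theorem cfMod_star (H : Subgroup G) (α : Coset N → ℂ) : cfMod H N (star α) = star (cfMod H N α) :=
  (cfAut_cfMod conjAut H α).symm

end

theorem sum_elts_quo {X : Type*} [AddCommMonoid X] (hN : N ⊴ H) (f : Coset N → X) :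
    ∑ x ∈ elts (H : Set G), f (coset N x) = ♯N • ∑ y ∈ elts ((H ⁒ N : Subgroup _) : Set (Coset N)), f y := by
  classical
  have := Fintype.ofFinite H
  have := Fintype.ofFinite (H ⁒ N : Subgroup _)
  rw [sum_elts_subtype, sum_elts_subtype]
  have := sum_comp_of_surjective (quoOnto hN.2) (quoOnto_surjective hN.2) fun y => f y
  rw [ker_quoOnto, Nat.card_congr (subgroupOfEquivOfLe hN.1).toEquiv] at this
  simpa only [coe_quoOnto] using this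

theorem cfMod_mem_CF (hn : H ≤ 𝐍(N)) (hα : α ∈ CF (H ⁒ N)) : cfMod H N α ∈ CF H :=
  mem_CF_comp (quoOnto hn) hα (cfMod_suppOn _ _ _) (cfMod_quoOnto hn α)

theorem cfdot_cfMod (hn : H ≤ 𝐍(N)) (α β : Coset N → ℂ) :
    ⟪cfMod H N α, cfMod H N β⟫[H] = ⟪α, β⟫[H ⁒ N] :=
  cfdot_comp (quoOnto hn) (quoOnto_surjective hn) (cfMod_quoOnto hn α) (cfMod_quoOnto hn β)

theorem cfnorm_cfMod (hn : H ≤ 𝐍(N)) (α : Coset N → ℂ) : cfnorm H (cfMod H N α) = cfnorm (H ⁒ N) α := by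
  rw [cfnorm_eq_re, cfdot_cfMod hn, cfnorm_eq_re]

theorem IsChar.cfMod (hα : IsChar (H ⁒ N) α) (hn : H ≤ 𝐍(N)) : IsChar H (cfMod H N α) :=
  hα.comp (quoOnto hn) (cfMod_suppOn _ _ _) (cfMod_quoOnto hn α)

theorem IsIrr.cfMod (hα : IsIrr (H ⁒ N) α) (hn : H ≤ 𝐍(N)) : IsIrr H (cfMod H N α) :=
  hα.comp (quoOnto hn) (quoOnto_surjective hn) (cfMod_suppOn _ _ _) (cfMod_quoOnto hn α)

theorem IsLinChar.cfMod (hα : IsLinChar (H ⁒ N) α) (hn : H ≤ 𝐍(N)) : IsLinChar H (cfMod H N α) :=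
  ⟨hα.isChar.cfMod hn, by rw [cfMod1, hα.one]⟩

theorem isIrr_cfMod_iff (hn : H ≤ 𝐍(N)) (hα : α ∈ CF (H ⁒ N)) :
    IsIrr H (cfMod H N α) ↔ IsIrr (H ⁒ N) α :=
  ⟨fun h => h.of_comp (quoOnto hn) (quoOnto_surjective hn) (CF_le_suppOn _ hα) (cfMod_quoOnto hn α),
    fun h => h.cfMod hn⟩

theorem cfMod_vchar (hn : H ≤ 𝐍(N)) (hα : α ∈ ZIrr (H ⁒ N)) : cfMod H N α ∈ ZIrr H :=
  map_zchar (cfModL H N).toAddMonoidHom (fun _ h => irr_vchar ((mem_Irr.1 h).cfMod hn)) hα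

theorem cfMod_cf1 (H N : Subgroup G) : cfMod H N (cf1 (H ⁒ N)) = cf1 H := by
  ext x
  by_cases hx : x ∈ H
  · rw [cfModE _ hx, cf1E hx, cf1E (coset_mem_quo N hx)]
  · rw [cfMod_of_not_mem _ hx, cf1_of_not_mem hx]

theorem cfMod_inj (hn : H ≤ 𝐍(N)) (hα : α ∈ CF (H ⁒ N)) (hβ : β ∈ CF (H ⁒ N))
    (e : cfMod H N α = cfMod H N β) : α = β := by
  refine cfun_ext hα hβ fun y hy => ?_
  obtain ⟨x, hx, rfl⟩ := (mem_quo_of_le hn).1 hy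
  rw [← cfModE α hx, e, cfModE β hx]

theorem cfMod_eq_cf1_iff (hn : H ≤ 𝐍(N)) (hα : α ∈ CF (H ⁒ N)) :
    cfMod H N α = cf1 H ↔ α = cf1 (H ⁒ N) :=
  ⟨fun e => cfMod_inj hn hα (cf1_mem_CF _) (by rw [e, cfMod_cf1]), fun e => by rw [e, cfMod_cf1]⟩

theorem mem_cfker_cfMod (hn : H ≤ 𝐍(N)) (hα : α ∈ CF (H ⁒ N)) :
    x ∈ cfker H (cfMod H N α) ↔ x ∈ H ∧ coset N x ∈ cfker (H ⁒ N) α := by
  refine ⟨fun h => ⟨h.1, mem_cfker_of (CF_le_suppOn _ hα) (coset_mem_quo N h.1) fun z hz => ?_⟩,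
    fun h => mem_cfker_of (cfMod_suppOn _ _ _) h.1 fun y hy => ?_⟩
  · obtain ⟨y, hy, rfl⟩ := (mem_quo_of_le hn).1 hz
    rw [← coset_mul (hn h.1) (hn hy), ← cfModE α (mul_mem h.1 hy), cfkerMl h, cfModE α hy]
  · rw [cfModE α (mul_mem h.1 hy), cfModE α hy, coset_mul (hn h.1) (hn hy), cfkerMl h.2]

theorem le_cfker_cfMod_iff (hn : H ≤ 𝐍(N)) (hα : α ∈ CF (H ⁒ N)) (hK : K ≤ H) :
    K ≤ cfker H (cfMod H N α) ↔ K ⁒ N ≤ cfker (H ⁒ N) α := by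
  refine ⟨fun h z hz => ?_, fun h x hx => (mem_cfker_cfMod hn hα).2 ⟨hK hx, h (coset_mem_quo N hx)⟩⟩
  obtain ⟨y, hy, rfl⟩ := (mem_quo_of_le (hK.trans hn)).1 hz
  exact ((mem_cfker_cfMod hn hα).1 (h hy)).2

theorem le_cfker_cfMod (hN : N ⊴ H) (α : Coset N → ℂ) : N ≤ cfker H (cfMod H N α) := fun x hx =>
  mem_cfker_of (cfMod_suppOn _ _ _) (hN.1 hx) fun y hy => by
    rw [cfModE α (mul_mem (hN.1 hx) hy), cfModE α hy, coset_mul_of_mem' hx (hN.2 hy)]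

theorem cfker_cfMod (hN : N ⊴ H) (hα : α ∈ CF (H ⁒ N)) :
    cfker H (cfMod H N α) = quoPre N (cfker (H ⁒ N) α) := by
  ext x
  rw [mem_cfker_cfMod hN.2 hα, mem_quoPre]
  exact and_congr_left fun h => ⟨fun hx => hN.2 hx,
    fun hx => (coset_mem_quo_iff hx hN.1).1 (cfker_le _ _ h)⟩

theorem cfRes_cfMod (hK : K ≤ H) (α : Coset N → ℂ) :
    cfRes K (cfMod H N α) = cfMod K N (cfRes (K ⁒ N) α) := by
  ext x
  by_cases hx : x ∈ K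
  · rw [cfResE _ hx, cfModE _ (hK hx), cfModE _ hx, cfResE _ (coset_mem_quo N hx)]
  · rw [cfRes_of_not_mem _ hx, cfMod_of_not_mem _ hx]

/-- (1.6)(b) -/
theorem cfIndMod (hK : K ⊴ L) (hKH : K ≤ H) (hH : H ≤ L) {φ : Coset K → ℂ} (hφ : φ ∈ CF (H ⁒ K)) :
    cfInd L H (cfMod H K φ) = cfMod L K (cfInd (L ⁒ K) (H ⁒ K) φ) := by
  ext x
  by_cases hx : x ∈ L
  · rw [cfModE _ hx, cfIndE _ _ hx, cfIndE _ _ (coset_mem_quo K hx),
      ← card_mul_card_quo (hK.mono hKH hH), Nat.cast_mul, mul_inv, mul_assoc,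
      Finset.sum_congr rfl (g := fun g => φ ((coset K g)⁻¹ * coset K x * coset K g)),
      sum_elts_quo hK fun z => φ (z⁻¹ * coset K x * z), nsmul_eq_mul, mul_left_comm,
      inv_mul_cancel_left₀ (cardC_ne_zero K)]
    intro g hg
    have hg : g ∈ L := by simpa using hg
    have h1 : g⁻¹ * x * g ∈ L := mul_mem (mul_mem (inv_mem hg) hx) hg
    rw [← coset_inv, ← coset_mul (hK.2 (inv_mem hg)) (hK.2 hx),
      ← coset_mul (hK.2 (mul_mem (inv_mem hg) hx)) (hK.2 hg)]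
    by_cases h2 : g⁻¹ * x * g ∈ H
    · exact cfModE _ h2
    · rw [cfMod_of_not_mem _ h2, cfun0 hφ (mt (coset_mem_quo_iff (hK.2 h1) hKH).1 h2)]
  · rw [cfMod_of_not_mem _ hx, cfInd_of_not_mem _ _ hx]

theorem cfConjg_cfMod (hn : H ≤ 𝐍(N)) (hH : g ∈ 𝐍(H)) (hN : g ∈ 𝐍(N)) (α : Coset N → ℂ) :
    cfConjg g (cfMod H N α) = cfMod H N (cfConjg (coset N g) α) := by
  ext x
  rw [cfConjgE]
  by_cases hx : x ∈ H
  · rw [cfModE _ hx, cfModE _ (conj_mem_of_norm' hH hx), cfConjgE,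
      coset_mul (mul_mem (inv_mem hN) (hn hx)) hN, coset_mul (inv_mem hN) (hn hx), coset_inv]
  · rw [cfMod_of_not_mem _ hx, cfMod_of_not_mem]
    exact fun h => hx (by simpa [mul_assoc] using conj_mem_of_norm hH h)

theorem mem_inertia_cfMod (hn : H ≤ 𝐍(N)) (hα : α ∈ CF (H ⁒ N)) (hg : g ∈ K) (hH : g ∈ 𝐍(H))
    (hN : g ∈ 𝐍(N)) : g ∈ inertia K (cfMod H N α) ↔ coset N g ∈ inertia (K ⁒ N) α := by
  rw [mem_inertia, mem_inertia, cfConjg_cfMod hn hH hN, and_iff_right hg,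
    and_iff_right (coset_mem_quo N hg)]
  exact ⟨cfMod_inj hn (cfConjg_mem_CF (coset_mem_norm N hH) hα) hα, fun e => by rw [e]⟩

theorem inertia_cfMod (hn : H ≤ 𝐍(N)) (hα : α ∈ CF (H ⁒ N)) (hH : K ≤ 𝐍(H)) (hN : K ≤ 𝐍(N)) :
    inertia K (cfMod H N α) = K ⊓ quoPre N (inertia (K ⁒ N) α) := by
  ext g
  rw [mem_inf, mem_quoPre]
  exact ⟨fun h => ⟨h.1, hN h.1, (mem_inertia_cfMod hn hα h.1 (hH h.1) (hN h.1)).1 h⟩,
    fun h => (mem_inertia_cfMod hn hα h.1 (hH h.1) (hN h.1)).2 h.2.2⟩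

theorem inertia_cfMod_quo (hn : H ≤ 𝐍(N)) (hα : α ∈ CF (H ⁒ N)) (hH : K ≤ 𝐍(H)) (hN : K ≤ 𝐍(N)) :
    inertia K (cfMod H N α) ⁒ N = inertia (K ⁒ N) α := by
  rw [inertia_cfMod hn hα hH hN, inf_quoPre_quo, inf_eq_right.2 (inertia_le _ _)]

theorem cforder_cfMod (hn : H ≤ 𝐍(N)) (α : Coset N → ℂ) :
    cforder H (cfMod H N α) = cforder (H ⁒ N) α := by
  refine Nat.dvd_antisymm (cforder_dvd_iff.2 fun x hx => ?_) (cforder_dvd_iff.2 fun z hz => ?_)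
  · rw [cfModE _ hx, pow_cforder _ (coset_mem_quo N hx)]
  · obtain ⟨x, hx, rfl⟩ := (mem_quo_of_le hn).1 hz
    rw [← cfModE α hx, pow_cforder _ hx]

omit [Finite G] in
theorem cfQuo_suppOn (H N : Subgroup G) (φ : G → ℂ) :
    cfQuo H N φ ∈ suppOn ((H ⁒ N : Subgroup _) : Set (Coset N)) :=
  fun _ hz => dif_neg fun h => hz (mem_quo.2 h)

theorem cfQuoE' (hn : H ≤ 𝐍(N)) (hφ : φ ∈ CF H) (hk : N ⊓ H ≤ cfker H φ) (hx : x ∈ H) :
    cfQuo H N φ (coset N x) = φ x := by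
  have h : ∃ y ∈ H, y ∈ 𝐍(N) ∧ coset N y = coset N x := ⟨x, hx, hn hx, rfl⟩
  rw [cfQuo, dif_pos h]
  obtain ⟨h0, h1, h2⟩ := h.choose_spec
  rw [← cfkerMr hφ (hk (mem_inf.2 ⟨(coset_eq_iff h1 (hn hx)).1 h2, mul_mem (inv_mem h0) hx⟩)),
    mul_inv_cancel_left]

theorem cfQuoE (hn : H ≤ 𝐍(N)) (hφ : φ ∈ CF H) (hk : N ≤ cfker H φ) (hx : x ∈ H) :
    cfQuo H N φ (coset N x) = φ x := cfQuoE' hn hφ (inf_le_left.trans hk) hx

theorem cfQuo1 (hn : H ≤ 𝐍(N)) (hφ : φ ∈ CF H) (hk : N ≤ cfker H φ) : cfQuo H N φ 1 = φ 1 := by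
  rw [← cfQuoE hn hφ hk H.one_mem, coset_eq_one N.one_mem]

theorem cfQuoK (hn : H ≤ 𝐍(N)) (hφ : φ ∈ CF H) (hk : N ≤ cfker H φ) : cfMod H N (cfQuo H N φ) = φ := by
  ext x
  by_cases hx : x ∈ H
  · rw [cfModE _ hx, cfQuoE hn hφ hk hx]
  · rw [cfMod_of_not_mem _ hx, cfun0 hφ hx]

theorem cfQuo_mem_CF' (hn : H ≤ 𝐍(N)) (hφ : φ ∈ CF H) (hk : N ⊓ H ≤ cfker H φ) :
    cfQuo H N φ ∈ CF (H ⁒ N) := by
  refine mem_CF_of (cfQuo_suppOn H N φ) fun z hz w hw => ?_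
  obtain ⟨y, hy, rfl⟩ := (mem_quo_of_le hn).1 hz
  obtain ⟨x, hx, rfl⟩ := (mem_quo_of_le hn).1 hw
  rw [← coset_conj (hn hy) (hn hx), cfQuoE' hn hφ hk hx,
    cfQuoE' hn hφ hk (mul_mem (mul_mem hy hx) (inv_mem hy)), cfunJ hφ hy]

theorem cfQuo_mem_CF (hn : H ≤ 𝐍(N)) (hφ : φ ∈ CF H) (hk : N ≤ cfker H φ) :
    cfQuo H N φ ∈ CF (H ⁒ N) := cfQuo_mem_CF' hn hφ (inf_le_left.trans hk)

theorem cfModK (hN : N ⊴ H) (hα : α ∈ CF (H ⁒ N)) : cfQuo H N (cfMod H N α) = α :=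
  have h1 := cfMod_mem_CF hN.2 hα
  cfMod_inj hN.2 (cfQuo_mem_CF hN.2 h1 (le_cfker_cfMod hN α)) hα (cfQuoK hN.2 h1 (le_cfker_cfMod hN α))

theorem exists_cfMod_eq (hn : H ≤ 𝐍(N)) (hφ : φ ∈ CF H) (hk : N ≤ cfker H φ) :
    ∃ α ∈ CF (H ⁒ N), cfMod H N α = φ := ⟨_, cfQuo_mem_CF hn hφ hk, cfQuoK hn hφ hk⟩

theorem IsChar.cfQuo (hχ : IsChar H χ) (hn : H ≤ 𝐍(N)) (hk : N ≤ cfker H χ) :
    IsChar (H ⁒ N) (cfQuo H N χ) :=
  hχ.of_comp (quoOnto hn) (quoOnto_surjective hn) (cfQuo_suppOn _ _ _)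
    fun x => by rw [coe_quoOnto, cfQuoE hn hχ.mem_CF hk x.2]

theorem IsIrr.cfQuo (hχ : IsIrr H χ) (hn : H ≤ 𝐍(N)) (hk : N ≤ cfker H χ) :
    IsIrr (H ⁒ N) (cfQuo H N χ) :=
  hχ.of_comp (quoOnto hn) (quoOnto_surjective hn) (cfQuo_suppOn _ _ _)
    fun x => by rw [coe_quoOnto, cfQuoE hn hχ.mem_CF hk x.2]

theorem IsIrr.exists_cfMod (hχ : IsIrr H χ) (hn : H ≤ 𝐍(N)) (hk : N ≤ cfker H χ) :
    ∃ α, IsIrr (H ⁒ N) α ∧ OO.cfMod H N α = χ := ⟨_, hχ.cfQuo hn hk, cfQuoK hn hχ.mem_CF hk⟩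

theorem IsChar.exists_cfMod (hχ : IsChar H χ) (hn : H ≤ 𝐍(N)) (hk : N ≤ cfker H χ) :
    ∃ α, IsChar (H ⁒ N) α ∧ OO.cfMod H N α = χ := ⟨_, hχ.cfQuo hn hk, cfQuoK hn hχ.mem_CF hk⟩

theorem cfdot_cfQuo (hn : H ≤ 𝐍(N)) (hφ : φ ∈ CF H) (hk : N ≤ cfker H φ) (hψ : ψ ∈ CF H)
    (hk' : N ≤ cfker H ψ) : ⟪cfQuo H N φ, cfQuo H N ψ⟫[H ⁒ N] = ⟪φ, ψ⟫[H] := by
  rw [← cfdot_cfMod hn, cfQuoK hn hφ hk, cfQuoK hn hψ hk']

theorem cfQuo_cf1 (hN : N ⊴ H) : cfQuo H N (cf1 H) = cf1 (H ⁒ N) := by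
  rw [← cfMod_cf1 H N, cfModK hN (cf1_mem_CF _)]

theorem cfIndQuo (hK : K ⊴ L) (hH : H ≤ L) (hφ : φ ∈ CF H) (hKφ : K ≤ cfker H φ) :
    cfInd (L ⁒ K) (H ⁒ K) (cfQuo H K φ) = cfQuo L K (cfInd L H φ) := by
  have hKH := hKφ.trans (cfker_le _ _)
  conv_rhs => rw [← cfQuoK (hH.trans hK.2) hφ hKφ,
    cfIndMod hK hKH hH (cfQuo_mem_CF (hH.trans hK.2) hφ hKφ), cfModK hK (cfInd_mem_CF _ _ _)]

open Classical in
theorem sum_Irr_quo {X : Type*} [AddCommMonoid X] (hN : N ⊴ H) (f : (G → ℂ) → X) :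
    ∑ α ∈ Irr (H ⁒ N), f (cfMod H N α) = ∑ χ ∈ (Irr H).filter fun χ => N ≤ cfker H χ, f χ := by
  refine Finset.sum_bij (fun α _ => cfMod H N α) (fun α hα => ?_) (fun α hα β hβ e => ?_)
    (fun χ hχ => ?_) fun _ _ => rfl
  · simp [(mem_Irr.1 hα).cfMod hN.2, le_cfker_cfMod hN]
  · exact cfMod_inj hN.2 (mem_Irr.1 hα).mem_CF (mem_Irr.1 hβ).mem_CF e
  · simp only [Finset.mem_filter, mem_Irr] at hχ
    obtain ⟨α, hα, e⟩ := hχ.1.exists_cfMod hN.2 hχ.2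
    exact ⟨α, mem_Irr.2 hα, e⟩

end Mod

/-! ### extension from `A` to `A N` with `N` in the kernel -/

section Infl

/-- the class function of `A N` with `N` in its kernel extending `φ ∈ CF A` (`A ∩ N ≤ ker φ`) -/
noncomputable def cfInfl (A N : Subgroup G) (φ : G → ℂ) : G → ℂ := cfMod (A ⊔ N) N (cfQuo A N φ)

theorem cfInfl_suppOn (A N : Subgroup G) (φ : G → ℂ) : cfInfl A N φ ∈ suppOn ((A ⊔ N : Subgroup G) : Set G) :=
  cfMod_suppOn _ _ _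

theorem cfInflE (hn : A ≤ 𝐍(N)) (hφ : φ ∈ CF A) (hk : N ⊓ A ≤ cfker A φ) (hx : x ∈ A) (hy : y ∈ N) :
    cfInfl A N φ (x * y) = φ x := by
  rw [cfInfl, cfModE _ (mul_mem_sup hx hy), coset_mul_of_mem (hn hx) hy, cfQuoE' hn hφ hk hx]

theorem cfRes_cfInfl (hn : A ≤ 𝐍(N)) (hφ : φ ∈ CF A) (hk : N ⊓ A ≤ cfker A φ) :
    cfRes A (cfInfl A N φ) = φ :=
  (cfRes_ext fun x hx => by rw [← cfInflE hn hφ hk hx N.one_mem, mul_one]).trans (cfRes_id hφ)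

theorem le_cfker_cfInfl (hn : A ≤ 𝐍(N)) (φ : G → ℂ) : N ≤ cfker (A ⊔ N) (cfInfl A N φ) :=
  le_cfker_cfMod (normalIn_sup_right hn) _

theorem cfInfl_mem_CF (hn : A ≤ 𝐍(N)) (hφ : φ ∈ CF A) (hk : N ⊓ A ≤ cfker A φ) :
    cfInfl A N φ ∈ CF (A ⊔ N) :=
  cfMod_mem_CF (normalIn_sup_right hn).2 (by rw [quo_sup_self hn]; exact cfQuo_mem_CF' hn hφ hk)

theorem IsChar.cfInfl (hφ : IsChar A φ) (hn : A ≤ 𝐍(N)) (hk : N ⊓ A ≤ cfker A φ) :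
    IsChar (A ⊔ N) (cfInfl A N φ) := by
  refine IsChar.cfMod ?_ (normalIn_sup_right hn).2
  rw [quo_sup_self hn]
  exact hφ.of_comp (quoOnto hn) (quoOnto_surjective hn) (cfQuo_suppOn _ _ _)
    fun x => by rw [coe_quoOnto, cfQuoE' hn hφ.mem_CF hk x.2]

theorem IsIrr.cfInfl (hφ : IsIrr A φ) (hn : A ≤ 𝐍(N)) (hk : N ⊓ A ≤ cfker A φ) :
    IsIrr (A ⊔ N) (cfInfl A N φ) :=
  isIrr_of_cfRes (hφ.isChar.cfInfl hn hk) le_sup_left (by rwa [cfRes_cfInfl hn hφ.mem_CF hk])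

theorem IsLinChar.cfInfl (hφ : IsLinChar A φ) (hn : A ≤ 𝐍(N)) (hk : N ⊓ A ≤ cfker A φ) :
    IsLinChar (A ⊔ N) (cfInfl A N φ) :=
  ⟨hφ.isChar.cfInfl hn hk, by
    rw [← cfRes1 (H := A) (OO.cfInfl A N φ), cfRes_cfInfl hn hφ.mem_CF hk, hφ.one]⟩

theorem cfdot_cfRes_of_cfker (hn : A ≤ 𝐍(N)) (hφ : φ ∈ CF (A ⊔ N)) (hk : N ≤ cfker (A ⊔ N) φ)
    (hψ : ψ ∈ CF (A ⊔ N)) (hk' : N ≤ cfker (A ⊔ N) ψ) : ⟪φ, ψ⟫[A] = ⟪φ, ψ⟫[A ⊔ N] := by
  have hn' := (normalIn_sup_right hn).2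
  rw [← cfdot_cfQuo hn' hφ hk hψ hk', quo_sup_self hn, ← cfdot_cfMod hn]
  exact cfdot_congr (fun x hx => by rw [cfModE _ hx, cfQuoE hn' hφ hk (mem_sup_left hx)])
    fun x hx => by rw [cfModE _ hx, cfQuoE hn' hψ hk' (mem_sup_left hx)]

/-- restriction to a supplement of a subgroup of the kernel -/
theorem IsIrr.cfRes_of_cfker (hχ : IsIrr M χ) (h : A ⊔ N = M) (hn : A ≤ 𝐍(N)) (hk : N ≤ cfker M χ) :
    IsIrr A (cfRes A χ) := by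
  subst h
  exact (hχ.isChar.cfRes le_sup_left).isIrr_of_cfdot (by
    rw [cfdot_cfRes_left, cfdot_cfRes_right, cfdot_cfRes_of_cfker hn hχ.mem_CF hk hχ.mem_CF hk,
      cfdot_irr_self hχ])

end Infl

/-! ### inflation to a semidirect product -/

section Sdprod

omit [Finite G] in
theorem cfSdprodE (h : K ⊓ R = ⊥) (φ : G → ℂ) {k r : G} (hk : k ∈ K) (hr : r ∈ R) :
    cfSdprod K R φ (k * r) = φ r := by
  have h1 : ∃ s ∈ R, k * r * s⁻¹ ∈ K := ⟨r, hr, by simpa using hk⟩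
  rw [cfSdprod, dif_pos h1]
  obtain ⟨h2, h3⟩ := h1.choose_spec
  have : r * h1.choose⁻¹ ∈ K ⊓ R :=
    mem_inf.2 ⟨by simpa [mul_assoc] using mul_mem (inv_mem hk) h3, mul_mem hr (inv_mem h2)⟩
  rw [h, mem_bot, mul_inv_eq_one] at this
  rw [← this]

omit [Finite G] in
theorem cfSdprodE' (h : IsSdprod K R M) (φ : G → ℂ) {k r : G} (hk : k ∈ K) (hr : r ∈ R) :
    cfSdprod K R φ (r * k) = φ r := by
  rw [← cfSdprodE h.inf_eq φ (conj_mem_of_norm (h.le_norm hr) hk) hr, inv_mul_cancel_right]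

omit [Finite G] in
theorem cfSdprodEr (h : K ⊓ R = ⊥) (φ : G → ℂ) {r : G} (hr : r ∈ R) : cfSdprod K R φ r = φ r := by
  rw [← cfSdprodE h φ K.one_mem hr, one_mul]

omit [Finite G] in
theorem cfSdprod1 (h : K ⊓ R = ⊥) (φ : G → ℂ) : cfSdprod K R φ 1 = φ 1 := cfSdprodEr h φ R.one_mem

omit [Finite G] in
theorem cfSdprod_suppOn (h : IsSdprod K R M) (φ : G → ℂ) : cfSdprod K R φ ∈ suppOn (M : Set G) :=
  fun x hx => dif_neg fun ⟨r, hr, h1⟩ => hx (by simpa using mul_mem (h.left_le h1) (h.right_le hr))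

omit [Finite G] in
theorem sdprod_ext (h : IsSdprod K R M) (hφ : φ ∈ suppOn (M : Set G)) (hψ : ψ ∈ suppOn (M : Set G))
    (e : ∀ k ∈ K, ∀ r ∈ R, φ (k * r) = ψ (k * r)) : φ = ψ := by
  ext x
  by_cases hx : x ∈ M
  · obtain ⟨k, hk, r, hr, rfl⟩ := h.mem_iff.1 hx
    exact e k hk r hr
  · rw [hφ x hx, hψ x hx]

/-- `cfSdprod` as a linear map -/
noncomputable def cfSdprodL (K R : Subgroup G) : (G → ℂ) →ₗ[ℂ] (G → ℂ) where
  toFun := cfSdprod K R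
  map_add' φ ψ := by ext x; by_cases h : ∃ r ∈ R, x * r⁻¹ ∈ K <;> simp [cfSdprod, h]
  map_smul' c φ := by ext x; by_cases h : ∃ r ∈ R, x * r⁻¹ ∈ K <;> simp [cfSdprod, h]

theorem cfSdprod_add (K R : Subgroup G) (φ ψ : G → ℂ) :
    cfSdprod K R (φ + ψ) = cfSdprod K R φ + cfSdprod K R ψ := map_add (cfSdprodL K R) φ ψ
theorem cfSdprod_sub (K R : Subgroup G) (φ ψ : G → ℂ) :
    cfSdprod K R (φ - ψ) = cfSdprod K R φ - cfSdprod K R ψ := map_sub (cfSdprodL K R) φ ψ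
theorem cfSdprod_smul (K R : Subgroup G) (c : ℂ) (φ : G → ℂ) :
    cfSdprod K R (c • φ) = c • cfSdprod K R φ := map_smul (cfSdprodL K R) c φ
theorem cfSdprod_sum {ι : Type*} (K R : Subgroup G) (s : Finset ι) (f : ι → G → ℂ) :
    cfSdprod K R (∑ i ∈ s, f i) = ∑ i ∈ s, cfSdprod K R (f i) := map_sum (cfSdprodL K R) f s
theorem cfSdprod_mul (K R : Subgroup G) (φ ψ : G → ℂ) :
    cfSdprod K R (φ * ψ) = cfSdprod K R φ * cfSdprod K R ψ := by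
  ext x; by_cases h : ∃ r ∈ R, x * r⁻¹ ∈ K <;> simp [cfSdprod, h]
theorem cfAut_cfSdprod (u : ℂ ≃+* ℂ) (K R : Subgroup G) (φ : G → ℂ) :
    cfAut u (cfSdprod K R φ) = cfSdprod K R (cfAut u φ) := by
  ext x; by_cases h : ∃ r ∈ R, x * r⁻¹ ∈ K <;> simp [cfSdprod, cfAut, h]
theorem cfSdprod_star (K R : Subgroup G) (φ : G → ℂ) :
    cfSdprod K R (star φ) = star (cfSdprod K R φ) := (cfAut_cfSdprod conjAut K R φ).symm

/-- the projection `K ⋊ R → R` -/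
noncomputable def IsSdprod.proj (h : IsSdprod K R M) : M →* R :=
  h.quoEquiv.symm.toMonoidHom.comp (quoOnto h.normal.2)

omit [Finite G] in
theorem IsSdprod.proj_spec (h : IsSdprod K R M) (x : M) : (x : G) * (h.proj x : G)⁻¹ ∈ K := by
  have h1 : h.quoEquiv (h.proj x) = quoOnto h.normal.2 x := h.quoEquiv.apply_symm_apply _
  have h2 : coset K (h.proj x : G) = coset K x := by
    rw [← coe_quoOnto h.normal.2, ← h1, ← quoHom_apply h.le_norm]; rfl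
  have hr := h.le_norm (h.proj x).2
  have := conj_mem_of_norm hr ((coset_eq_iff hr (h.normal.2 x.2)).1 h2)
  simpa [mul_assoc] using this

theorem cfSdprod_eq_proj (h : IsSdprod K R M) (φ : G → ℂ) (x : M) :
    cfSdprod K R φ x = φ (h.proj x) := by
  rw [← cfSdprodE h.inf_eq φ (h.proj_spec x) (h.proj x).2, inv_mul_cancel_right]

theorem IsSdprod.proj_surjective (h : IsSdprod K R M) : Function.Surjective h.proj :=
  h.quoEquiv.symm.surjective.comp (quoOnto_surjective h.normal.2)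

theorem cfSdprod_mem_CF (h : IsSdprod K R M) (hφ : φ ∈ CF R) : cfSdprod K R φ ∈ CF M :=
  mem_CF_comp h.proj hφ (cfSdprod_suppOn h φ) (cfSdprod_eq_proj h φ)

theorem cfdot_cfSdprod (h : IsSdprod K R M) (φ ψ : G → ℂ) :
    ⟪cfSdprod K R φ, cfSdprod K R ψ⟫[M] = ⟪φ, ψ⟫[R] :=
  cfdot_comp h.proj h.proj_surjective (cfSdprod_eq_proj h φ) (cfSdprod_eq_proj h ψ)

theorem IsChar.cfSdprod (hφ : IsChar R φ) (h : IsSdprod K R M) : IsChar M (cfSdprod K R φ) :=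
  hφ.comp h.proj (cfSdprod_suppOn h φ) (cfSdprod_eq_proj h φ)

theorem IsIrr.cfSdprod (hφ : IsIrr R φ) (h : IsSdprod K R M) : IsIrr M (cfSdprod K R φ) :=
  hφ.comp h.proj h.proj_surjective (cfSdprod_suppOn h φ) (cfSdprod_eq_proj h φ)

theorem IsLinChar.cfSdprod (hφ : IsLinChar R φ) (h : IsSdprod K R M) : IsLinChar M (cfSdprod K R φ) :=
  ⟨hφ.isChar.cfSdprod h, by rw [cfSdprod1 h.inf_eq, hφ.one]⟩

theorem cfSdprod_vchar (h : IsSdprod K R M) (hφ : φ ∈ ZIrr R) : cfSdprod K R φ ∈ ZIrr M :=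
  map_zchar (cfSdprodL K R).toAddMonoidHom (fun _ h' => irr_vchar ((mem_Irr.1 h').cfSdprod h)) hφ

theorem cfSdprod_cf1 (h : IsSdprod K R M) : cfSdprod K R (cf1 R) = cf1 M :=
  sdprod_ext h (cfSdprod_suppOn h _) (CF_le_suppOn _ (cf1_mem_CF M)) fun k hk r hr => by
    rw [cfSdprodE h.inf_eq _ hk hr, cf1E hr, cf1E (mul_mem (h.left_le hk) (h.right_le hr))]

theorem cfRes_cfSdprod (h : K ⊓ R = ⊥) (hφ : φ ∈ CF R) : cfRes R (cfSdprod K R φ) = φ :=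
  (cfRes_ext fun _ hx => cfSdprodEr h φ hx).trans (cfRes_id hφ)

theorem cfSdprod_inj (h : K ⊓ R = ⊥) (hφ : φ ∈ CF R) (hψ : ψ ∈ CF R)
    (e : cfSdprod K R φ = cfSdprod K R ψ) : φ = ψ := by
  rw [← cfRes_cfSdprod h hφ, e, cfRes_cfSdprod h hψ]

theorem le_cfker_cfSdprod (h : IsSdprod K R M) (φ : G → ℂ) : K ≤ cfker M (cfSdprod K R φ) :=
  fun x hx => mem_cfker_of (cfSdprod_suppOn h φ) (h.left_le hx) fun y hy => by
    obtain ⟨k, hk, r, hr, rfl⟩ := h.mem_iff.1 hy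
    rw [← mul_assoc, cfSdprodE h.inf_eq φ (mul_mem hx hk) hr, cfSdprodE h.inf_eq φ hk hr]

theorem cfSdprod_cfRes (h : IsSdprod K R M) (hχ : χ ∈ CF M) (hk : K ≤ cfker M χ) :
    cfSdprod K R (cfRes R χ) = χ :=
  sdprod_ext h (cfSdprod_suppOn h _) (CF_le_suppOn _ hχ) fun k hk' r hr => by
    rw [cfSdprodE h.inf_eq _ hk' hr, cfResE _ hr, cfkerMl (hk hk')]

theorem cfdot_cfRes_sdprod (h : IsSdprod K R M) (hχ : χ ∈ CF M) (hk : K ≤ cfker M χ) (hψ : ψ ∈ CF M)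
    (hk' : K ≤ cfker M ψ) : ⟪χ, ψ⟫[R] = ⟪χ, ψ⟫[M] := by
  conv_rhs => rw [← cfSdprod_cfRes h hχ hk, ← cfSdprod_cfRes h hψ hk', cfdot_cfSdprod h]
  simp

theorem IsIrr.cfRes_sdprod (hχ : IsIrr M χ) (h : IsSdprod K R M) (hk : K ≤ cfker M χ) :
    IsIrr R (cfRes R χ) :=
  (hχ.isChar.cfRes h.right_le).isIrr_of_cfdot (by
    rw [cfdot_cfRes_left, cfdot_cfRes_right, cfdot_cfRes_sdprod h hχ.mem_CF hk hχ.mem_CF hk,
      cfdot_irr_self hχ])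

theorem le_cfker_cfSdprod_iff (h : IsSdprod K R M) (hφ : φ ∈ CF R) (hA : A ≤ R) :
    A ≤ cfker M (cfSdprod K R φ) ↔ A ≤ cfker R φ := by
  refine ⟨fun h1 => ?_, fun h1 a ha => mem_cfker_of (cfSdprod_suppOn h φ) (h.right_le (hA ha))
    fun y hy => ?_⟩
  · rw [← cfRes_cfSdprod h.inf_eq hφ]
    exact (le_inf hA h1).trans (cfker_Res _)
  · obtain ⟨r, hr, k, hk, rfl⟩ := h.mem_iff'.1 hy
    rw [← mul_assoc, cfSdprodE' h φ hk (mul_mem (hA ha) hr), cfSdprodE' h φ hk hr, cfkerMl (h1 ha)]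

open Classical in
theorem sum_Irr_sdprod {X : Type*} [AddCommMonoid X] (h : IsSdprod K R M) (f : (G → ℂ) → X) :
    ∑ φ ∈ Irr R, f (cfSdprod K R φ) = ∑ χ ∈ (Irr M).filter fun χ => K ≤ cfker M χ, f χ := by
  refine Finset.sum_bij (fun α _ => cfSdprod K R α) (fun α hα => ?_) (fun α hα β hβ e => ?_)
    (fun χ hχ => ?_) fun _ _ => rfl
  · simp [(mem_Irr.1 hα).cfSdprod h, le_cfker_cfSdprod h]
  · exact cfSdprod_inj h.inf_eq (mem_Irr.1 hα).mem_CF (mem_Irr.1 hβ).mem_CF e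
  · simp only [Finset.mem_filter, mem_Irr] at hχ
    exact ⟨_, mem_Irr.2 (hχ.1.cfRes_sdprod h hχ.2), cfSdprod_cfRes h hχ.1.mem_CF hχ.2⟩

theorem cfRes_cfSdprod_sub (h : IsSdprod K R M) (h1 : IsSdprod K A L) (hA : A ≤ R) (φ : G → ℂ) :
    cfRes L (cfSdprod K R φ) = cfSdprod K A (cfRes A φ) :=
  sdprod_ext h1 (cfRes_mem_suppOn _) (cfSdprod_suppOn h1 _) fun k hk r hr => by
    rw [cfResE _ (mul_mem (h1.left_le hk) (h1.right_le hr)), cfSdprodE h.inf_eq _ hk (hA hr),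
      cfSdprodE h1.inf_eq _ hk hr, cfResE _ hr]

theorem cfInd_cfSdprod (h : IsSdprod K R M) (h1 : IsSdprod K A L) (hA : A ≤ R) (hφ : φ ∈ CF A) :
    cfInd M L (cfSdprod K A φ) = cfSdprod K R (cfInd R A φ) := by
  have hL : L ≤ M := h1.sup_eq ▸ sup_le h.left_le (hA.trans h.right_le)
  have e : R ⊓ L = A := by
    rw [← h1.sup_eq, inf_comm, sup_inf_of_le_right (Or.inr h1.le_norm) hA, h.inf_eq, bot_sup_eq]
  rw [← cfSdprod_cfRes h (cfInd_mem_CF M L _) (le_cfker_cfInd hL h.normal.2 (le_cfker_cfSdprod h1 φ)),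
    cfResInd_of_prod h.right_le hL (fun g hg => ?_) (cfSdprod_mem_CF h1 hφ), e,
    cfRes_cfSdprod h1.inf_eq hφ]
  obtain ⟨r, hr, k, hk, rfl⟩ := h.mem_iff'.1 hg
  exact ⟨r, hr, k, h1.left_le hk, rfl⟩

theorem cfConjg_cfSdprod (h : IsSdprod K R M) (hK : g ∈ 𝐍(K)) (hR : g ∈ 𝐍(R)) (φ : G → ℂ) :
    cfConjg g (cfSdprod K R φ) = cfSdprod K R (cfConjg g φ) := by
  have hM : g ∈ 𝐍(M) := h.sup_eq ▸ mem_norm_sup hK hR
  refine sdprod_ext h (fun x hx => cfSdprod_suppOn h φ _ fun h' => hx ?_) (cfSdprod_suppOn h _)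
    fun k hk r hr => ?_
  · simpa [mul_assoc] using conj_mem_of_norm hM h'
  · rw [cfSdprodE h.inf_eq _ hk hr, cfConjgE, cfConjgE,
      ← cfSdprodE h.inf_eq φ (conj_mem_of_norm' hK hk) (conj_mem_of_norm' hR hr)]
    congr 1; group

theorem mem_inertia_cfSdprod (h : IsSdprod K R M) (hK : g ∈ 𝐍(K)) (hR : g ∈ 𝐍(R)) (hφ : φ ∈ CF R) :
    g ∈ inertia L (cfSdprod K R φ) ↔ g ∈ inertia L φ := by
  rw [mem_inertia, mem_inertia, cfConjg_cfSdprod h hK hR]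
  exact and_congr_right fun _ => ⟨cfSdprod_inj h.inf_eq (cfConjg_mem_CF hR hφ) hφ, fun e => by rw [e]⟩

theorem cforder_cfSdprod (h : IsSdprod K R M) (φ : G → ℂ) :
    cforder M (cfSdprod K R φ) = cforder R φ := by
  refine Nat.dvd_antisymm (cforder_dvd_iff.2 fun x hx => ?_) (cforder_dvd_iff.2 fun x hx => ?_)
  · obtain ⟨k, hk, r, hr, rfl⟩ := h.mem_iff.1 hx
    rw [cfSdprodE h.inf_eq φ hk hr, pow_cforder _ hr]
  · rw [← cfSdprodEr h.inf_eq φ hx, pow_cforder _ (h.right_le hx)]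

end Sdprod

end Cfsg.Agent.OO
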