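import Mathlib
import Cfsg.Agent.Lib.OO.CF6

/-!
# CF6b: characters of direct products; transport along homomorphisms
-/

set_option autoImplicit false
set_option linter.unusedSectionVars false

namespace Cfsg.Agent.OO

open Subgroup
open scoped Pointwise ComplexConjugate

universe u v

variable {G : Type u} [Group G] [Finite G] {A B H K L M N R : Subgroup G}
  {φ ψ φ' ψ' θ χ ξ : G → ℂ} {a b g x y : G}

section Dprod

omit [Finite G] in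
theorem cfDprodE (h : A ⊓ B = ⊥) (φ ψ : G → ℂ) (ha : a ∈ A) (hb : b ∈ B) :
    cfDprod A B φ ψ (a * b) = φ a * ψ b := by
  have h1 : ∃ s ∈ A, s⁻¹ * (a * b) ∈ B := ⟨a, ha, by simpa using hb⟩
  rw [cfDprod, dif_pos h1]
  obtain ⟨h2, h3⟩ := h1.choose_spec
  have : h1.choose⁻¹ * a ∈ A ⊓ B :=
    mem_inf.2 ⟨mul_mem (inv_mem h2) ha, by simpa [mul_assoc] using mul_mem h3 (inv_mem hb)⟩
  rw [h, mem_bot, inv_mul_eq_one] at this
  rw [this, inv_mul_cancel_left]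

omit [Finite G] in
theorem cfDprodEl (h : A ⊓ B = ⊥) (φ ψ : G → ℂ) (ha : a ∈ A) : cfDprod A B φ ψ a = φ a * ψ 1 := by
  rw [← cfDprodE h φ ψ ha B.one_mem, mul_one]

omit [Finite G] in
theorem cfDprodEr (h : A ⊓ B = ⊥) (φ ψ : G → ℂ) (hb : b ∈ B) : cfDprod A B φ ψ b = φ 1 * ψ b := by
  rw [← cfDprodE h φ ψ A.one_mem hb, one_mul]

omit [Finite G] in
theorem cfDprod1 (h : A ⊓ B = ⊥) (φ ψ : G → ℂ) : cfDprod A B φ ψ 1 = φ 1 * ψ 1 :=
  cfDprodEl h φ ψ A.one_mem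

omit [Finite G] in
theorem cfDprod_suppOn (h : A ⊔ B = M) (φ ψ : G → ℂ) : cfDprod A B φ ψ ∈ suppOn (M : Set G) :=
  fun x hx => dif_neg fun ⟨r, hr, h1⟩ => hx (by
    simpa using mul_mem ((h ▸ le_sup_left : A ≤ M) hr) ((h ▸ le_sup_right : B ≤ M) h1))

omit [Finite G] in
theorem IsDprod.comm (h : IsDprod A B M) (ha : a ∈ A) (hb : b ∈ B) : a * b = b * a :=
  mem_cent_iff.1 (h.le_cent hb) a ha

theorem cfDprod_eq_mul (h : IsDprod A B M) (φ ψ : G → ℂ) :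
    cfDprod A B φ ψ = cfSdprod B A φ * cfSdprod A B ψ :=
  sdprod_ext h.toSdprod (cfDprod_suppOn h.sup_eq φ ψ)
    (mul_mem_suppOn_right _ (cfSdprod_suppOn h.toSdprod ψ)) fun a ha b hb => by
    rw [cfDprodE h.inf_eq φ ψ ha hb, Pi.mul_apply, cfSdprodE h.inf_eq ψ ha hb,
      cfSdprodE' h.symm.toSdprod φ hb ha]

theorem cfDprodC (h : IsDprod A B M) (φ ψ : G → ℂ) : cfDprod B A ψ φ = cfDprod A B φ ψ := by
  rw [cfDprod_eq_mul h, cfDprod_eq_mul h.symm, mul_comm]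

theorem cfDprod_cf1r (h : IsDprod A B M) (φ : G → ℂ) : cfDprod A B φ (cf1 B) = cfSdprod B A φ :=
  sdprod_ext h.toSdprod (cfDprod_suppOn h.sup_eq _ _) (cfSdprod_suppOn h.symm.toSdprod φ)
    fun a ha b hb => by
    rw [cfDprodE h.inf_eq _ _ ha hb, cfSdprodE' h.symm.toSdprod φ hb ha, cf1E hb, mul_one]

theorem cfDprod_cf1l (h : IsDprod A B M) (ψ : G → ℂ) : cfDprod A B (cf1 A) ψ = cfSdprod A B ψ := by
  rw [← cfDprodC h, cfDprod_cf1r h.symm]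

theorem cfDprod_cf1 (h : IsDprod A B M) : cfDprod A B (cf1 A) (cf1 B) = cf1 M := by
  rw [cfDprod_cf1l h, cfSdprod_cf1 h.toSdprod]

theorem cfDprod_split (h : IsDprod A B M) (φ ψ : G → ℂ) :
    cfDprod A B φ ψ = cfDprod A B φ (cf1 B) * cfDprod A B (cf1 A) ψ := by
  rw [cfDprod_cf1l h, cfDprod_cf1r h, cfDprod_eq_mul h]

/-- `cfDprod` as a bilinear map -/
noncomputable def cfDprodL (A B : Subgroup G) : (G → ℂ) →ₗ[ℂ] (G → ℂ) →ₗ[ℂ] (G → ℂ) :=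
  LinearMap.mk₂ ℂ (cfDprod A B)
    (fun φ φ' ψ => by ext x; by_cases h : ∃ a ∈ A, a⁻¹ * x ∈ B <;> simp [cfDprod, h, add_mul])
    (fun c φ ψ => by ext x; by_cases h : ∃ a ∈ A, a⁻¹ * x ∈ B <;> simp [cfDprod, h, mul_assoc])
    (fun φ ψ ψ' => by ext x; by_cases h : ∃ a ∈ A, a⁻¹ * x ∈ B <;> simp [cfDprod, h, mul_add])
    (fun c φ ψ => by ext x; by_cases h : ∃ a ∈ A, a⁻¹ * x ∈ B <;> simp [cfDprod, h, mul_left_comm])

theorem cfDprodL_apply (A B : Subgroup G) (φ ψ : G → ℂ) : cfDprodL A B φ ψ = cfDprod A B φ ψ := rfl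

theorem cfDprod_addl (A B : Subgroup G) (φ φ' ψ : G → ℂ) :
    cfDprod A B (φ + φ') ψ = cfDprod A B φ ψ + cfDprod A B φ' ψ := map_add ((cfDprodL A B).flip ψ) φ φ'
theorem cfDprod_subl (A B : Subgroup G) (φ φ' ψ : G → ℂ) :
    cfDprod A B (φ - φ') ψ = cfDprod A B φ ψ - cfDprod A B φ' ψ := map_sub ((cfDprodL A B).flip ψ) φ φ'
theorem cfDprod_smull (A B : Subgroup G) (c : ℂ) (φ ψ : G → ℂ) :
    cfDprod A B (c • φ) ψ = c • cfDprod A B φ ψ := map_smul ((cfDprodL A B).flip ψ) c φ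
theorem cfDprod_suml {ι : Type*} (A B : Subgroup G) (s : Finset ι) (f : ι → G → ℂ) (ψ : G → ℂ) :
    cfDprod A B (∑ i ∈ s, f i) ψ = ∑ i ∈ s, cfDprod A B (f i) ψ := map_sum ((cfDprodL A B).flip ψ) f s
theorem cfDprod_addr (A B : Subgroup G) (φ ψ ψ' : G → ℂ) :
    cfDprod A B φ (ψ + ψ') = cfDprod A B φ ψ + cfDprod A B φ ψ' := map_add (cfDprodL A B φ) ψ ψ'
theorem cfDprod_subr (A B : Subgroup G) (φ ψ ψ' : G → ℂ) :
    cfDprod A B φ (ψ - ψ') = cfDprod A B φ ψ - cfDprod A B φ ψ' := map_sub (cfDprodL A B φ) ψ ψ'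
theorem cfDprod_smulr (A B : Subgroup G) (c : ℂ) (φ ψ : G → ℂ) :
    cfDprod A B φ (c • ψ) = c • cfDprod A B φ ψ := map_smul (cfDprodL A B φ) c ψ
theorem cfDprod_sumr {ι : Type*} (A B : Subgroup G) (s : Finset ι) (φ : G → ℂ) (f : ι → G → ℂ) :
    cfDprod A B φ (∑ i ∈ s, f i) = ∑ i ∈ s, cfDprod A B φ (f i) := map_sum (cfDprodL A B φ) f s

theorem cfDprod_mul (A B : Subgroup G) (φ ψ φ' ψ' : G → ℂ) :
    cfDprod A B (φ * φ') (ψ * ψ') = cfDprod A B φ ψ * cfDprod A B φ' ψ' := by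
  ext x; by_cases h : ∃ a ∈ A, a⁻¹ * x ∈ B <;> simp [cfDprod, h, mul_mul_mul_comm]

theorem cfDprod_pow (A B : Subgroup G) (φ ψ : G → ℂ) {n : ℕ} (hn : n ≠ 0) :
    cfDprod A B (φ ^ n) (ψ ^ n) = cfDprod A B φ ψ ^ n := by
  ext x; by_cases h : ∃ a ∈ A, a⁻¹ * x ∈ B <;> simp [cfDprod, h, mul_pow, hn]

theorem cfAut_cfDprod (u : ℂ ≃+* ℂ) (A B : Subgroup G) (φ ψ : G → ℂ) :
    cfAut u (cfDprod A B φ ψ) = cfDprod A B (cfAut u φ) (cfAut u ψ) := by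
  ext x; by_cases h : ∃ a ∈ A, a⁻¹ * x ∈ B <;> simp [cfDprod, cfAut, h]

theorem cfDprod_star (A B : Subgroup G) (φ ψ : G → ℂ) :
    cfDprod A B (star φ) (star ψ) = star (cfDprod A B φ ψ) := (cfAut_cfDprod conjAut A B φ ψ).symm

theorem cfDprod_mem_CF (h : IsDprod A B M) (hφ : φ ∈ CF A) (hψ : ψ ∈ CF B) : cfDprod A B φ ψ ∈ CF M := by
  rw [cfDprod_eq_mul h]
  exact mul_mem_CF (cfSdprod_mem_CF h.symm.toSdprod hφ) (cfSdprod_mem_CF h.toSdprod hψ)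

theorem sum_elts_sdprod {X : Type*} [AddCommMonoid X] (h : IsSdprod K R M) (f : G → X) :
    ∑ x ∈ elts (M : Set G), f x = ∑ k ∈ elts (K : Set G), ∑ r ∈ elts (R : Set G), f (k * r) := by
  rw [← Finset.sum_product']
  symm
  refine Finset.sum_bij (fun p _ => p.1 * p.2) (fun p hp => ?_) (fun p hp q hq e => ?_)
    (fun x hx => ?_) fun _ _ => rfl
  · simp only [Finset.mem_product, mem_elts, SetLike.mem_coe] at hp ⊢
    exact mul_mem (h.left_le hp.1) (h.right_le hp.2)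
  · simp only [Finset.mem_product, mem_elts, SetLike.mem_coe] at hp hq
    have e1 : q.1⁻¹ * p.1 = q.2 * p.2⁻¹ := by
      rw [inv_mul_eq_iff_eq_mul, ← mul_assoc, ← e, mul_inv_cancel_right]
    have : q.1⁻¹ * p.1 ∈ K ⊓ R :=
      mem_inf.2 ⟨mul_mem (inv_mem hq.1) hp.1, e1 ▸ mul_mem hq.2 (inv_mem hp.2)⟩
    rw [h.inf_eq, mem_bot] at this
    exact Prod.ext (inv_mul_eq_one.1 this).symm (mul_inv_eq_one.1 (e1 ▸ this)).symm
  · obtain ⟨k, hk, r, hr, rfl⟩ := h.mem_iff.1 (by simpa using hx)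
    exact ⟨(k, r), by simp [hk, hr], rfl⟩

theorem cfdot_dprod (h : IsDprod A B M) (φ ψ φ' ψ' : G → ℂ) :
    ⟪cfDprod A B φ ψ, cfDprod A B φ' ψ'⟫[M] = ⟪φ, φ'⟫[A] * ⟪ψ, ψ'⟫[B] := by
  rw [cfdotE, cfdotE, cfdotE, sum_elts_sdprod h.toSdprod, ← h.card, Nat.cast_mul, mul_inv,
    mul_mul_mul_comm, Finset.sum_mul_sum]
  congr 1
  refine Finset.sum_congr rfl fun a ha => Finset.sum_congr rfl fun b hb => ?_
  rw [cfDprodE h.inf_eq _ _ (by simpa using ha) (by simpa using hb),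
    cfDprodE h.inf_eq _ _ (by simpa using ha) (by simpa using hb), map_mul, mul_mul_mul_comm]

theorem cfnorm_dprod (h : IsDprod A B M) (φ ψ : G → ℂ) :
    cfnorm M (cfDprod A B φ ψ) = cfnorm A φ * cfnorm B ψ :=
  cfnorm_eq_of_cfdot (by rw [cfdot_dprod h, cfdot_self, cfdot_self, Complex.ofReal_mul])

theorem cfDprod_char (h : IsDprod A B M) (hφ : IsChar A φ) (hψ : IsChar B ψ) :
    IsChar M (cfDprod A B φ ψ) := by
  rw [cfDprod_eq_mul h]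
  exact (hφ.cfSdprod h.symm.toSdprod).mul (hψ.cfSdprod h.toSdprod)

theorem cfDprod_irr (h : IsDprod A B M) (hφ : IsIrr A φ) (hψ : IsIrr B ψ) :
    IsIrr M (cfDprod A B φ ψ) :=
  (cfDprod_char h hφ.isChar hψ.isChar).isIrr_of_cfdot (by
    rw [cfdot_dprod h, cfdot_irr_self hφ, cfdot_irr_self hψ, mul_one])

theorem cfDprod_lin (h : IsDprod A B M) (hφ : IsLinChar A φ) (hψ : IsLinChar B ψ) :
    IsLinChar M (cfDprod A B φ ψ) :=
  ⟨cfDprod_char h hφ.isChar hψ.isChar, by rw [cfDprod1 h.inf_eq, hφ.one, hψ.one, mul_one]⟩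

theorem cfDprod_vchar (h : IsDprod A B M) (hφ : φ ∈ ZIrr A) (hψ : ψ ∈ ZIrr B) :
    cfDprod A B φ ψ ∈ ZIrr M := by
  rw [cfDprod_eq_mul h]
  exact mul_vchar (cfSdprod_vchar h.symm.toSdprod hφ) (cfSdprod_vchar h.toSdprod hψ)

theorem cfDprod_irr_inj (h : IsDprod A B M) (hφ : IsIrr A φ) (hψ : IsIrr B ψ) (hφ' : IsIrr A φ')
    (hψ' : IsIrr B ψ') : cfDprod A B φ ψ = cfDprod A B φ' ψ' ↔ φ = φ' ∧ ψ = ψ' := by
  refine ⟨fun e => ?_, fun e => by rw [e.1, e.2]⟩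
  have := cfdot_irr_self (cfDprod_irr h hφ hψ)
  nth_rewrite 2 [e] at this
  rw [cfdot_dprod h] at this
  have h0 : ⟪φ, φ'⟫[A] * ⟪ψ, ψ'⟫[B] ≠ 0 := by rw [this]; exact one_ne_zero
  exact ⟨hφ.eq_of_cfdot_ne_zero hφ' (left_ne_zero_of_mul h0),
    hψ.eq_of_cfdot_ne_zero hψ' (right_ne_zero_of_mul h0)⟩

theorem cfDprod_cfReg (h : IsDprod A B M) : cfDprod A B (cfReg A) (cfReg B) = cfReg M :=
  sdprod_ext h.toSdprod (cfDprod_suppOn h.sup_eq _ _) (CF_le_suppOn _ (cfReg_mem_CF M))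
    fun a ha b hb => by
    rw [cfDprodE h.inf_eq _ _ ha hb]
    by_cases e : a * b = 1
    · have : a ∈ A ⊓ B := mem_inf.2 ⟨ha, eq_inv_of_mul_eq_one_left e ▸ inv_mem hb⟩
      rw [h.inf_eq, mem_bot] at this
      rw [this, one_mul] at e
      rw [this, e, one_mul, cfReg_one, cfReg_one, cfReg_one, ← h.card, Nat.cast_mul]
    · rw [cfReg_of_ne M e]
      by_cases ha1 : a = 1
      · rw [cfReg_of_ne B (by rintro rfl; simp [ha1] at e), mul_zero]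
      · rw [cfReg_of_ne A ha1, zero_mul]

theorem dprod_irr_onto (h : IsDprod A B M) (hχ : IsIrr M χ) :
    ∃ φ ψ, IsIrr A φ ∧ IsIrr B ψ ∧ χ = cfDprod A B φ ψ := by
  have h1 := irr1_neq0 hχ
  rw [← cfdot_cfReg (H := M) χ, ← cfDprod_cfReg h, cfReg_sum, cfDprod_suml, cfdot_sumr] at h1
  obtain ⟨φ, hφ, h2⟩ := Finset.exists_ne_zero_of_sum_ne_zero h1
  rw [cfReg_sum, cfDprod_sumr, cfdot_sumr] at h2
  obtain ⟨ψ, hψ, h3⟩ := Finset.exists_ne_zero_of_sum_ne_zero h2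
  rw [cfDprod_smull, cfDprod_smulr, cfdotZr, cfdotZr] at h3
  exact ⟨φ, ψ, mem_Irr.1 hφ, mem_Irr.1 hψ, hχ.eq_of_cfdot_ne_zero
    (cfDprod_irr h (mem_Irr.1 hφ) (mem_Irr.1 hψ)) (right_ne_zero_of_mul (right_ne_zero_of_mul h3))⟩

theorem sum_Irr_dprod {X : Type*} [AddCommMonoid X] (h : IsDprod A B M) (f : (G → ℂ) → X) :
    ∑ χ ∈ Irr M, f χ = ∑ φ ∈ Irr A, ∑ ψ ∈ Irr B, f (cfDprod A B φ ψ) := by
  rw [← Finset.sum_product']
  symm
  refine Finset.sum_bij (fun p _ => cfDprod A B p.1 p.2) (fun p hp => ?_) (fun p hp q hq e => ?_)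
    (fun χ hχ => ?_) fun _ _ => rfl
  · simp only [Finset.mem_product, mem_Irr] at hp ⊢
    exact cfDprod_irr h hp.1 hp.2
  · simp only [Finset.mem_product, mem_Irr] at hp hq
    have := (cfDprod_irr_inj h hp.1 hp.2 hq.1 hq.2).1 e
    exact Prod.ext this.1 this.2
  · obtain ⟨φ, ψ, hφ, hψ, rfl⟩ := dprod_irr_onto h (mem_Irr.1 hχ)
    exact ⟨(φ, ψ), by simp [hφ, hψ], rfl⟩

theorem cfRes_cfDprodl (h : A ⊓ B = ⊥) (hφ : φ ∈ CF A) (ψ : G → ℂ) :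
    cfRes A (cfDprod A B φ ψ) = ψ 1 • φ :=
  (cfRes_ext (ψ := ψ 1 • φ) fun _ hx => by simp [cfDprodEl h φ ψ hx, mul_comm]).trans
    (cfRes_id (Submodule.smul_mem _ _ hφ))

theorem cfRes_cfDprodr (h : A ⊓ B = ⊥) (φ : G → ℂ) (hψ : ψ ∈ CF B) :
    cfRes B (cfDprod A B φ ψ) = φ 1 • ψ :=
  (cfRes_ext (ψ := φ 1 • ψ) fun _ hx => by simp [cfDprodEr h φ ψ hx]).trans
    (cfRes_id (Submodule.smul_mem _ _ hψ))

theorem cfRes_cfDprod (h : IsDprod A B M) (h' : IsDprod H K L) (hH : H ≤ A) (hK : K ≤ B)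
    (φ ψ : G → ℂ) : cfRes L (cfDprod A B φ ψ) = cfDprod H K (cfRes H φ) (cfRes K ψ) :=
  sdprod_ext h'.toSdprod (cfRes_mem_suppOn _) (cfDprod_suppOn h'.sup_eq _ _) fun a ha b hb => by
    rw [cfResE _ (mul_mem (h'.left_le ha) (h'.right_le hb)), cfDprodE h.inf_eq _ _ (hH ha) (hK hb),
      cfDprodE h'.inf_eq _ _ ha hb, cfResE _ ha, cfResE _ hb]

theorem cfDprod_cfRes_lin (h : IsDprod A B M) (hχ : IsLinChar M χ) :
    cfDprod A B (cfRes A χ) (cfRes B χ) = χ :=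
  sdprod_ext h.toSdprod (cfDprod_suppOn h.sup_eq _ _) (CF_le_suppOn _ hχ.mem_CF) fun a ha b hb => by
    rw [cfDprodE h.inf_eq _ _ ha hb, cfResE _ ha, cfResE _ hb, lin_charMl hχ (h.left_le ha)]

theorem cfker_le_cfker_dprodl (h : IsDprod A B M) (φ ψ : G → ℂ) :
    cfker A φ ≤ cfker M (cfDprod A B φ ψ) := fun x hx =>
  mem_cfker_of (cfDprod_suppOn h.sup_eq _ _) (h.left_le hx.1) fun y hy => by
    obtain ⟨a, ha, b, hb, rfl⟩ := h.mem_iff.1 hy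
    rw [← mul_assoc, cfDprodE h.inf_eq _ _ (mul_mem hx.1 ha) hb, cfDprodE h.inf_eq _ _ ha hb, cfkerMl hx]

theorem cfker_le_cfker_dprodr (h : IsDprod A B M) (φ ψ : G → ℂ) :
    cfker B ψ ≤ cfker M (cfDprod A B φ ψ) := by
  rw [← cfDprodC h]; exact cfker_le_cfker_dprodl h.symm ψ φ

theorem le_cfker_dprodl_iff (h : IsDprod A B M) (hφ : φ ∈ CF A) (h1 : ψ 1 ≠ 0) (hH : H ≤ A) :
    H ≤ cfker M (cfDprod A B φ ψ) ↔ H ≤ cfker A φ := by
  refine ⟨fun h2 => ?_, fun h2 => h2.trans (cfker_le_cfker_dprodl h φ ψ)⟩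
  rw [← cfker_smul h1, ← cfRes_cfDprodl h.inf_eq hφ]
  exact (le_inf hH h2).trans (cfker_Res _)

theorem le_cfker_dprodr_iff (h : IsDprod A B M) (hψ : ψ ∈ CF B) (h1 : φ 1 ≠ 0) (hH : H ≤ B) :
    H ≤ cfker M (cfDprod A B φ ψ) ↔ H ≤ cfker B ψ := by
  rw [← cfDprodC h]; exact le_cfker_dprodl_iff h.symm hψ h1 hH

theorem cfConjg_cfDprod (h : IsDprod A B M) (hA : g ∈ 𝐍(A)) (hB : g ∈ 𝐍(B)) (φ ψ : G → ℂ) :
    cfConjg g (cfDprod A B φ ψ) = cfDprod A B (cfConjg g φ) (cfConjg g ψ) := by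
  rw [cfDprod_eq_mul h, cfDprod_eq_mul h, cfConjg_mul, cfConjg_cfSdprod h.symm.toSdprod hB hA,
    cfConjg_cfSdprod h.toSdprod hA hB]

theorem inertia_dprod_irr (h : IsDprod A B M) (hA : L ≤ 𝐍(A)) (hB : L ≤ 𝐍(B)) (hφ : IsIrr A φ)
    (hψ : IsIrr B ψ) : inertia L (cfDprod A B φ ψ) = inertia L φ ⊓ inertia L ψ := by
  ext g
  simp only [mem_inf, mem_inertia]
  refine ⟨fun hg => ?_, fun hg => ⟨hg.1.1, ?_⟩⟩
  · rw [cfConjg_cfDprod h (hA hg.1) (hB hg.1),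
      cfDprod_irr_inj h (hφ.cfConjg (hA hg.1)) (hψ.cfConjg (hB hg.1)) hφ hψ] at hg
    exact ⟨⟨hg.1, hg.2.1⟩, hg.1, hg.2.2⟩
  · rw [cfConjg_cfDprod h (hA hg.1.1) (hB hg.1.1), hg.1.2, hg.2.2]

theorem cfInd_dprodl (h : IsDprod A B M) (hφ : φ ∈ CF A) :
    cfInd M A φ = cfDprod A B φ (cfReg B) := by
  refine cfun_ext_irr (cfInd_mem_CF _ _ _) (cfDprod_mem_CF h hφ (cfReg_mem_CF B)) fun χ hχ => ?_
  obtain ⟨α, β, hα, hβ, rfl⟩ := dprod_irr_onto h hχ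
  rw [← Frobenius_reciprocity h.left_le hφ hχ.mem_CF, cfRes_cfDprodl h.inf_eq hα.mem_CF, cfdotZr,
    cfdot_dprod h, cfdotC (cfReg B), cfdot_cfReg, mul_comm]

theorem cforder_dprod (h : IsDprod A B M) (hφ : φ 1 = 1) (hψ : ψ 1 = 1) :
    cforder M (cfDprod A B φ ψ) = (cforder A φ).lcm (cforder B ψ) := by
  refine Nat.dvd_antisymm (cforder_dvd_iff.2 fun x hx => ?_)
    (Nat.lcm_dvd (cforder_dvd_iff.2 fun x hx => ?_) (cforder_dvd_iff.2 fun x hx => ?_))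
  · obtain ⟨a, ha, b, hb, rfl⟩ := h.mem_iff.1 hx
    rw [cfDprodE h.inf_eq _ _ ha hb, mul_pow, cforder_dvd_iff.1 (Nat.dvd_lcm_left _ _) a ha,
      cforder_dvd_iff.1 (Nat.dvd_lcm_right _ _) b hb, mul_one]
  · rw [← pow_cforder (cfDprod A B φ ψ) (h.left_le hx), cfDprodEl h.inf_eq _ _ hx, hψ, mul_one]
  · rw [← pow_cforder (cfDprod A B φ ψ) (h.right_le hx), cfDprodEr h.inf_eq _ _ hx, hφ, one_mul]

end Dprod

/-! ### linear characters of a product of subgroups -/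

/-- linear characters agreeing on generators are equal -/
theorem IsLinChar.ext_iSup {ι : Sort*} {S : ι → Subgroup G} (h : IsLinChar H φ) (h' : IsLinChar H ψ)
    (hS : H ≤ ⨆ i, S i) (hle : ∀ i, S i ≤ H) (e : ∀ i, ∀ x ∈ S i, φ x = ψ x) : φ = ψ := by
  refine cfun_ext h.mem_CF h'.mem_CF fun x hx => ?_
  have : x ∈ H ∧ φ x = ψ x := by
    refine iSup_induction S (C := fun x => x ∈ H ∧ φ x = ψ x) (hS hx) (fun i x hx => ⟨hle i hx, e i x hx⟩)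
      ⟨H.one_mem, by rw [h.one, h'.one]⟩ fun x y hx hy => ⟨mul_mem hx.1 hy.1, ?_⟩
    rw [lin_charMl h hx.1, lin_charMl h' hx.1, hx.2, hy.2]
  exact this.2

theorem IsLinChar.ext_sup (h : IsLinChar H φ) (h' : IsLinChar H ψ) (hS : A ⊔ B = H)
    (e1 : ∀ x ∈ A, φ x = ψ x) (e2 : ∀ x ∈ B, φ x = ψ x) : φ = ψ :=
  h.ext_iSup h' (S := fun b : Bool => if b then A else B) (by rw [iSup_bool_eq, ← hS]; simp)
    (fun b => by cases b <;> simp [← hS]) fun b => by cases b <;> simpa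

/-- linear characters with prescribed restrictions to independent subgroups: `N ≤ S i ≤ H`,
`H / N` abelian and the `S i / N` independent -/
theorem exists_lin_char_of_indep {ι : Type*} (s : Finset ι) {S : ι → Subgroup G} (hd : der H ≤ N)
    (hNH : N ≤ H) (hle : ∀ i ∈ s, S i ≤ H)
    (hi : ∀ i ∈ s, S i ⊓ (N ⊔ ⨆ j ∈ s, ⨆ (_ : j ≠ i), S j) ≤ N) {l : ι → G → ℂ}
    (hl : ∀ i ∈ s, IsLinChar (S i) (l i)) (hk : ∀ i ∈ s, N ≤ cfker (S i) (l i)) :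
    ∃ χ, IsLinChar H χ ∧ N ≤ cfker H χ ∧ ∀ i ∈ s, cfRes (S i) χ = l i := by
  classical
  have key : ∀ i ∈ s, ∃ χ, IsLinChar H χ ∧ cfRes (S i) χ = l i ∧
      N ⊔ ⨆ j ∈ s, ⨆ (_ : j ≠ i), S j ≤ cfker H χ := by
    intro i his
    set T := N ⊔ ⨆ j ∈ s, ⨆ (_ : j ≠ i), S j
    have hT : T ≤ H := sup_le hNH (iSup₂_le fun j hj => iSup_le fun _ => hle j hj)
    have hTn : H ≤ 𝐍(T) := le_norm_of_der_le (hd.trans le_sup_left) hT
    have hq : S i ≤ 𝐍(T) := (hle i his).trans hTn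
    have h1 : T ⊓ S i ≤ cfker (S i) (l i) := by rw [inf_comm]; exact (hi i his).trans (hk i his)
    have h2 := le_cfker_cfInfl hq (l i)
    obtain ⟨χ, hχ, e⟩ := extend_lin_char_of_der_le (sup_le (hle i his) hT) ((hl i his).cfInfl hq h1)
      ((hd.trans le_sup_left).trans h2)
    refine ⟨χ, hχ, by rw [← cfResRes (le_sup_left : S i ≤ S i ⊔ T), e,
      cfRes_cfInfl hq (hl i his).mem_CF h1], ?_⟩
    rw [← e, cfker_Res_char hχ.isChar (sup_le (hle i his) hT)] at h2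
    exact h2.trans inf_le_right
  choose! c hc using key
  have h1 : ∀ i ∈ s, ∀ j ∈ s, j ≠ i → ∀ x ∈ S j, c i x = 1 := fun i hi j hj hne x hx =>
    (mem_cfker_lin (hc i hi).1).1 ((hc i hi).2.2 (mem_sup_right
      ((le_iSup₂_of_le j hj (le_iSup (fun _ : j ≠ i => S j) hne) : S j ≤ _) hx)))
  have hχ : IsLinChar H (cf1 H * ∏ i ∈ s, c i) :=
    isLinChar_of_mul (mul_mem_suppOn_left (CF_le_suppOn _ (cf1_mem_CF H)) _)
      (by simp [Finset.prod_eq_one fun i hi => (hc i hi).1.one]) fun x hx y hy => by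
      simp only [Pi.mul_apply, Finset.prod_apply, cf1E hx, cf1E hy, cf1E (mul_mem hx hy), one_mul]
      rw [← Finset.prod_mul_distrib]
      exact Finset.prod_congr rfl fun i hi => lin_charMl (hc i hi).1 hx y
  refine ⟨_, hχ, fun x hx => (mem_cfker_lin hχ).2 ?_, fun i hi => ?_⟩
  · simp only [Pi.mul_apply, Finset.prod_apply, cf1E (hNH hx), one_mul]
    exact Finset.prod_eq_one fun i hi => (mem_cfker_lin (hc i hi).1).1 ((hc i hi).2.2 (mem_sup_left hx))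
  · rw [← (hc i hi).2.1]
    refine cfRes_ext fun x hx => ?_
    simp only [Pi.mul_apply, Finset.prod_apply, cf1E (hle i hi hx), one_mul]
    exact Finset.prod_eq_single_of_mem i hi fun j hj hne => h1 j hj i hi hne.symm x hx

/-! ### transport along a homomorphism -/

section Morph

variable {G' : Type v} [Group G'] [Finite G'] {H' : Subgroup G'} {α β : G' → ℂ}

/-- the class function `α ∘ f` of `H` -/
noncomputable def cfMorph (f : H →* H') (α : G' → ℂ) : G → ℂ := extendByZero H fun x => α (f x)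

theorem cfMorphE (f : H →* H') (α : G' → ℂ) (x : H) : cfMorph f α x = α (f x) :=
  congrFun (coe_extendByZero fun x : H => α (f x)) x

theorem cfMorph_suppOn (f : H →* H') (α : G' → ℂ) : cfMorph f α ∈ suppOn (H : Set G) :=
  extendByZero_mem_suppOn _

theorem cfMorph1 (f : H →* H') (α : G' → ℂ) : cfMorph f α 1 = α 1 := by
  simpa using cfMorphE f α 1

theorem cfMorph_mem_CF (f : H →* H') (hα : α ∈ CF H') : cfMorph f α ∈ CF H :=
  mem_CF_comp f hα (cfMorph_suppOn f α) (cfMorphE f α)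

theorem IsChar.cfMorph (hα : IsChar H' α) (f : H →* H') : IsChar H (cfMorph f α) :=
  hα.comp f (cfMorph_suppOn f α) (cfMorphE f α)

theorem IsIrr.cfMorph (hα : IsIrr H' α) (f : H →* H') (hf : Function.Surjective f) :
    IsIrr H (cfMorph f α) := hα.comp f hf (cfMorph_suppOn f α) (cfMorphE f α)

theorem IsLinChar.cfMorph (hα : IsLinChar H' α) (f : H →* H') : IsLinChar H (cfMorph f α) :=
  ⟨hα.isChar.cfMorph f, by rw [cfMorph1, hα.one]⟩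

theorem cfdot_cfMorph (f : H →* H') (hf : Function.Surjective f) (α β : G' → ℂ) :
    ⟪cfMorph f α, cfMorph f β⟫[H] = ⟪α, β⟫[H'] := cfdot_comp f hf (cfMorphE f α) (cfMorphE f β)

theorem cfMorph_inj (f : H →* H') (hf : Function.Surjective f) (hα : α ∈ CF H') (hβ : β ∈ CF H')
    (e : cfMorph f α = cfMorph f β) : α = β :=
  cfun_ext hα hβ fun y hy => by
    obtain ⟨x, hx⟩ := hf ⟨y, hy⟩
    have := congrFun e x
    rwa [cfMorphE, cfMorphE, hx] at this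

theorem cfMorph_symm (f : H ≃* H') (hφ : φ ∈ suppOn (H : Set G)) :
    cfMorph (f : H →* H') (cfMorph (f.symm : H' →* H) φ) = φ := by
  ext x
  by_cases hx : x ∈ H
  · rw [cfMorphE (f : H →* H') _ ⟨x, hx⟩, cfMorphE]; simp
  · rw [cfMorph_suppOn _ _ x hx, hφ x hx]

theorem sum_Irr_cfMorph {X : Type*} [AddCommMonoid X] (f : H ≃* H') (F : (G → ℂ) → X) :
    ∑ α ∈ Irr H', F (cfMorph (f : H →* H') α) = ∑ χ ∈ Irr H, F χ := by
  refine Finset.sum_bij (fun α _ => cfMorph (f : H →* H') α) (fun α hα => ?_) (fun α hα β hβ e => ?_)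
    (fun χ hχ => ?_) fun _ _ => rfl
  · exact mem_Irr.2 ((mem_Irr.1 hα).cfMorph _ f.surjective)
  · exact cfMorph_inj _ f.surjective (mem_Irr.1 hα).mem_CF (mem_Irr.1 hβ).mem_CF e
  · exact ⟨_, mem_Irr.2 ((mem_Irr.1 hχ).cfMorph _ f.symm.surjective),
      cfMorph_symm f (CF_le_suppOn _ (mem_Irr.1 hχ).mem_CF)⟩

end Morph

end Cfsg.Agent.OO
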