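import Mathlib
import Cfsg.Agent.Lib.OO.CF6b

/-!
# CF7: automorphisms of `ℂ`, congruences of algebraic integers, Galois action on characters,
central characters
-/

set_option autoImplicit false
set_option linter.unusedSectionVars false

namespace Cfsg.Agent.OO

open Subgroup
open scoped Pointwise ComplexConjugate commutatorElement

universe u v

/-! ### automorphisms of `ℂ` -/

section Aut

variable {a b z : ℂ} {n k : ℕ}

/-- an automorphism of a subfield extends to `ℂ` -/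
theorem exists_aut_extend {F : Type*} [Field F] [Algebra F ℂ] (K : IntermediateField F ℂ)
    (σ : K ≃+* K) : ∃ u : ℂ ≃+* ℂ, ∀ x : K, u x = σ x := by
  obtain ⟨s, hs⟩ := exists_isTranscendenceBasis K ℂ
  have := IsAlgClosed.isAlgClosure_of_transcendence_basis _ hs
  let e := hs.1.aevalEquiv.toRingEquiv
  refine ⟨IsAlgClosure.equivOfEquiv ℂ ℂ (e.symm.trans ((MvPolynomial.mapEquiv s σ).trans e)),
    fun x => ?_⟩
  have h1 : ∀ x : K, (x : ℂ) = algebraMap _ ℂ (e (MvPolynomial.C x)) := fun x => by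
    rw [← MvPolynomial.algebraMap_eq]
    exact (congrArg Subtype.val (hs.1.aevalEquiv.commutes x)).symm
  rw [h1, IsAlgClosure.equivOfEquiv_algebraMap, h1]
  simp

theorem exists_aut_of_minpoly_eq {F : Type*} [Field F] [Algebra F ℂ] (ha : IsIntegral F a)
    (hb : IsIntegral F b) (h : minpoly F a = minpoly F b) : ∃ u : ℂ ≃+* ℂ, u a = b := by
  let a' : algebraicClosure F ℂ := ⟨a, mem_algebraicClosure_iff'.2 ha⟩
  let b' : algebraicClosure F ℂ := ⟨b, mem_algebraicClosure_iff'.2 hb⟩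
  have h' : IsConjRoot F b' a' := by
    unfold IsConjRoot
    rw [IntermediateField.minpoly_eq, IntermediateField.minpoly_eq]; exact h.symm
  obtain ⟨σ, hσ⟩ := h'.exists_algEquiv
  obtain ⟨u, hu⟩ := exists_aut_extend _ σ.toRingEquiv
  exact ⟨u, (hu a').trans (congrArg Subtype.val hσ)⟩

theorem mem_range_of_forall_aut {F : Type*} [Field F] [CharZero F] [Algebra F ℂ] (ha : IsIntegral F a)
    (h : ∀ u : ℂ ≃+* ℂ, u a = a) : ∃ r : F, a = algebraMap F ℂ r := by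
  let a' : algebraicClosure F ℂ := ⟨a, mem_algebraicClosure_iff'.2 ha⟩
  obtain ⟨r, hr⟩ := (InfiniteGalois.mem_range_algebraMap_iff_fixed (k := F) a').2 fun σ => by
    obtain ⟨u, hu⟩ := exists_aut_extend _ σ.toRingEquiv
    exact Subtype.ext ((hu a').symm.trans (h u))
  exact ⟨r, (congrArg Subtype.val hr).symm⟩

/-- an algebraic number fixed by all automorphisms is rational -/
theorem rat_of_forall_aut (ha : IsIntegral ℚ a) (h : ∀ u : ℂ ≃+* ℂ, u a = a) : ∃ r : ℚ, a = r :=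
  mem_range_of_forall_aut ha h

theorem isCint_of_forall_aut (ha : IsIntegral ℤ a) (h : ∀ u : ℂ ≃+* ℂ, u a = a) : IsCint a := by
  obtain ⟨r, rfl⟩ := rat_of_forall_aut ha.tower_top h
  exact isCint_of_isIntegral_rat ha

/-- `Cint_rat_Aint` -/
theorem Cint_rat_Aint (h : ∃ r : ℚ, a = r) (ha : IsIntegral ℤ a) : IsCint a := by
  obtain ⟨r, rfl⟩ := h
  exact isCint_of_isIntegral_rat ha

theorem exists_prim_root (hn : n ≠ 0) : ∃ ζ : ℂ, IsPrimitiveRoot ζ n :=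
  ⟨_, Complex.isPrimitiveRoot_exp n hn⟩

/-- the Galois automorphism `ζ ↦ ζ ^ k` of the `n`-th roots of unity -/
theorem exists_aut_pow (hn : n ≠ 0) (hk : k.Coprime n) :
    ∃ u : ℂ ≃+* ℂ, ∀ z : ℂ, z ^ n = 1 → u z = z ^ k := by
  obtain ⟨ζ, hζ⟩ := exists_prim_root hn
  have hζ' := hζ.pow_of_coprime k hk
  have hp := Nat.pos_of_ne_zero hn
  obtain ⟨u, hu⟩ := exists_aut_of_minpoly_eq (hζ.isIntegral hp).tower_top (hζ'.isIntegral hp).tower_top
    (by rw [← Polynomial.cyclotomic_eq_minpoly_rat hζ hp, Polynomial.cyclotomic_eq_minpoly_rat hζ' hp])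
  refine ⟨u, fun z hz => ?_⟩
  have := NeZero.mk hn
  obtain ⟨i, -, rfl⟩ := hζ.eq_pow_of_pow_eq_one hz
  rw [map_pow, hu, ← pow_mul, ← pow_mul, mul_comm]

/-- an automorphism acts on the `n`-th roots of unity as a power map -/
theorem aut_root_pow (u : ℂ ≃+* ℂ) (hn : n ≠ 0) :
    ∃ k : ℕ, k.Coprime n ∧ ∀ z : ℂ, z ^ n = 1 → u z = z ^ k := by
  obtain ⟨ζ, hζ⟩ := exists_prim_root hn
  have := NeZero.mk hn
  have h1 : IsPrimitiveRoot (u ζ) n := hζ.map_of_injective u.injective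
  obtain ⟨k, -, hk⟩ := hζ.eq_pow_of_pow_eq_one h1.pow_eq_one
  refine ⟨k, (hζ.pow_iff_coprime (Nat.pos_of_ne_zero hn) k).1 (hk ▸ h1), fun z hz => ?_⟩
  obtain ⟨i, -, rfl⟩ := hζ.eq_pow_of_pow_eq_one hz
  rw [map_pow, ← hk, ← pow_mul, ← pow_mul, mul_comm]

/-- (1.9)(a): `u` agrees with `v` on the `a`-th roots of unity and fixes the `b`-th roots of unity -/
theorem extend_coprime_aut {a b : ℕ} (ha : a ≠ 0) (hb : b ≠ 0) (hab : a.Coprime b) (v : ℂ ≃+* ℂ) :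
    ∃ u : ℂ ≃+* ℂ, (∀ z : ℂ, z ^ a = 1 → u z = v z) ∧ ∀ z : ℂ, z ^ b = 1 → u z = z := by
  obtain ⟨k, hk, hv⟩ := aut_root_pow v ha
  obtain ⟨m, h1, h2⟩ := Nat.chineseRemainder hab k 1
  have hm : m.Coprime (a * b) := Nat.Coprime.mul_right
    (by rw [Nat.Coprime, h1.gcd_eq]; exact hk) (by rw [Nat.Coprime, h2.gcd_eq]; simp)
  obtain ⟨u, hu⟩ := exists_aut_pow (mul_ne_zero ha hb) hm
  refine ⟨u, fun z hz => ?_, fun z hz => ?_⟩
  · rw [hu z (by rw [pow_mul, hz, one_pow]), hv z hz, pow_eq_pow_of_modEq h1 hz]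
  · rw [hu z (by rw [mul_comm, pow_mul, hz, one_pow]), pow_eq_pow_of_modEq h2 hz, pow_one]

theorem Aint_aut (u : ℂ ≃+* ℂ) (ha : IsIntegral ℤ a) : IsIntegral ℤ (u a) :=
  ha.map u.toRingHom.toIntAlgHom

theorem Aint_conj (ha : IsIntegral ℤ a) : IsIntegral ℤ (conj a) := Aint_aut conjAut ha

theorem Aint_unity_root (hn : n ≠ 0) (h : z ^ n = 1) : IsIntegral ℤ z :=
  IsIntegral.of_pow (Nat.pos_of_ne_zero hn) (by rw [h]; exact isIntegral_one)

theorem Aint_natCast (n : ℕ) : IsIntegral ℤ (n : ℂ) := (isCint_natCast n).isIntegral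
theorem Aint_intCast (n : ℤ) : IsIntegral ℤ (n : ℂ) := (isCint_intCast n).isIntegral

/-- an integer quotient which is an algebraic integer is an integer -/
theorem int_dvd_of_Aint_div {m d : ℤ} (hd : d ≠ 0) (h : IsIntegral ℤ ((m : ℂ) / d)) : d ∣ m := by
  obtain ⟨z, hz⟩ := isCint_of_isIntegral_rat (r := (m : ℚ) / d) (by simpa using h)
  have hd' : (d : ℂ) ≠ 0 := by exact_mod_cast hd
  refine ⟨z, ?_⟩
  have : (m : ℂ) = d * z := by rw [← hz]; push_cast; field_simp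
  exact_mod_cast this

end Aut

/-! ### congruences -/

section Cong

variable {e e' a b c d : ℂ}

theorem eqAmod_iff_sub : EqAmod e a b ↔ EqAmod e (a - b) 0 := by simp [EqAmod]
theorem eqAmod_refl (e a : ℂ) : EqAmod e a a := ⟨0, isIntegral_zero, by simp⟩
theorem eqAmod_of_eq (h : a = b) : EqAmod e a b := h ▸ eqAmod_refl e a
theorem EqAmod.symm (h : EqAmod e a b) : EqAmod e b a := by
  obtain ⟨z, hz, h⟩ := h
  exact ⟨-z, hz.neg, by linear_combination -h⟩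
theorem EqAmod.add (h : EqAmod e a b) (h' : EqAmod e c d) : EqAmod e (a + c) (b + d) := by
  obtain ⟨z, hz, h⟩ := h
  obtain ⟨w, hw, h'⟩ := h'
  exact ⟨z + w, hz.add hw, by linear_combination h + h'⟩
theorem EqAmod.neg (h : EqAmod e a b) : EqAmod e (-a) (-b) := by
  obtain ⟨z, hz, h⟩ := h
  exact ⟨-z, hz.neg, by linear_combination -h⟩
theorem EqAmod.sub (h : EqAmod e a b) (h' : EqAmod e c d) : EqAmod e (a - c) (b - d) := by
  simpa [sub_eq_add_neg] using h.add h'.neg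
theorem EqAmod.trans (h : EqAmod e a b) (h' : EqAmod e b c) : EqAmod e a c := by
  obtain ⟨z, hz, h⟩ := h.add h'
  exact ⟨z, hz, by linear_combination h⟩
theorem EqAmod.mul_left (h : EqAmod e a b) (hc : IsIntegral ℤ c) : EqAmod e (c * a) (c * b) := by
  obtain ⟨z, hz, h⟩ := h
  exact ⟨c * z, hc.mul hz, by linear_combination c * h⟩
theorem EqAmod.mul_right (h : EqAmod e a b) (hc : IsIntegral ℤ c) : EqAmod e (a * c) (b * c) := by
  simpa [mul_comm] using h.mul_left hc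
theorem EqAmod.mul (h : EqAmod e a b) (h' : EqAmod e c d) (hb : IsIntegral ℤ b) (hc : IsIntegral ℤ c) :
    EqAmod e (a * c) (b * d) := (h.mul_right hc).trans (h'.mul_left hb)
theorem eqAmod_sum {ι : Type*} {s : Finset ι} {f g : ι → ℂ} (h : ∀ i ∈ s, EqAmod e (f i) (g i)) :
    EqAmod e (∑ i ∈ s, f i) (∑ i ∈ s, g i) := by
  classical
  induction s using Finset.induction_on with
  | empty => exact eqAmod_refl _ _
  | insert i s hi ih =>
    rw [Finset.sum_insert hi, Finset.sum_insert hi]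
    exact (h i (by simp)).add (ih fun j hj => h j (by simp [hj]))
theorem eqAmod_sum_zero {ι : Type*} {s : Finset ι} {f : ι → ℂ} (h : ∀ i ∈ s, EqAmod e (f i) 0) :
    EqAmod e (∑ i ∈ s, f i) 0 := by simpa using eqAmod_sum h
theorem eqAmod_mul_zero (e : ℂ) (ha : IsIntegral ℤ a) : EqAmod e (e * a) 0 := ⟨a, ha, sub_zero _⟩
theorem EqAmod.of_mul (h : EqAmod (e * e') a b) (he : IsIntegral ℤ e') : EqAmod e a b := by
  obtain ⟨z, hz, h⟩ := h
  exact ⟨e' * z, he.mul hz, by rw [h, mul_assoc]⟩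
theorem EqAmod.of_dvd {m n : ℕ} (h : EqAmod n a b) (hm : m ∣ n) : EqAmod m a b := by
  obtain ⟨k, rfl⟩ := hm
  rw [Nat.cast_mul] at h
  exact h.of_mul (Aint_natCast k)
theorem EqAmod.scale (h : EqAmod e a b) (c : ℂ) : EqAmod (c * e) (c * a) (c * b) := by
  obtain ⟨z, hz, h⟩ := h
  exact ⟨z, hz, by linear_combination c * h⟩
theorem EqAmod.cancel (h : EqAmod (c * e) (c * a) (c * b)) (hc : c ≠ 0) : EqAmod e a b := by
  obtain ⟨z, hz, h⟩ := h
  exact ⟨z, hz, mul_left_cancel₀ hc (by linear_combination h)⟩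
theorem EqAmod.aut (h : EqAmod e a b) (u : ℂ ≃+* ℂ) : EqAmod (u e) (u a) (u b) := by
  obtain ⟨z, hz, h⟩ := h
  exact ⟨u z, Aint_aut u hz, by rw [← map_sub, h, map_mul]⟩
theorem EqAmod.pow (h : EqAmod e a b) (ha : IsIntegral ℤ a) (hb : IsIntegral ℤ b) (k : ℕ) :
    EqAmod e (a ^ k) (b ^ k) := by
  induction k with
  | zero => simpa using eqAmod_refl _ _
  | succ k ih => rw [pow_succ, pow_succ]; exact ih.mul h (hb.pow k) ha
/-- cancellation of a factor coprime to the modulus -/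
theorem EqAmod.cancel_coprime {m n : ℕ} (h : EqAmod n (m * a) (m * b)) (hc : m.Coprime n)
    (hab : IsIntegral ℤ (a - b)) : EqAmod n a b := by
  obtain ⟨z, hz, h⟩ := h
  have h1 := Nat.gcd_eq_gcd_ab m n
  rw [hc.gcd_eq_one] at h1
  have h2 : (1 : ℂ) = m * Nat.gcdA m n + n * Nat.gcdB m n := by exact_mod_cast h1
  exact ⟨Nat.gcdA m n * z + Nat.gcdB m n * (a - b), ((Aint_intCast _).mul hz).add
    ((Aint_intCast _).mul hab), by linear_combination (a - b) * h2 + (Nat.gcdA m n : ℂ) * h⟩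

theorem EqCmod.eqAmod (h : EqCmod e a b) : EqAmod e a b := by
  obtain ⟨z, h⟩ := h
  exact ⟨z, Aint_intCast z, h⟩
theorem EqAmod.eqCmod (h : EqAmod e a b) (he : IsCint e) (hab : IsCint (a - b)) : EqCmod e a b := by
  obtain ⟨z, hz, h⟩ := h
  obtain ⟨m, rfl⟩ := he
  obtain ⟨k, hk⟩ := hab
  by_cases hm : m = 0
  · exact ⟨0, by simp [h, hm]⟩
  have hm' : (m : ℂ) ≠ 0 := by exact_mod_cast hm
  obtain ⟨t, ht⟩ := int_dvd_of_Aint_div (m := k) hm (by rwa [← hk, h, mul_div_cancel_left₀ _ hm'])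
  exact ⟨t, by rw [hk, ht]; push_cast; rfl⟩
theorem eqCmod_int {m x y : ℤ} : EqCmod m x y ↔ m ∣ x - y :=
  ⟨fun ⟨z, h⟩ => ⟨z, by exact_mod_cast h⟩, fun ⟨z, h⟩ => ⟨z, by exact_mod_cast h⟩⟩
theorem eqAmod_int {m x y : ℤ} : EqAmod m x y ↔ m ∣ x - y :=
  ⟨fun h => eqCmod_int.1 (h.eqCmod (isCint_intCast _) ((isCint_intCast _).sub (isCint_intCast _))),
    fun h => (eqCmod_int.2 h).eqAmod⟩
theorem eqCmod_nat {m x y : ℕ} : EqCmod m x y ↔ x ≡ y [MOD m] := by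
  rw [Nat.modEq_iff_dvd, ← dvd_neg, neg_sub, ← eqCmod_int]; simp
theorem eqAmod_nat {m x y : ℕ} : EqAmod m x y ↔ x ≡ y [MOD m] := by
  rw [Nat.modEq_iff_dvd, ← dvd_neg, neg_sub, ← eqAmod_int]; simp
theorem eqAmod0_nat {m x : ℕ} : EqAmod m x 0 ↔ m ∣ x := by
  rw [← Nat.modEq_zero_iff_dvd, ← eqAmod_nat]; simp
theorem eqCmod0_nat {m x : ℕ} : EqCmod m x 0 ↔ m ∣ x := by
  rw [← Nat.modEq_zero_iff_dvd, ← eqCmod_nat]; simp

theorem eqCmod_refl (e a : ℂ) : EqCmod e a a := ⟨0, by simp⟩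
theorem eqCmod_of_eq (h : a = b) : EqCmod e a b := h ▸ eqCmod_refl e a
theorem EqCmod.symm (h : EqCmod e a b) : EqCmod e b a := by
  obtain ⟨z, h⟩ := h
  exact ⟨-z, by push_cast; linear_combination -h⟩
theorem EqCmod.add (h : EqCmod e a b) (h' : EqCmod e c d) : EqCmod e (a + c) (b + d) := by
  obtain ⟨z, h⟩ := h
  obtain ⟨w, h'⟩ := h'
  exact ⟨z + w, by push_cast; linear_combination h + h'⟩
theorem EqCmod.neg (h : EqCmod e a b) : EqCmod e (-a) (-b) := by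
  obtain ⟨z, h⟩ := h
  exact ⟨-z, by push_cast; linear_combination -h⟩
theorem EqCmod.sub (h : EqCmod e a b) (h' : EqCmod e c d) : EqCmod e (a - c) (b - d) := by
  simpa [sub_eq_add_neg] using h.add h'.neg
theorem EqCmod.trans (h : EqCmod e a b) (h' : EqCmod e b c) : EqCmod e a c := by
  obtain ⟨z, h⟩ := h.add h'
  exact ⟨z, by linear_combination h⟩
theorem EqCmod.mul_left (h : EqCmod e a b) (hc : IsCint c) : EqCmod e (c * a) (c * b) := by
  obtain ⟨z, h⟩ := h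
  obtain ⟨w, rfl⟩ := hc
  exact ⟨w * z, by push_cast; linear_combination w * h⟩
theorem EqCmod.mul_right (h : EqCmod e a b) (hc : IsCint c) : EqCmod e (a * c) (b * c) := by
  simpa [mul_comm] using h.mul_left hc
theorem EqCmod.mul (h : EqCmod e a b) (h' : EqCmod e c d) (hb : IsCint b) (hc : IsCint c) :
    EqCmod e (a * c) (b * d) := (h.mul_right hc).trans (h'.mul_left hb)
theorem eqCmod_sum {ι : Type*} {s : Finset ι} {f g : ι → ℂ} (h : ∀ i ∈ s, EqCmod e (f i) (g i)) :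
    EqCmod e (∑ i ∈ s, f i) (∑ i ∈ s, g i) := by
  classical
  induction s using Finset.induction_on with
  | empty => exact eqCmod_refl _ _
  | insert i s hi ih =>
    rw [Finset.sum_insert hi, Finset.sum_insert hi]
    exact (h i (by simp)).add (ih fun j hj => h j (by simp [hj]))
theorem eqCmod_mul_zero (e : ℂ) (ha : IsCint a) : EqCmod e (e * a) 0 := by
  obtain ⟨z, rfl⟩ := ha
  exact ⟨z, sub_zero _⟩
theorem EqCmod.isCint (h : EqCmod e a b) (he : IsCint e) (hb : IsCint b) : IsCint a := by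
  obtain ⟨z, h⟩ := h
  rw [show a = b + e * z by linear_combination h]
  exact hb.add (he.mul (isCint_intCast z))
theorem EqCmod.of_dvd {m n : ℕ} (h : EqCmod n a b) (hm : m ∣ n) : EqCmod m a b := by
  obtain ⟨k, rfl⟩ := hm
  obtain ⟨z, h⟩ := h
  exact ⟨k * z, by push_cast at h ⊢; linear_combination h⟩
/-- `a² ≡ a (mod 2)` -/
theorem IsCint.sq_eqCmod_two (ha : IsCint a) : EqCmod 2 (a * a) a := by
  obtain ⟨z, rfl⟩ := ha
  obtain ⟨t, ht⟩ := Int.even_mul_pred_self z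
  refine ⟨t, ?_⟩
  have : (z : ℂ) * (z - 1) = t + t := by exact_mod_cast ht
  linear_combination this
theorem IsCint.eqCmod_two_cases (ha : IsCint a) : EqCmod 2 a 0 ∨ EqCmod 2 a 1 := by
  obtain ⟨z, rfl⟩ := ha
  obtain ⟨t, h | h⟩ := Int.even_or_odd' z
  · exact .inl ⟨t, by rw [h]; push_cast; ring⟩
  · exact .inr ⟨t, by rw [h]; push_cast; ring⟩
theorem not_eqCmod_two_one_zero : ¬ EqCmod 2 1 0 := fun h => by
  have := (eqCmod_nat (m := 2) (x := 1) (y := 0)).1 (by simpa using h)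
  exact absurd this (by decide)

/-- a root of unity `ε ^ k` is congruent to `1` modulo `1 - ε` -/
theorem eqAmod_pow_one {ε : ℂ} (hε : IsIntegral ℤ ε) (k : ℕ) : EqAmod (1 - ε) (ε ^ k) 1 := by
  have h : EqAmod (1 - ε) ε 1 := ⟨-1, isIntegral_one.neg, by ring⟩
  simpa using h.pow hε isIntegral_one k

/-- (1.10)(b) -/
theorem int_eqAmod_prime_prim {p : ℕ} (hp : p.Prime) {ε : ℂ} (hε : IsPrimitiveRoot ε p) {n : ℤ}
    (h : EqAmod (1 - ε) n 0) : (p : ℤ) ∣ n := by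
  -- `n ^ (p - 1) ≡ 0` modulo `∏ (1 - ε ^ k) = p`
  obtain ⟨q, rfl⟩ : ∃ q, p = q + 1 := ⟨p - 1, by have := hp.pos; omega⟩
  have h1 : ∀ k ∈ Finset.range q, ∃ z, IsIntegral ℤ z ∧ (n : ℂ) = (1 - ε ^ (k + 1)) * z := by
    intro k hk
    obtain ⟨u, hu⟩ := exists_aut_pow (k := k + 1) hp.ne_zero
      (Nat.coprime_of_lt_prime k.succ_ne_zero (by simpa using hk) hp).symm
    obtain ⟨z, hz, e⟩ := h.aut u
    exact ⟨z, hz, by simpa [hu ε hε.pow_eq_one] using e⟩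
  choose! z hz using h1
  have h2 : EqAmod ((q + 1 : ℕ) : ℤ) (n ^ q : ℤ) (0 : ℤ) := ⟨∏ k ∈ Finset.range q, z k,
    IsIntegral.prod _ fun k hk => (hz k hk).1, by
      push_cast
      rw [← hε.prod_one_sub_pow_eq_order, ← Finset.prod_mul_distrib, sub_zero,
        ← Finset.prod_congr rfl fun k hk => (hz k hk).2]
      simp⟩
  exact (Nat.prime_iff_prime_int.1 hp).dvd_of_dvd_pow (by simpa using eqAmod_int.1 h2)

end Cong

/-! ### Galois action on character values -/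

variable {G : Type u} [Group G] [Finite G] {H K L N Z : Subgroup G} {φ ψ θ χ ξ l : G → ℂ} {x y : G}
  {k : ℕ}

theorem vchar_aut_congr (hχ : χ ∈ ZIrr H) {u v : ℂ ≃+* ℂ} (h : ∀ z : ℂ, z ^ orderOf x = 1 → u z = v z) :
    u (χ x) = v (χ x) := by
  by_cases hx : x ∈ H
  swap
  · rw [cfun0 (vchar_mem_CF hχ) hx, map_zero, map_zero]
  have key : ∀ χ, IsChar H χ → u (χ x) = v (χ x) := fun χ hχ => by
    obtain ⟨s, -, hs, hk⟩ := hχ.exists_roots hx
    have := hk 1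
    simp only [zpow_one, Multiset.map_id'] at this
    rw [this, map_multiset_sum, map_multiset_sum, Multiset.map_congr rfl fun z hz => h z (hs z hz)]
  obtain ⟨a, b, ha, hb, rfl⟩ := vcharP.1 hχ
  rw [Pi.sub_apply, map_sub, map_sub, key a ha, key b hb]

theorem vchar_aut_pow (hχ : χ ∈ ZIrr H) (hx : x ∈ H) {u : ℂ ≃+* ℂ}
    (h : ∀ z : ℂ, z ^ orderOf x = 1 → u z = z ^ k) : u (χ x) = χ (x ^ k) := by
  have key : ∀ χ, IsChar H χ → u (χ x) = χ (x ^ k) := fun χ hχ => by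
    obtain ⟨s, -, hs, hk⟩ := hχ.exists_roots hx
    have h1 := hk 1
    have h2 := hk k
    simp only [zpow_one, Multiset.map_id', zpow_natCast] at h1 h2
    rw [h1, h2, map_multiset_sum, Multiset.map_congr rfl fun z hz => h z (hs z hz)]
  obtain ⟨a, b, ha, hb, rfl⟩ := vcharP.1 hχ
  rw [Pi.sub_apply, map_sub, key a ha, key b hb, Pi.sub_apply]

omit [Finite G] in
theorem pow_eq_one_of_orderOf_dvd {z : ℂ} {n : ℕ} (h : orderOf x ∣ n) (hz : z ^ orderOf x = 1) :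
    z ^ n = 1 := by
  obtain ⟨m, rfl⟩ := h
  rw [pow_mul, hz, one_pow]

/-- every automorphism acts on the values of virtual characters as a power map -/
theorem aut_vchar_pow (u : ℂ ≃+* ℂ) : ∃ k : ℕ, k.Coprime (Nat.card G) ∧
    ∀ (H : Subgroup G) (χ : G → ℂ) (x : G), χ ∈ ZIrr H → x ∈ H → u (χ x) = χ (x ^ k) := by
  obtain ⟨k, hk, hu⟩ := aut_root_pow u (Nat.card_pos (α := G)).ne'
  exact ⟨k, hk, fun H χ x hχ hx => vchar_aut_pow hχ hx fun z hz =>
    hu z (pow_eq_one_of_orderOf_dvd (orderOf_dvd_natCard x) hz)⟩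

theorem exists_aut_vchar_pow (hk : k.Coprime (orderOf x)) : ∃ u : ℂ ≃+* ℂ,
    ∀ (H : Subgroup G) (χ : G → ℂ), χ ∈ ZIrr H → x ∈ H → u (χ x) = χ (x ^ k) := by
  obtain ⟨u, hu⟩ := exists_aut_pow (orderOf_pos x).ne' hk
  exact ⟨u, fun H χ hχ hx => vchar_aut_pow hχ hx hu⟩

theorem vchar_pow_eq_zero_iff (hχ : χ ∈ ZIrr H) (hx : x ∈ H) (hk : k.Coprime (orderOf x)) :
    χ (x ^ k) = 0 ↔ χ x = 0 := by
  obtain ⟨u, hu⟩ := exists_aut_vchar_pow hk
  rw [← hu H χ hχ hx, map_eq_zero]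

/-- a virtual character constant on the generators of `⟨x⟩` has an integer value at `x` -/
theorem Cint_vchar_of_pow (hχ : χ ∈ ZIrr H) (h : ∀ k : ℕ, k.Coprime (orderOf x) → χ (x ^ k) = χ x) :
    IsCint (χ x) := by
  by_cases hx : x ∈ H
  swap
  · rw [cfun0 (vchar_mem_CF hχ) hx]; exact isCint_zero
  refine isCint_of_forall_aut (Aint_vchar hχ x) fun u => ?_
  obtain ⟨k, hk, hu⟩ := aut_vchar_pow (G := G) u
  rw [hu H χ x hχ hx, h k (hk.coprime_dvd_right (orderOf_dvd_natCard x))]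

/-- intermediate step of (1.9)(b) -/
theorem dvd_restrict_cfAut (a : ℕ) (v : ℂ ≃+* ℂ) : ∃ u : ℂ ≃+* ℂ,
    (∀ (H : Subgroup G) (χ : G → ℂ) (x : G), χ ∈ ZIrr H → orderOf x ∣ a → u (χ x) = v (χ x)) ∧
    ∀ (H : Subgroup G) (χ : G → ℂ) (x : G), χ ∈ ZIrr H → (orderOf x).Coprime a → u (χ x) = χ x := by
  classical
  by_cases ha : a = 0
  · refine ⟨v, fun _ _ _ _ _ => rfl, fun H χ x hχ hx => ?_⟩
    rw [ha, Nat.coprime_zero_right, orderOf_eq_one_iff] at hx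
    rw [hx, (Cint_vchar1 hχ).aut_eq]
  obtain ⟨u, h1, h2⟩ := extend_coprime_aut (b := ∏ x ∈ elts {x : G | (orderOf x).Coprime a}, orderOf x)
    ha (Finset.prod_ne_zero_iff.2 fun x _ => (orderOf_pos x).ne')
    (Nat.Coprime.prod_right fun x hx => (mem_elts.1 hx).symm) v
  exact ⟨u, fun H χ x hχ hx => vchar_aut_congr hχ fun z hz => h1 z (pow_eq_one_of_orderOf_dvd hx hz),
    fun H χ x hχ hx => vchar_aut_congr (v := RingEquiv.refl ℂ) hχ fun z hz =>
      h2 z (pow_eq_one_of_orderOf_dvd (Finset.dvd_prod_of_mem _ (mem_elts.2 hx)) hz)⟩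

/-- (1.9)(b) -/
theorem make_pi_cfAut {a k : ℕ} (h : k.Coprime a) : ∃ u : ℂ ≃+* ℂ,
    (∀ (H : Subgroup G) (χ : G → ℂ) (x : G), χ ∈ ZIrr H → x ∈ H → orderOf x ∣ a → u (χ x) = χ (x ^ k)) ∧
    ∀ (H : Subgroup G) (χ : G → ℂ) (x : G), χ ∈ ZIrr H → (orderOf x).Coprime a → u (χ x) = χ x := by
  by_cases ha : a = 0
  · rw [ha, Nat.coprime_zero_right] at h
    exact ⟨RingEquiv.refl ℂ, fun _ _ _ _ _ _ => by simp [h], fun _ _ _ _ _ => rfl⟩
  obtain ⟨v, hv⟩ := exists_aut_pow ha h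
  obtain ⟨u, h1, h2⟩ := dvd_restrict_cfAut (G := G) a v
  exact ⟨u, fun H χ x hχ hx hd => (h1 H χ x hχ hd).trans
    (vchar_aut_pow hχ hx fun z hz => hv z (pow_eq_one_of_orderOf_dvd hd hz)), h2⟩

/-- `sum_norm2_char_generators`, for a set closed under the Galois action -/
theorem sum_norm2_vchar_ge (hχ : χ ∈ ZIrr H) {A : Set G}
    (hA : ∀ x ∈ A, ∀ k : ℕ, k.Coprime (Nat.card G) → x ^ k ∈ A) (h0 : ∀ x ∈ A, χ x ≠ 0) :
    (A.ncard : ℝ) ≤ ∑ x ∈ elts A, ‖χ x‖ ^ 2 := by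
  have hH : ∀ x ∈ A, x ∈ H := fun x hx => by_contra fun h => h0 x hx (cfun0 (vchar_mem_CF hχ) h)
  have h1 : IsCint (∏ x ∈ elts A, χ x) := by
    refine isCint_of_forall_aut (IsIntegral.prod _ fun x _ => Aint_vchar hχ x) fun u => ?_
    obtain ⟨k, hk, hu⟩ := aut_vchar_pow (G := G) u
    rw [map_prod, Finset.prod_congr rfl fun x hx => hu H χ x hχ (hH x (mem_elts.1 hx))]
    have hi : Set.InjOn (· ^ k) (elts A : Set G) := (powCoprime hk.symm).injective.injOn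
    have hm : Set.MapsTo (· ^ k) (elts A : Set G) (elts A) := fun x hx =>
      mem_elts.2 (hA x (mem_elts.1 hx) k hk)
    exact Finset.prod_nbij (· ^ k) hm hi (Finset.surjOn_of_injOn_of_card_le _ hm hi le_rfl)
      fun _ _ => rfl
  have h2 := h1.one_le_norm (Finset.prod_ne_zero_iff.2 fun x hx => h0 x (mem_elts.1 hx))
  have h3 : ∀ x ∈ elts A, 1 + 2 * Real.log ‖χ x‖ ≤ ‖χ x‖ ^ 2 := fun x hx => by
    have := Real.log_le_sub_one_of_pos (pow_pos (norm_pos_iff.2 (h0 x (mem_elts.1 hx))) 2)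
    rw [Real.log_pow] at this
    push_cast at this
    linarith
  refine le_trans ?_ (Finset.sum_le_sum h3)
  rw [Finset.sum_add_distrib, ← Finset.mul_sum, ← Real.log_prod fun x hx =>
    norm_ne_zero_iff.2 (h0 x (mem_elts.1 hx)), ← norm_prod, Finset.sum_const, card_elts_set]
  have := Real.log_nonneg h2
  simp only [nsmul_eq_mul, mul_one]
  linarith

/-- Galois conjugates of linear characters are powers -/
theorem cfAut_lin_char (hl : IsLinChar H l) {u : ℂ ≃+* ℂ} (hk : k ≠ 0)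
    (h : ∀ z : ℂ, z ^ cforder H l = 1 → u z = z ^ k) : cfAut u l = l ^ k :=
  cfun_ext (hl.cfAut u).mem_CF (hl.pow hk).mem_CF fun _ hx => h _ (pow_cforder l hx)

theorem exists_aut_lin_pow (hl : IsLinChar H l) (hk : k.Coprime (cforder H l)) (h0 : k ≠ 0) :
    ∃ u : ℂ ≃+* ℂ, cfAut u l = l ^ k := by
  obtain ⟨u, hu⟩ := exists_aut_pow (cforder_lin_char_gt0 hl).ne' hk
  exact ⟨u, cfAut_lin_char hl h0 hu⟩

/-- the nontrivial characters of a group of prime order are Galois conjugate -/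
theorem cfExp_prime_transitive (hp : (♯H).Prime) (hχ : IsIrr H χ) (h1 : χ ≠ cf1 H) (hψ : IsIrr H ψ)
    (h2 : ψ ≠ cf1 H) : ∃ k : ℕ, k ≠ 0 ∧ k.Coprime ♯H ∧ ψ = χ ^ k := by
  have := Fact.mk hp
  have := NeZero.mk hp.ne_zero
  have hχ' := irr_prime_lin hp hχ
  have hψ' := irr_prime_lin hp hψ
  obtain ⟨x, rfl⟩ := exists_zpowers_eq (isCyclic_of_prime hp)
  have hx := mem_zpowers x
  have e1 := lin_char_unity_root hχ' hx
  have e2 := lin_char_unity_root hψ' hx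
  rw [← Nat.card_zpowers] at e1 e2
  have h3 : IsPrimitiveRoot (χ x) ♯(zpowers x) := by
    rw [← orderOf_eq_prime e1 fun h => h1 (hχ'.ext_zpowers (isLinChar_cf1 _) (by rw [h, cf1E hx]))]
    exact IsPrimitiveRoot.orderOf _
  obtain ⟨k, hk, e⟩ := h3.eq_pow_of_pow_eq_one e2
  have h0 : k ≠ 0 := by
    rintro rfl
    exact h2 (hψ'.ext_zpowers (isLinChar_cf1 _) (by rw [← e, pow_zero, cf1E hx]))
  exact ⟨k, h0, (Nat.coprime_of_lt_prime h0 hk hp).symm, hψ'.ext_zpowers (hχ'.pow h0) e.symm⟩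

theorem exists_aut_prime_irr (hp : (♯H).Prime) (hχ : IsIrr H χ) (h1 : χ ≠ cf1 H) (hψ : IsIrr H ψ)
    (h2 : ψ ≠ cf1 H) : ∃ u : ℂ ≃+* ℂ, ψ = cfAut u χ := by
  obtain ⟨k, h0, hk, rfl⟩ := cfExp_prime_transitive hp hχ h1 hψ h2
  have hl := irr_prime_lin hp hχ
  obtain ⟨u, hu⟩ := exists_aut_lin_pow hl (hk.coprime_dvd_right (cforder_lin_char_dvdG hl)) h0
  exact ⟨u, hu.symm⟩

theorem cforder_irr_prime (hp : (♯H).Prime) (hχ : IsIrr H χ) (h1 : χ ≠ cf1 H) : cforder H χ = ♯H :=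
  ((Nat.dvd_prime hp).1 (cforder_lin_char_dvdG (irr_prime_lin hp hχ))).resolve_left
    fun h => h1 ((cforder_eq_one_iff hχ.mem_CF).1 h)

/-- (1.10)(a) -/
theorem vchar_ker_mod_prim {p : ℕ} (hp : p.Prime) {ε : ℂ} (hε : IsPrimitiveRoot ε p) (hχ : χ ∈ ZIrr H)
    {x y : G} (hx : x ∈ H) (hy : y ∈ H) (ho : orderOf x = p) (hc : y ∈ 𝐂[x]) :
    EqAmod (1 - ε) (χ (x * y)) (χ y) := by
  have hxA : x ∈ H ⊓ 𝐂[x] := ⟨hx, mem_cent1_self x⟩
  have hyA : y ∈ H ⊓ 𝐂[x] := ⟨hy, hc⟩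
  have h1 := cfRes_vchar (inf_le_left : H ⊓ 𝐂[x] ≤ H) hχ
  rw [← cfResE χ (mul_mem hxA hyA), ← cfResE χ hyA, cfun_apply_sum_cfdot (vchar_mem_CF h1),
    cfun_apply_sum_cfdot (vchar_mem_CF h1)]
  refine eqAmod_sum fun ψ hψ => EqAmod.mul_left ?_ (Cint_cfdot_vchar_irr h1 (mem_Irr.1 hψ)).isIntegral
  obtain ⟨l, hl, -, e⟩ := (mem_Irr.1 hψ).exists_lin_of_central (zpowers_le.2 hxA) (by
    rw [commutator_eq_bot_iff_le_centralizer.2 (zpowers_le.2 (le_cent1_iff.1 inf_le_right))]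
    exact bot_le)
  have := NeZero.mk hp.ne_zero
  obtain ⟨i, -, hi⟩ := hε.eq_pow_of_pow_eq_one (ho ▸ lin_char_unity_root hl (mem_zpowers x))
  rw [e x (mem_zpowers x), ← hi]
  simpa using (eqAmod_pow_one (hε.isIntegral hp.pos) i).mul_right (Aint_char (mem_Irr.1 hψ).isChar y)

/-! ### central characters -/

/-- `∑ f(x) ρ(x)` is a scalar -/
theorem irr_conv (hχ : IsIrr H χ) {f : G → ℂ} (hf : f ∈ CF H) (y : G) :
    χ 1 * ∑ x ∈ elts (H : Set G), f x * χ (x * y) = (∑ x ∈ elts (H : Set G), f x * χ x) * χ y := by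
  by_cases hy : y ∈ H
  · have := Fintype.ofFinite H
    rw [sum_elts_subtype, sum_elts_subtype]
    exact Char.irr_convolution hχ.coe (mem_CF_iff.1 hf).2 ⟨y, hy⟩
  · rw [cfun0 hχ.mem_CF hy, mul_zero, Finset.sum_eq_zero fun x hx => by
      rw [cfun0 hχ.mem_CF (by rwa [H.mul_mem_cancel_left (mem_elts.1 hx)]), mul_zero], mul_zero]

theorem Aint_central (hχ : IsIrr H χ) {f : G → ℂ} (hf : f ∈ CF H) (hi : ∀ x, IsIntegral ℤ (f x)) :
    IsIntegral ℤ ((∑ x ∈ elts (H : Set G), f x * χ x) / χ 1) := by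
  have := Fintype.ofFinite H
  rw [sum_elts_subtype]
  exact Char.isIntegral_central hχ.coe (mem_CF_iff.1 hf).2 fun g => hi g

theorem index_cent1_subtype (hx : x ∈ H) :
    (centralizer {(⟨x, hx⟩ : H)}).index = (H ⊓ 𝐂[x]).relIndex H := by
  rw [inf_relIndex_left, relIndex]
  congr 1
  ext g
  simp [mem_subgroupOf, mem_centralizer_singleton_iff, Subtype.ext_iff]

theorem Aint_class_div_irr1 (hχ : IsIrr H χ) (x : G) :
    IsIntegral ℤ (((H ⊓ 𝐂[x]).relIndex H : ℂ) * χ x / χ 1) := by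
  by_cases hx : x ∈ H
  · rw [← index_cent1_subtype hx]; exact Char.isIntegral_centralChar hχ.coe ⟨x, hx⟩
  · rw [cfun0 hχ.mem_CF hx, mul_zero, zero_div]; exact isIntegral_zero

/-- Burnside: `coprime_degree_support_cfcenter` -/
theorem coprime_degree_support_cfcenter (hχ : IsIrr H χ) {n : ℕ} (hn : χ 1 = n)
    (hc : n.Coprime ((H ⊓ 𝐂[x]).relIndex H)) : χ x = 0 ∨ ‖χ x‖ = ‖χ 1‖ := by
  by_cases hx : x ∈ H
  · rw [← index_cent1_subtype hx] at hc
    exact (Char.irr_eq_zero_or_mem_center hχ.coe hn ⟨x, hx⟩ hc).imp_right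
      (Char.mem_charCenter hχ.isChar.coe _).1
  · exact .inl (cfun0 hχ.mem_CF hx)

/-- an element with `|χ x| = χ 1` acts as a scalar -/
theorem IsChar.exists_scalar_of_norm (hχ : IsChar H χ) (hx : x ∈ H) (h : ‖χ x‖ = ‖χ 1‖) :
    ∃ c : ℂ, c ^ orderOf x = 1 ∧ ∀ y, χ (x * y) = c * χ y := by
  obtain ⟨n, ρ, hρ⟩ := hχ.exists_rep
  obtain ⟨c, h1, hc⟩ := Char.rep_eq_smul_of_norm_eq ρ ⟨x, hx⟩ (by rw [← hρ, ← hρ]; exact h)
  refine ⟨c, by rwa [orderOf_mk] at h1, fun y => ?_⟩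
  by_cases hy : y ∈ H
  · have h2 := hρ (⟨x, hx⟩ * ⟨y, hy⟩)
    rw [Representation.character, map_mul, hc, smul_mul_assoc, one_mul, map_smul] at h2
    exact h2.trans (congrArg (c * ·) (hρ ⟨y, hy⟩).symm)
  · rw [cfun0 hχ.mem_CF hy, cfun0 hχ.mem_CF (by rwa [H.mul_mem_cancel_left hx]), mul_zero]

theorem IsChar.commutator_mem_cfker (hχ : IsChar H χ) (hx : x ∈ H) (h : ‖χ x‖ = ‖χ 1‖) (hy : y ∈ H) :
    x * y * x⁻¹ * y⁻¹ ∈ cfker H χ := by
  obtain ⟨c, -, hc⟩ := hχ.exists_scalar_of_norm hx h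
  refine (cfkerEchar hχ).2 ⟨mul_mem (mul_mem (mul_mem hx hy) (inv_mem hx)) (inv_mem hy), ?_⟩
  rw [mul_assoc, mul_assoc, hc, ← mul_assoc, cfunJ hχ.mem_CF hy, ← hc, mul_inv_cancel]

/-- `irr_faithful_center`: a subgroup central modulo the kernel is cyclic modulo the kernel -/
theorem cyclic_of_faithful_central (hχ : IsIrr H χ) (hZ : Z ≤ H) (h : ⁅Z, H⁆ ≤ cfker H χ)
    (hf : Z ⊓ cfker H χ = ⊥) : IsCyclic Z := by
  obtain ⟨l, hl, -, e⟩ := hχ.exists_lin_of_central hZ h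
  refine isCyclic_of_injective_ringHom hl.hom ((injective_iff_map_eq_one _).2 fun z hz => ?_)
  have : (z : G) ∈ Z ⊓ cfker H χ := ⟨z.2, hZ z.2, fun y => by
    rw [e z z.2, show l z = 1 from hz, one_mul]⟩
  rw [hf] at this
  exact Subtype.ext this

end Cfsg.Agent.OO
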