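import Mathlib
import Cfsg.Agent.Lib.Char.Block
import Cfsg.Agent.Lib.OO.CF7

/-!
# CF8: determinant of a character, coprime extension theorems
-/

set_option autoImplicit false
set_option linter.unusedSectionVars false

namespace Cfsg.Agent.OO

open Subgroup
open scoped Pointwise ComplexConjugate commutatorElement

universe u v

variable {G : Type u} [Group G] [Finite G] {H K L M N : Subgroup G} {φ ψ θ χ ξ l μ : G → ℂ} {x g : G}
  {s t : Multiset ℂ} {n : ℕ}

/-- a multiset of complex numbers is determined by its power sums -/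
theorem multiset_eq_of_pow_sum (h : ∀ k : ℕ, (s.map (· ^ k)).sum = (t.map (· ^ k)).sum) : s = t := by
  classical
  have li := (linearIndependent_monoidHom (Multiplicative ℕ) ℂ).comp (powersHom ℂ)
    (powersHom ℂ).injective
  have key := linearIndependent_iff'.1 li (s.toFinset ∪ t.toFinset)
    (fun a => (s.count a : ℂ) - t.count a) (by
      ext k
      have e : ∀ u : Multiset ℂ, u.toFinset ⊆ s.toFinset ∪ t.toFinset →
          ∑ a ∈ s.toFinset ∪ t.toFinset, (u.count a : ℂ) * a ^ k.toAdd = (u.map (· ^ k.toAdd)).sum :=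
        fun u hu => by
          rw [Finset.sum_multiset_map_count, Finset.sum_subset hu fun a _ ha => by
            simp [Multiset.count_eq_zero.2 (by simpa using ha)]]
          simp
      simp only [Function.comp_apply, Finset.sum_apply, Pi.smul_apply, powersHom_apply, smul_eq_mul,
        sub_mul, Finset.sum_sub_distrib, Pi.zero_apply]
      rw [e s Finset.subset_union_left, e t Finset.subset_union_right, h, sub_self])
  ext a
  by_cases ha : a ∈ s.toFinset ∪ t.toFinset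
  · exact_mod_cast sub_eq_zero.1 (key a ha)
  · simp only [Finset.mem_union, Multiset.mem_toFinset, not_or] at ha
    rw [Multiset.count_eq_zero.2 ha.1, Multiset.count_eq_zero.2 ha.2]

/-- `s` is the multiset of eigenvalues of `x` for the character `χ` -/
def IsEig (χ : G → ℂ) (x : G) (s : Multiset ℂ) : Prop := ∀ k : ℕ, χ (x ^ k) = (s.map (· ^ k)).sum

open Classical in
/-- the determinant of a character -/
noncomputable def cfDet (H : Subgroup G) (χ : G → ℂ) : G → ℂ :=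
  fun x => if h : x ∈ H ∧ ∃ s, IsEig χ x s then h.2.choose.prod else 0

omit [Finite G] in
theorem cfDetE (hx : x ∈ H) (h : IsEig χ x s) : cfDet H χ x = s.prod := by
  have h1 : x ∈ H ∧ ∃ s, IsEig χ x s := ⟨hx, s, h⟩
  rw [cfDet, dif_pos h1, multiset_eq_of_pow_sum fun k => (h1.2.choose_spec k).symm.trans (h k)]

omit [Finite G] in
theorem cfDet_suppOn (H : Subgroup G) (χ : G → ℂ) : cfDet H χ ∈ suppOn (H : Set G) :=
  fun _ hx => dif_neg fun h => hx h.1

theorem IsChar.exists_eig (h : IsChar H χ) (hx : x ∈ H) : ∃ s, IsEig χ x s := by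
  obtain ⟨s, -, -, hs⟩ := h.exists_roots hx
  exact ⟨s, fun k => by simpa using hs k⟩

omit [Finite G] in
theorem IsEig.card (h : IsEig χ x s) : (s.card : ℂ) = χ 1 := by simpa using (h 0).symm

theorem exists_eig_rep {X : Type*} [Group X] [Finite X] {V : Type} [AddCommGroup V] [Module ℂ V]
    [FiniteDimensional ℂ V] (ρ : Representation ℂ X V) (x : X) :
    ∃ s, IsEig ρ.character x s ∧ LinearMap.det (ρ x) = s.prod := by
  classical
  have := Fintype.ofFinite (zpowers x)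
  let y : zpowers x := ⟨x, mem_zpowers x⟩
  obtain ⟨s, h1, h2, h3⟩ := Char.exists_irr_multiset_charpoly (G := zpowers x)
    (f := fun g => if g = y then 1 else 0) (fun a b => by rw [mul_comm' b, mul_inv_cancel_right]) V
    (ρ.comp (zpowers x).subtype)
  have h4 : ∀ χ ∈ s, χ 1 = 1 := fun χ hχ => Char.irr_one_eq_one_of_comm (h1 χ hχ)
  have h5 : IsEig ρ.character x (s.map fun χ => χ y) := fun k => by
    have := congrFun h2 (y ^ k)
    rw [Multiset.map_map]
    refine this.trans ((map_multiset_sum (Pi.evalAddMonoidHom (fun _ => ℂ) (y ^ k)) s).trans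
      (congrArg _ (Multiset.map_congr rfl fun χ hχ => ?_)))
    obtain ⟨l, rfl⟩ := Char.exists_hom_of_one (Char.isCharacter_of_irr (h1 χ hχ)) (h4 χ hχ)
    simp
  refine ⟨_, h5, ?_⟩
  have h6 := h5.card
  rw [ρ.char_one, Nat.cast_inj] at h6
  simp only [ite_smul, one_smul, zero_smul, Finset.sum_ite_eq', Finset.mem_univ, if_true, ite_mul,
    one_mul, zero_mul] at h3
  rw [LinearMap.det_eq_sign_charpoly_coeff, ← h6]
  change _ * (LinearMap.charpoly (ρ.comp (zpowers x).subtype y)).coeff 0 = _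
  rw [h3, Polynomial.coeff_zero_eq_eval_zero, Polynomial.eval_multiset_prod, Multiset.map_map,
    Multiset.map_congr (f := Polynomial.eval 0 ∘ _) (g := Neg.neg ∘ fun χ => χ y) rfl fun χ hχ => by
      simp [h4 χ hχ], ← Multiset.map_map, Multiset.prod_map_neg, ← mul_assoc, ← mul_pow]
  simp

theorem cfDet_lin_char (h : IsChar H χ) : IsLinChar H (cfDet H χ) := by
  obtain ⟨n, ρ, hρ⟩ := h.exists_rep
  have key : ∀ x : H, cfDet H χ x = LinearMap.det (ρ x) := fun x => by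
    obtain ⟨s, h1, h2⟩ := exists_eig_rep ρ x
    rw [h2, cfDetE x.2 fun k => (hρ (x ^ k)).trans (h1 k)]
  refine isLinChar_of_mul (cfDet_suppOn _ _) ((key 1).trans (by simp)) fun x hx y hy => ?_
  rw [key ⟨x, hx⟩, key ⟨y, hy⟩, ← map_mul, ← map_mul]
  exact key (⟨x, hx⟩ * ⟨y, hy⟩)

theorem cfDet_ext (h : ψ ∈ suppOn (H : Set G)) (e : ∀ x ∈ H, cfDet H χ x = ψ x) : cfDet H χ = ψ :=
  funext fun x => by
    by_cases hx : x ∈ H
    · exact e x hx
    · rw [cfDet_suppOn H χ x hx, h x hx]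

theorem cfDet_zero (H : Subgroup G) : cfDet H 0 = cf1 H :=
  cfDet_ext (cf1_mem_CF H).1 fun x hx => by
    rw [cfDetE (s := 0) hx fun k => by simp, cf1E hx, Multiset.prod_zero]

theorem cfDetD (h : IsChar H χ) (h' : IsChar H ψ) : cfDet H (χ + ψ) = cfDet H χ * cfDet H ψ :=
  cfDet_ext (mul_mem_suppOn_left (cfDet_suppOn _ _) _) fun x hx => by
    obtain ⟨s, hs⟩ := h.exists_eig hx
    obtain ⟨t, ht⟩ := h'.exists_eig hx
    rw [cfDetE (s := s + t) hx fun k => by simp [hs k, ht k], Pi.mul_apply, cfDetE hx hs, cfDetE hx ht,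
      Multiset.prod_add]

theorem cfDet_id (h : IsLinChar H l) : cfDet H l = l :=
  cfDet_ext h.mem_CF.1 fun x hx => by
    rw [cfDetE (s := {l x}) hx fun k => by simp [lin_charX h hx], Multiset.prod_singleton]

theorem cfDet_mul_lin (hl : IsLinChar H l) (h : IsChar H χ) (hn : χ 1 = n) :
    cfDet H (l * χ) = l ^ n * cfDet H χ :=
  cfDet_ext (mul_mem_suppOn_right _ (cfDet_suppOn _ _)) fun x hx => by
    obtain ⟨s, hs⟩ := h.exists_eig hx
    have h1 := hs.card
    rw [hn, Nat.cast_inj] at h1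
    rw [cfDetE (s := s.map (l x * ·)) hx fun k => by
      simp [hs k, lin_charX hl hx, mul_pow, Multiset.sum_map_mul_left], Pi.mul_apply, cfDetE hx hs,
      Multiset.prod_map_mul, Pi.pow_apply, ← h1]
    simp

theorem cfDet_nsmul (h : IsChar H χ) (hn : n ≠ 0) : cfDet H (n • χ) = cfDet H χ ^ n := by
  obtain ⟨n, rfl⟩ := Nat.exists_eq_succ_of_ne_zero hn
  induction n with
  | zero => simp
  | succ n ih => rw [succ_nsmul, cfDetD (h.nsmul _) h, ih n.succ_ne_zero, ← pow_succ]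

theorem cfDetRes (h : IsChar K χ) (hH : H ≤ K) : cfDet H (cfRes H χ) = cfRes H (cfDet K χ) :=
  cfDet_ext (cfRes_mem_suppOn _) fun x hx => by
    obtain ⟨s, hs⟩ := h.exists_eig (hH hx)
    rw [cfResE _ hx, cfDetE (hH hx) hs, cfDetE hx fun k => (cfResE χ (pow_mem hx k)).trans (hs k)]

theorem cfDetConjg (h : IsChar H χ) (hg : g ∈ 𝐍(H)) :
    cfDet H (cfConjg g χ) = cfConjg g (cfDet H χ) :=
  cfDet_ext ((cfDet_lin_char h).cfConjg hg).mem_CF.1 fun x hx => by
    have hx' : g⁻¹ * x * g ∈ H := (mem_normalizer_iff''.1 hg x).1 hx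
    obtain ⟨s, hs⟩ := h.exists_eig hx'
    rw [cfConjg, cfDetE hx' hs, cfDetE hx fun k => ?_]
    rw [← hs k, cfConjg]
    congr 1
    simpa using (conj_pow (a := g⁻¹) (b := x) (i := k)).symm

theorem inertia_le_inertia_cfDet (h : IsChar H χ) (hn : K ≤ 𝐍(H)) :
    inertia K χ ≤ inertia K (cfDet H χ) := fun g hg =>
  ⟨hg.1, by rw [← cfDetConjg h (hn hg.1), hg.2]⟩

/-- the determinantal order divides the exponent -/
theorem cforder_cfDet_dvdG (h : IsChar H χ) : cforder H (cfDet H χ) ∣ ♯H :=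
  cforder_lin_char_dvdG (cfDet_lin_char h)

/-! ### extension of characters -/

theorem IsLinChar.pow_congr (hl : IsLinChar H l) {a b : ℕ} (ha : a ≠ 0) (hb : b ≠ 0)
    (h : a ≡ b [MOD cforder H l]) : l ^ a = l ^ b :=
  cfun_ext (hl.pow ha).mem_CF (hl.pow hb).mem_CF fun _ hx => pow_eq_pow_of_modEq h (pow_cforder l hx)

theorem IsLinChar.pow_eq_self (hl : IsLinChar H l) {a : ℕ} (ha : a ≠ 0)
    (h : a ≡ 1 [MOD cforder H l]) : l ^ a = l := (hl.pow_congr ha one_ne_zero h).trans (pow_one l)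

theorem exists_inv_mod {a m : ℕ} (h : a.Coprime m) (hm : m ≠ 0) : ∃ b, b ≠ 0 ∧ b * a ≡ 1 [MOD m] := by
  obtain ⟨b, -, hb⟩ := Nat.exists_mul_mod_eq_of_coprime 1 h hm
  refine ⟨b + m, by omega, ?_⟩
  rw [add_mul, mul_comm b]
  exact (Nat.add_mul_mod_self_left _ _ _).trans hb

theorem cfRes_pow (φ : G → ℂ) (hn : n ≠ 0) : cfRes H (φ ^ n) = cfRes H φ ^ n := by
  ext x
  by_cases hx : x ∈ H
  · simp [cfResE _ hx]
  · rw [Pi.pow_apply, cfRes_mem_suppOn _ x hx, cfRes_mem_suppOn _ x hx, zero_pow hn]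

theorem le_cfker_lin_of_cfRes (hl : IsLinChar K l) (h : cfRes N l = cf1 N) : N ≤ cfker K l :=
  fun x hx => (mem_cfker_lin hl).2 (by rw [← cfResE l hx, h, cf1E hx])

/-- `extend_coprime_linear_char` -/
theorem extend_coprime_linear_char (hN : N ⊴ K) (hl : IsLinChar N l) (hi : inertia K l = K)
    (hc : (N.relIndex K).Coprime (cforder N l)) :
    ∃ μ, IsLinChar K μ ∧ cfRes N μ = l ∧ cforder K μ = cforder N l := by
  have hm : N.relIndex K ≠ 0 := Nat.cast_ne_zero.1 (relIndexC_ne_zero N K)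
  have ho := (cforder_lin_char_gt0 hl).ne'
  have hI := hl.isChar.cfInd hN.1
  have hd := cfDet_lin_char hI
  have h1 : cfRes N (cfDet K (cfInd K N l)) = l ^ N.relIndex K := by
    rw [← cfDetRes hI hN.1, cfRes_Ind_invariant hN hl.mem_CF hi, Nat.cast_smul_eq_nsmul,
      cfDet_nsmul hl.isChar hm, cfDet_id hl]
  obtain ⟨a, ha, ha'⟩ := exists_inv_mod hc ho
  have h0 : a * N.relIndex K ≠ 0 := mul_ne_zero ha hm
  have hd' := hd.pow ha
  have h2 : cfRes N (cfDet K (cfInd K N l) ^ a) = l := by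
    rw [cfRes_pow _ ha, h1, ← pow_mul, mul_comm, hl.pow_eq_self h0 ha']
  have h3 : cfRes N ((cfDet K (cfInd K N l) ^ a) ^ (a * N.relIndex K)) = l := by
    rw [cfRes_pow _ h0, h2, hl.pow_eq_self h0 ha']
  refine ⟨_, hd'.pow h0, h3, Nat.dvd_antisymm (cforder_dvd_iff.2 fun x hx => ?_)
    (by rw [← congrArg (cforder N) h3]; exact cforder_cfRes_dvd hN.1 _)⟩
  have h4 := cforder_dvd_relIndex (hd'.pow ho) (le_cfker_lin_of_cfRes (hd'.pow ho) (by
    rw [cfRes_pow _ ho, h2, (pow_eq_cf1_iff hl.mem_CF ho).2 dvd_rfl]))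
  have h5 := cforder_dvd_iff.1 (h4.trans (Dvd.intro_left a rfl)) x hx
  rw [Pi.pow_apply, ← pow_mul, mul_comm, pow_mul]
  exact h5

/-- two extensions with the same determinant are equal -/
theorem eq_of_cfRes_of_cfDet (hN : N ⊴ K) (hθ : IsIrr N θ) (hn : θ 1 = n)
    (hc : (N.relIndex K).Coprime n) (hχ : IsIrr K χ) (hψ : IsIrr K ψ) (e1 : cfRes N χ = θ)
    (e2 : cfRes N ψ = θ) (e : cfDet K χ = cfDet K ψ) : χ = ψ := by
  obtain ⟨β, hβ, hk, rfl⟩ := Gallagher_surj hN hψ.isChar (e2 ▸ hθ) hχ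
    (by rw [e1, e2, cfdot_irr_self hθ]; exact one_ne_zero)
  have h1 : ψ 1 = n := by rw [← hn, ← e2, cfRes1]
  have h0 : n ≠ 0 := by rintro rfl; exact irr1_neq0 hθ (by simpa using hn)
  have hb : IsLinChar K β := hβ.isLinChar (by
    have := congrFun (e1.trans e2.symm) 1
    rw [cfRes1, cfRes1, Pi.mul_apply] at this
    exact mul_right_cancel₀ (irr1_neq0 hψ) (this.trans (one_mul _).symm))
  rw [cfDet_mul_lin hb hψ.isChar h1, mul_comm] at e
  have hd := cfDet_lin_char hψ.isChar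
  have h2 : β ^ n = cf1 K := hd.mul_cancel (hb.pow h0).mem_CF (cf1_mem_CF K)
    (e.trans (mul_cf1 hd.mem_CF).symm)
  have h3 := Nat.dvd_gcd (cforder_dvd_relIndex hb hk) ((pow_eq_cf1_iff hb.mem_CF h0).1 h2)
  rw [hc.gcd_eq_one, Nat.dvd_one, cforder_eq_one_iff hb.mem_CF] at h3
  rw [h3, cf1_mul hψ.mem_CF]

theorem relIndex_prime_of_covBy (h : M ⋖ K) (hM : M ⊴ K) : (M.relIndex K).Prime := by
  rw [← card_quo hM.2]
  obtain ⟨p, hp, hd⟩ := Nat.exists_prime_and_dvd (n := ♯(K ⁒ M)) fun e =>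
    quo_ne_bot hM.2 h.1.not_ge (card_eq_one.1 e)
  obtain ⟨z, hz, rfl⟩ := cauchy hp hd
  have h1 := quoPre_le_of_le hM (zpowers_le.2 hz)
  rcases h.eq_or_eq (le_quoPre (zpowers z)) h1 with e | e
  · rw [quoPre_eq_iff, zpowers_eq_bot] at e
    rw [e, orderOf_one] at hp
    exact absurd hp Nat.not_prime_one
  · rwa [← e, quo_quoPre, Nat.card_zpowers]

theorem exists_prime_relIndex_of_sol (hN : N ⊴ K) (hs : Sol (K ⁒ N)) (h : N ≠ K) :
    ∃ M, N ≤ M ∧ M ⊴ K ∧ (M.relIndex K).Prime := by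
  have h1 : der K ⊔ N < K := by
    refine lt_of_le_of_ne (sup_le (der_le K) hN.1) fun e => ?_
    have := der_lt hs (quo_ne_bot hN.2 fun h' => h (le_antisymm hN.1 h'))
    rw [← quo_der hN.2, ← quo_sup_self ((der_le K).trans hN.2), e] at this
    exact this.false
  obtain ⟨M, h2, h3⟩ := exists_covBy_ge h1
  have h4 := normalIn_of_der_le (le_sup_left.trans h2) h3.le
  exact ⟨M, le_sup_right.trans h2, h4, relIndex_prime_of_covBy h3 h4⟩

/-- Isaacs 6.25: extension with prescribed determinant -/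
theorem extend_to_cfdet (hN : N ⊴ K) (hs : Sol (K ⁒ N)) (hθ : IsIrr N θ) (hi : inertia K θ = K)
    (hn : θ 1 = n) (hc : (N.relIndex K).Coprime n) (hμ : IsLinChar K μ) (e : cfRes N μ = cfDet N θ) :
    ∃ χ, IsIrr K χ ∧ cfRes N χ = θ ∧ cfDet K χ = μ := by
  induction hK : ♯K using Nat.strong_induction_on generalizing K μ with
  | _ k ih =>
  by_cases h : N = K
  · subst h
    exact ⟨θ, hθ, cfRes_id hθ.mem_CF, by rw [← e, cfRes_id hμ.mem_CF]⟩
  obtain ⟨M, hNM, hM, hp⟩ := exists_prime_relIndex_of_sol hN hs h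
  have hN' : N ⊴ M := ⟨hNM, hM.1.trans hN.2⟩
  have hc' : (N.relIndex M).Coprime n := hc.coprime_dvd_left (Dvd.intro _ (relIndex_mul_relIndex _ _ _ hNM hM.1))
  have hcp : (M.relIndex K).Coprime n :=
    hc.coprime_dvd_left (Dvd.intro_left _ (relIndex_mul_relIndex _ _ _ hNM hM.1))
  obtain ⟨ξ, hξ, e1, e2⟩ := ih ♯M (hK ▸ card_lt (lt_of_le_of_ne hM.1 fun e => by
      rw [e, relIndex_self] at hp; exact Nat.not_prime_one hp)) hN' (sol_of_le hs (quo_mono N hM.1))
    (inertia_eq_of_le (hi.symm ▸ hM.1)) hc' (hμ.cfRes hM.1) (by rw [cfResRes hNM, e]) rfl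
  have hi' : inertia K ξ = K := inertia_eq_self_iff.2 fun g hg =>
    eq_of_cfRes_of_cfDet hN' hθ hn hc' (hξ.cfConjg (hM.2 hg)) hξ
      (by rw [← cfConjg_cfRes (hN.2 hg), e1, inertia_eq_self_iff.1 hi g hg]) e1
      (by rw [cfDetConjg hξ.isChar (hM.2 hg), e2,
        inertia_eq_self_iff.1 (inertia_cfRes hμ.mem_CF hM.2) g hg])
  obtain ⟨χ, hχ, e3⟩ := prime_invariant_irr_extendible hM hp hξ hi'
  have hd := cfDet_lin_char hχ.isChar
  have hγ := hμ.mul hd.star
  have hk : M ≤ cfker K (μ * star (cfDet K χ)) := fun x hx => (mem_cfker_lin hγ).2 (by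
    rw [Pi.mul_apply, ← cfResE μ hx, ← e2, ← e3, cfDetRes hχ.isChar hM.1, cfResE _ hx]
    exact lin_char_mul_conj hd (hM.1 hx))
  obtain ⟨c, hc0, hc1⟩ := exists_inv_mod hcp.symm hp.ne_zero
  have h0 : n ≠ 0 := by rintro rfl; exact irr1_neq0 hθ (by simpa using hn)
  have hk' : M ≤ cfker K ((μ * star (cfDet K χ)) ^ c) := fun x hx => (mem_cfker_lin (hγ.pow hc0)).2 (by
    rw [Pi.pow_apply, (mem_cfker_lin hγ).1 (hk hx), one_pow])
  refine ⟨_, mul_lin_irr (hγ.pow hc0) hχ, by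
    rw [cfRes_lin_mul (hγ.pow hc0) (hNM.trans hk'), ← cfResRes hNM, e3, e1], ?_⟩
  rw [cfDet_mul_lin (hγ.pow hc0) hχ.isChar (n := n) (by rw [← hn, ← e1, ← e3, cfRes1, cfRes1]), ← pow_mul,
    hγ.pow_eq_self (mul_ne_zero hc0 h0) (hc1.of_dvd (cforder_dvd_relIndex hγ hk)), mul_assoc,
    hd.star_mul, mul_cf1 hμ.mem_CF]

/-- `extend_solvable_coprime_irr` (Isaacs 6.28) -/
theorem extend_solvable_coprime_irr (hN : N ⊴ K) (hs : Sol (K ⁒ N)) (hθ : IsIrr N θ)
    (hi : inertia K θ = K) (hn : θ 1 = n) (hc : (N.relIndex K).Coprime (cforder N (cfDet N θ) * n)) :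
    ∃ χ, IsIrr K χ ∧ cfRes N χ = θ ∧ cforder K (cfDet K χ) = cforder N (cfDet N θ) := by
  obtain ⟨μ, hμ, e1, e2⟩ := extend_coprime_linear_char hN (cfDet_lin_char hθ.isChar)
    (le_antisymm (inertia_le _ _) (hi.ge.trans (inertia_le_inertia_cfDet hθ.isChar hN.2)))
    hc.coprime_mul_right_right
  obtain ⟨χ, hχ, e3, e4⟩ := extend_to_cfdet hN hs hθ hi hn hc.coprime_mul_left_right hμ e1
  exact ⟨χ, hχ, e3, by rw [e4, e2]⟩

/-- an invariant irreducible character of a normal Hall subgroup with solvable quotient extends -/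
theorem extend_Hall_irr (hN : N ⊴ K) (hH : IsHallIn N K) (hs : Sol (K ⁒ N)) (hθ : IsIrr N θ)
    (hi : inertia K θ = K) : ∃ χ, IsIrr K χ ∧ cfRes N χ = θ := by
  obtain ⟨n, -, hn⟩ := hθ.exists_one
  obtain ⟨χ, h1, h2, -⟩ := extend_solvable_coprime_irr hN hs hθ hi hn (Nat.Coprime.mul_right
    (hH.2.symm.coprime_dvd_right (cforder_cfDet_dvdG hθ.isChar))
    (hH.2.symm.coprime_dvd_right (dvd_irr1_cardG hθ hn)))
  exact ⟨χ, h1, h2⟩

end Cfsg.Agent.OO
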