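import Cfsg.Agent.Lib.OO.PF14

/-! # The odd order theorem -/

set_option autoImplicit false

namespace Cfsg.Agent.OO

open Subgroup

universe u

theorem Feit_Thompson_aux (n : ℕ) : ∀ (G : Type u) [Group G] [Finite G], Nat.card G = n →
    Odd (Nat.card G) → Group.IsSolvable G := by
  induction n using Nat.strong_induction_on with
  | _ n ih =>
  intro G _ _ hn hodd
  by_contra hns
  have hsub : ∀ H : Subgroup G, H ≠ ⊤ → Group.IsSolvable H := fun H hH =>
    ih _ (hn ▸ (by
      refine lt_of_le_of_ne H.card_le_card_group fun h => hH ?_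
      exact Subgroup.eq_top_of_card_eq H h)) H rfl (Odd.of_dvd_nat hodd H.card_subgroup_dvd_card)
  have hnt : Nontrivial G := by
    by_contra h
    rw [not_nontrivial_iff_subsingleton] at h
    exact hns inferInstance
  have hsimple : IsSimpleGroup G := ⟨fun N hN => by
    by_contra hc
    push Not at hc
    have h1 := hsub N hc.2
    have h2 : Group.IsSolvable (G ⧸ N) := by
      refine ih _ ?_ (G ⧸ N) rfl (Odd.of_dvd_nat hodd (card_quotient_dvd_card N))
      rw [← hn, card_eq_card_quotient_mul_card_subgroup N]
      have : 1 < Nat.card N := (Subgroup.one_lt_card_iff_ne_bot N).2 hc.1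
      have h0 : 0 < Nat.card (G ⧸ N) := Nat.card_pos
      nlinarith
    exact hns (Group.isSolvable_of_ker_le_range N.subtype (QuotientGroup.mk' N) (by simp))⟩
  have : MinOdd G := ⟨⟨hodd, hsimple, fun h => hns (Group.isSolvable_of_comm fun a b => h.1.1 a b), hsub⟩⟩
  exact no_minSimple_odd_group (G := G)

/-- **Feit–Thompson**: a finite group of odd order is solvable. -/
theorem Feit_Thompson {G : Type u} [Group G] [Finite G] (h : Odd (Nat.card G)) : Group.IsSolvable G :=
  Feit_Thompson_aux _ G rfl h

end Cfsg.Agent.OO
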