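import Cfsg.Agent.Lib.OO.CF8

/-! # Peterfalvi section 1 -/

set_option autoImplicit false
set_option linter.unusedSectionVars false
set_option linter.unusedVariables false

namespace Cfsg.Agent.OO

open Subgroup Cfsg.Agent.Coprime
open scoped Pointwise commutatorElement ComplexConjugate

universe u v w

variable {G : Type u} [Group G] [Finite G]

variable {A B C D H K L T : Subgroup G} {χ θ φ ψ : G → ℂ}

omit [Group G] [Finite G] in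
theorem sum_mem_of_involution {ι M : Type*} [AddCommGroup M] (A : AddSubgroup M) {s : Finset ι}
    {f : ι → M} (g : ι → ι) (h : ∀ a ∈ s, f a + f (g a) ∈ A) (h1 : ∀ a ∈ s, g a ≠ a)
    (h2 : ∀ a ∈ s, g a ∈ s) (h3 : ∀ a ∈ s, g (g a) = a) : ∑ a ∈ s, f a ∈ A := by
  rw [← QuotientAddGroup.eq_zero_iff, ← QuotientAddGroup.mk'_apply, map_sum]
  exact Finset.sum_involution (fun a _ => g a) (fun a ha => by
    rw [← map_add]; exact (QuotientAddGroup.eq_zero_iff _).2 (h a ha)) (fun a ha _ => h1 a ha) h2 h3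

omit [Group G] [Finite G] in
theorem eqAmod_sum_involution {ι : Type*} {e : ℂ} {s : Finset ι} {f : ι → ℂ} (g : ι → ι)
    (h : ∀ a ∈ s, EqAmod e (f a + f (g a)) 0) (h1 : ∀ a ∈ s, g a ≠ a) (h2 : ∀ a ∈ s, g a ∈ s)
    (h3 : ∀ a ∈ s, g (g a) = a) : EqAmod e (∑ a ∈ s, f a) 0 :=
  sum_mem_of_involution ⟨⟨⟨{a | EqAmod e a 0}, fun ha hb => by simpa using EqAmod.add ha hb⟩,
    eqAmod_refl _ _⟩, fun ha => by simpa using EqAmod.neg ha⟩ g h h1 h2 h3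

omit [Group G] [Finite G] in
theorem eqCmod_sum_involution {ι : Type*} {e : ℂ} {s : Finset ι} {f : ι → ℂ} (g : ι → ι)
    (h : ∀ a ∈ s, EqCmod e (f a + f (g a)) 0) (h1 : ∀ a ∈ s, g a ≠ a) (h2 : ∀ a ∈ s, g a ∈ s)
    (h3 : ∀ a ∈ s, g (g a) = a) : EqCmod e (∑ a ∈ s, f a) 0 :=
  sum_mem_of_involution ⟨⟨⟨{a | EqCmod e a 0}, fun ha hb => by simpa using EqCmod.add ha hb⟩,
    eqCmod_refl _ _⟩, fun ha => by simpa using EqCmod.neg ha⟩ g h h1 h2 h3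

theorem mem_of_sq_mem_of_odd (ho : Odd ♯L) {g : G} (hg : g ∈ L) (h : g ^ 2 ∈ K) : g ∈ K := by
  obtain ⟨k, hk⟩ := ho.of_dvd_nat (OO.orderOf_dvd_card hg)
  have := pow_mem h (k + 1)
  rwa [← pow_mul, show 2 * (k + 1) = orderOf g + 1 by omega, pow_succ, pow_orderOf_eq_one, one_mul] at this

/-- (1.1) -/
theorem odd_eq_conj_irr1 (ho : Odd ♯H) (hχ : IsIrr H χ) : star χ = χ ↔ χ = cf1 H := by
  classical
  refine ⟨fun h => by_contra fun h1 => ?_, fun h => by rw [h, star_cf1]⟩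
  obtain ⟨n, -, hn⟩ := hχ.exists_one
  have h2 := hχ.sum_eq_zero h1
  rw [← Finset.add_sum_erase _ _ (mem_elts.2 H.one_mem)] at h2
  have h3 := eqAmod_sum_involution (e := 2) (s := (elts (H : Set G)).erase 1) (f := χ) (·⁻¹)
    (fun a _ => by
      rw [char_inv hχ.isChar, ← cfConjCE, h, ← two_mul]; exact eqAmod_mul_zero _ (Aint_char hχ.isChar a))
    (fun a ha e => (Finset.mem_erase.1 ha).1 (mem_bot.1 (mem_of_sq_mem_of_odd ho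
      (mem_elts.1 (Finset.mem_of_mem_erase ha)) (by rw [sq, mem_bot, mul_eq_one_iff_inv_eq, e]))))
    (fun a ha => by simpa using ha) fun a _ => inv_inv a
  rw [eq_neg_of_add_eq_zero_right h2, hn] at h3
  have h4 : 2 ∣ n := eqAmod0_nat.1 (by simpa using h3.neg)
  exact (Nat.not_even_iff_odd.2 ho) (even_iff_two_dvd.2 (h4.trans (dvd_irr1_cardG hχ hn)))

/-- (1.2) -/
theorem irr_reg_off_ker_0 (hχ : IsIrr L χ) (hH : H ⊴ L) (hk : ¬ H ≤ cfker L χ) {g : G}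
    (hC : H ⊓ 𝐂[g] = ⊥) : χ g = 0 := by
  classical
  by_cases hg : g ∈ L
  swap
  · exact cfun0 hχ.mem_CF hg
  have h1 := sum_irr_norm_sq hg
  have h2 := sum_irr_norm_sq (coset_mem_quo H hg)
  have h3 := sum_Irr_quo hH fun χ => ‖χ g‖ ^ 2
  simp only [cfModE _ hg] at h3
  have h4 : ♯(L ⊓ 𝐂[g]) ≤ ♯(L ⁒ H ⊓ 𝐂[coset H g]) := by
    rw [← card_quo_of_inf_eq_bot (inf_le_left.trans hH.2) (N := H)
      (eq_bot_iff.2 (hC ▸ inf_le_inf_left H inf_le_right))]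
    refine card_le_of_le fun z hz => ?_
    obtain ⟨x, hx, hx', rfl⟩ := mem_quo.1 hz
    refine ⟨coset_mem_quo H hx.1, mem_cent1.2 ?_⟩
    rw [← coset_mul hx' (hH.2 hg), mem_cent1.1 hx.2, coset_mul (hH.2 hg) hx']
  rw [← Finset.sum_filter_add_sum_filter_not _ fun χ => H ≤ cfker L χ, ← h3, h2] at h1
  have h5 := Finset.single_le_sum (f := fun χ : G → ℂ => ‖χ g‖ ^ 2) (fun _ _ => by positivity)
    (Finset.mem_filter.2 ⟨mem_Irr.2 hχ, hk⟩ : χ ∈ (Irr L).filter fun χ => ¬ H ≤ cfker L χ)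
  have h6 : (♯(L ⊓ 𝐂[g]) : ℝ) ≤ ♯(L ⁒ H ⊓ 𝐂[coset H g]) := by exact_mod_cast h4
  exact norm_eq_zero.1 (pow_eq_zero_iff two_ne_zero |>.1 (le_antisymm (by linarith) (by positivity)))

theorem eq_on_of_cfdot_CFon {X : Set G} (hX : X ⊆ H) (hn : ∀ h ∈ H, ∀ x ∈ X, h * x * h⁻¹ ∈ X)
    (hφ : cfRes H φ ∈ CF H) (hψ : cfRes H ψ ∈ CF H) (h : ∀ α ∈ CFon H X, ⟪α, φ⟫[H] = ⟪α, ψ⟫[H]) :
    ∀ x ∈ X, φ x = ψ x := by
  have h1 := indicator_mem_CF hX hn (sub_mem hφ hψ)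
  have h2 : X.indicator (cfRes H φ - cfRes H ψ) = 0 := by
    rw [← cfdot_self_eq0 h1.1, ← sub_eq_zero.2 (h _ h1), ← cfdotBr, cfdotEl hX h1.2, cfdotEl hX h1.2]
    refine congrArg _ (Finset.sum_congr rfl fun x hx => ?_)
    have hx := mem_elts.1 hx
    simp [hx, cfResE _ (hX hx)]
  intro x hx
  simpa [hx, cfResE _ (hX hx), sub_eq_zero] using congrFun h2 x

/-- (1.3)(a), basis-free form -/
theorem equiv_restrict_compl {X : Set G} (hH : H ≤ L) (hX : X ⊆ H) (hn : ∀ h ∈ H, ∀ x ∈ X, h * x * h⁻¹ ∈ X)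
    {μ : G → ℂ} (hμ : μ ∈ CF L) (hψ : ψ ∈ CF H) :
    (∀ x ∈ X, μ x = ψ x) ↔ ∀ φ ∈ CFon H X, ⟪φ, ψ⟫[H] = ⟪cfInd L H φ, μ⟫[L] := by
  refine ⟨fun h φ hφ => ?_, fun h => eq_on_of_cfdot_CFon hX hn (cfRes_mem_CF hH hμ)
    (cfRes_mem_CF le_rfl hψ) fun φ hφ => by rw [h φ hφ, cfdot_cfInd_left hH hφ.1.1 hμ]⟩
  rw [cfdot_cfInd_left hH hφ.1.1 hμ, cfdotEl hX hφ.2, cfdotEl hX hφ.2]
  exact congrArg _ (Finset.sum_congr rfl fun x hx => by rw [h x (mem_elts.1 hx)])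

/-- (1.3)(a): two class functions agree on the normal subset `X` of `H` as soon as they have the same
inner products with a spanning family of `CF(H, X)` -/
theorem eq_on_of_cfdot_span {X : Set G} (hX : X ⊆ H) (hn : ∀ h ∈ H, ∀ x ∈ X, h * x * h⁻¹ ∈ X)
    {Φ : Set (G → ℂ)} (hΦ : CFon H X ≤ Submodule.span ℂ Φ) (hφ : cfRes H φ ∈ CF H)
    (hψ : cfRes H ψ ∈ CF H) (h : ∀ α ∈ Φ, ⟪α, φ⟫[H] = ⟪α, ψ⟫[H]) : ∀ x ∈ X, φ x = ψ x := 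
  eq_on_of_cfdot_CFon hX hn hφ hψ fun α hα => by
    rw [← sub_eq_zero, ← cfdotBr]
    exact cfdot_span_eq_zero (hΦ hα) fun β hβ => by rw [cfdotBr, h β hβ, sub_self]

/-- (1.3)(b) -/
theorem equiv_restrict_compl_ortho {X : Set G} (hH : H ≤ L) (hX : X ⊆ H)
    (hn : ∀ h ∈ H, ∀ x ∈ X, h * x * h⁻¹ ∈ X) {Φ : Set (G → ℂ)} (hΦ : Submodule.span ℂ Φ = CFon H X)
    (m : (G → ℂ) → G → ℂ) (hm : ∀ χ ∈ Irr H, m χ ∈ CF L)
    (ho : ∀ χ ∈ Irr H, ∀ ξ ∈ Irr H, χ ≠ ξ → ⟪m χ, m ξ⟫[L] = 0) (h1 : ∀ χ ∈ Irr H, ⟪m χ, m χ⟫[L] = 1)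
    (hI : ∀ α ∈ Φ, cfInd L H α = ∑ χ ∈ Irr H, ⟪α, χ⟫[H] • m χ) :
    (∀ χ ∈ Irr H, ∀ x ∈ X, m χ x = χ x) ∧
      ∀ μ ∈ CF L, (∀ χ ∈ Irr H, ⟪μ, m χ⟫[L] = 0) → ∀ x ∈ X, μ x = 0 := by
  have hΦ' : ∀ α ∈ Φ, α ∈ CFon H X := fun α hα => hΦ ▸ Submodule.subset_span hα
  refine ⟨fun χ hχ => eq_on_of_cfdot_span hX hn hΦ.ge (cfRes_mem_CF hH (hm χ hχ))
    (cfRes_mem_CF le_rfl (mem_Irr.1 hχ).mem_CF) fun α hα => ?_, fun μ hμ h0 =>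
    eq_on_of_cfdot_span (ψ := 0) hX hn hΦ.ge (cfRes_mem_CF hH hμ) (by simp) fun α hα => ?_⟩
  · rw [← cfdot_cfInd_left hH (hΦ' α hα).1.1 (hm χ hχ), hI α hα, cfdot_suml,
      Finset.sum_eq_single_of_mem χ hχ fun ξ hξ hne => by rw [cfdotZl, ho ξ hξ χ hχ hne, mul_zero],
      cfdotZl, h1 χ hχ, mul_one]
  · rw [← cfdot_cfInd_left hH (hΦ' α hα).1.1 hμ, hI α hα, cfdot_suml, cfdot0r]
    exact Finset.sum_eq_zero fun χ hχ => by rw [cfdotZl, cfdot_symm0 (h0 χ hχ), mul_zero]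

theorem cfdot_sub_irr_eq_one {a b c d : G → ℂ} (ha : IsIrr L a) (hb : IsIrr L b) (hc : IsIrr L c)
    (hd : IsIrr L d) (h1 : a ≠ b) (h2 : c ≠ d) (h : ⟪a - b, c - d⟫[L] = 1) :
    (a = c ∧ b ≠ d) ∨ (a ≠ c ∧ b = d) := by
  classical
  rw [cfdotBl, cfdotBr, cfdotBr, cfdot_irr ha hc, cfdot_irr ha hd, cfdot_irr hb hc, cfdot_irr hb hd] at h
  by_cases e1 : a = c
  · subst e1
    refine .inl ⟨rfl, fun e => ?_⟩
    subst e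
    norm_num [h1, h1.symm] at h
  · refine .inr ⟨e1, by_contra fun e => ?_⟩
    rw [if_neg e1, if_neg e] at h
    split_ifs at h <;> norm_num at h

theorem vchar_isometry_base_aux {S : Finset (G → ℂ)} {χ0 χ1 : G → ℂ} {a b : (G → ℂ) → G → ℂ}
    (h : ∀ χ ∈ S, χ ≠ χ0 → IsIrr L (a χ) ∧ IsIrr L (b χ) ∧ a χ ≠ b χ) (h1 : χ1 ∈ S) (h10 : χ1 ≠ χ0)
    (hb : ∀ χ ∈ S, χ ≠ χ0 → b χ = b χ1)
    (ha : ∀ χ ∈ S, χ ≠ χ0 → ∀ ξ ∈ S, ξ ≠ χ0 → χ ≠ ξ → b χ = b ξ → a χ ≠ a ξ) :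
    ∃ m : (G → ℂ) → G → ℂ, (∀ χ ∈ S, IsIrr L (m χ)) ∧ Set.InjOn m S ∧
      ∀ χ ∈ S, χ ≠ χ0 → a χ - b χ = m χ - m χ0 := by
  classical
  refine ⟨fun χ => if χ = χ0 then b χ1 else a χ, fun χ hχ => ?_, fun χ hχ ξ hξ e => ?_,
    fun χ hχ hne => by simp [hne, hb χ hχ hne]⟩
  · dsimp only
    split_ifs with e
    exacts [(h χ1 h1 h10).2.1, (h χ hχ e).1]
  · dsimp only at e
    split_ifs at e with e1 e2 e2
    · rw [e1, e2]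
    · exact absurd (e.symm.trans (hb ξ hξ e2).symm) (h ξ hξ e2).2.2
    · exact absurd (e.trans (hb χ hχ e1).symm) (h χ hχ e1).2.2
    · exact by_contra fun hne => ha χ hχ e1 ξ hξ e2 hne ((hb χ hχ e1).trans (hb ξ hξ e2).symm) e

/-- (1.4), general form -/
theorem vchar_isometry_base' {X : Set G} {S : Finset (G → ℂ)} {χ0 : G → ℂ} {τ : (G → ℂ) → G → ℂ}
    (h1 : 1 < S.card) (hS : ∀ χ ∈ S, IsIrr H χ) (h0 : χ0 ∈ S) (hX : ∀ χ ∈ S, χ - χ0 ∈ suppOn X)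
    (hτ : IsometryTo H L (ZspanOn S X) (ZIrrOn L (sharp L)) τ) :
    ∃ m : (G → ℂ) → G → ℂ, (∀ χ ∈ S, IsIrr L (m χ)) ∧ Set.InjOn m S ∧
      ∃ e : ℂ, (e = 1 ∨ e = -1) ∧ ∀ χ ∈ S, τ (χ - χ0) = e • (m χ - m χ0) := by
  have hZ : ∀ χ ∈ S, χ - χ0 ∈ ZspanOn S X := fun χ hχ =>
    mem_ZspanOn.2 ⟨sub_mem (mem_zchar hχ) (mem_zchar h0), hX χ hχ⟩
  have hχ0 := hS χ0 h0
  have h2 : ∀ χ ∈ S, χ ≠ χ0 → ∃ a b, IsIrr L a ∧ IsIrr L b ∧ a ≠ b ∧ τ (χ - χ0) = a - b :=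
    fun χ hχ hne => by
      obtain ⟨h3, h4⟩ := mem_ZIrrOn_sharp.1 (hτ.2 _ (hZ χ hχ))
      refine vchar_norm2 h3 h4 ?_
      rw [hτ.cfnorm (hZ χ hχ), cfnormBd (cfdot_irr_ne (hS χ hχ) hχ0 hne), cfnorm_irr (hS χ hχ),
        cfnorm_irr hχ0, one_add_one_eq_two]
  choose! a b ha hb hab e using h2
  have h3 : ∀ χ ∈ S, χ ≠ χ0 → ∀ ξ ∈ S, ξ ≠ χ0 → χ ≠ ξ →
      (a χ = a ξ ∧ b χ ≠ b ξ) ∨ (a χ ≠ a ξ ∧ b χ = b ξ) := fun χ hχ h ξ hξ h' hne => by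
    refine cfdot_sub_irr_eq_one (ha χ hχ h) (hb χ hχ h) (ha ξ hξ h') (hb ξ hξ h') (hab χ hχ h)
      (hab ξ hξ h') ?_
    rw [← e χ hχ h, ← e ξ hξ h', hτ.1 _ (hZ χ hχ) _ (hZ ξ hξ), cfdotBl, cfdotBr, cfdotBr,
      cfdot_irr_ne (hS χ hχ) (hS ξ hξ) hne, cfdot_irr_ne (hS χ hχ) hχ0 h,
      cfdot_irr_ne hχ0 (hS ξ hξ) h'.symm, cfdot_irr_self hχ0]
    ring
  have h4 : τ (χ0 - χ0) = 0 := by
    rw [← cfnorm_eq0 (vchar_mem_CF (hτ.2 _ (hZ χ0 h0)).1), hτ.cfnorm (hZ χ0 h0), sub_self, cfnorm0]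
  obtain ⟨χ1, h5, h6⟩ := Finset.exists_mem_ne h1 χ0
  by_cases h7 : ∀ χ ∈ S, χ ≠ χ0 → b χ = b χ1
  · obtain ⟨m, h8, h9, h10⟩ := vchar_isometry_base_aux
      (fun χ hχ h => ⟨ha χ hχ h, hb χ hχ h, hab χ hχ h⟩) h5 h6 h7
      fun χ hχ h ξ hξ h' hne e => by have := h3 χ hχ h ξ hξ h' hne; tauto
    refine ⟨m, h8, h9, 1, .inl rfl, fun χ hχ => ?_⟩
    by_cases h : χ = χ0
    · rw [h, h4, sub_self, smul_zero]
    · rw [e χ hχ h, h10 χ hχ h, one_smul]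
  · push Not at h7
    obtain ⟨η, hη, hη0, h7⟩ := h7
    have hη1 : η ≠ χ1 := fun e => h7 (by rw [e])
    have h8 : a η = a χ1 := by have := h3 η hη hη0 χ1 h5 h6 hη1; tauto
    obtain ⟨m, h8, h9, h10⟩ := vchar_isometry_base_aux (a := b) (b := a)
      (fun χ hχ h => ⟨hb χ hχ h, ha χ hχ h, (hab χ hχ h).symm⟩) h5 h6
      (fun χ hχ h => by_contra fun hne => by
        have i1 := h3 χ hχ h χ1 h5 h6 fun e => hne (by rw [e])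
        have i2 := h3 χ hχ h η hη hη0 fun e => hne (by rw [e, h8])
        rw [h8] at i2
        exact h7 ((i2.resolve_left fun h => hne h.1).2.symm.trans (i1.resolve_left fun h => hne h.1).2))
      fun χ hχ h ξ hξ h' hne e => by have := h3 χ hχ h ξ hξ h' hne; tauto
    refine ⟨m, h8, h9, -1, .inr rfl, fun χ hχ => ?_⟩
    by_cases h : χ = χ0
    · rw [h, h4, sub_self, smul_zero]
    · rw [e χ hχ h, ← h10 χ hχ h, neg_one_smul, neg_sub]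

/-- (1.4) -/
theorem vchar_isometry_base {S : Finset (G → ℂ)} {τ : (G → ℂ) →+ (G → ℂ)} (hS : ∀ χ ∈ S, IsIrr H χ)
    (h1 : 1 < S.card) (hd : ∀ χ ∈ S, ∀ ψ ∈ S, χ 1 = ψ 1)
    (hτ : IsometryTo H L (ZspanOn S (sharp H)) (ZIrrOn L (sharp L)) τ) :
    ∃ (μ : (G → ℂ) → G → ℂ) (ε : ℂ), (ε = 1 ∨ ε = -1) ∧ (∀ χ ∈ S, IsIrr L (μ χ)) ∧ Set.InjOn μ S ∧
      ∀ χ ∈ S, ∀ ψ ∈ S, τ (χ - ψ) = ε • (μ χ - μ ψ) := by
  obtain ⟨χ0, h0⟩ := Finset.card_pos.1 (h1.trans' one_pos)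
  obtain ⟨m, h2, h3, e, he, h4⟩ := vchar_isometry_base' h1 hS h0 (fun χ hχ =>
    (mem_CFon_sharp.2 ⟨sub_mem (hS χ hχ).mem_CF (hS χ0 h0).mem_CF, sub_eq_zero.2 (hd χ hχ χ0 h0)⟩).2) hτ
  refine ⟨m, e, he, h2, h3, fun χ hχ ψ hψ => ?_⟩
  rw [← sub_sub_sub_cancel_right χ ψ χ0, map_sub τ (χ - χ0), h4 χ hχ, h4 ψ hψ, ← smul_sub,
    sub_sub_sub_cancel_right]

/- (1.5)(a-d): `cfResInd_sum_cfclass`, `cfnorm_Ind_irr`, `inertia_Ind_irr`, `cfclass_Ind`, ... are in `CF5`. -/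

/-- (1.5)(e) -/
theorem odd_induced_orthogonal (hH : H ⊴ L) (ho : Odd ♯L) (hθ : IsIrr H θ) (h1 : θ ≠ cf1 H) :
    ⟪cfInd L H θ, star (cfInd L H θ)⟫[L] = 0 := by
  rw [← cfInd_star]
  refine not_cfclass_Ind_ortho hH hθ hθ.star fun h => h1 ?_
  obtain ⟨g, hg, e⟩ := mem_cfclass.1 h
  have h2 : g ∈ inertia L θ := mem_of_sq_mem_of_odd ho hg
    ⟨pow_mem hg 2, by rw [sq, cfConjgM, ← e, cfConjg_star, ← e, star_star]⟩
  exact (odd_eq_conj_irr1 (ho.of_dvd_nat (card_dvd_of_le hH.1)) hθ).1 (e.trans h2.2)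

theorem cfker_cfInd_le (hH : H ≤ L) (hθ : IsChar H θ) (h0 : θ ≠ 0) :
    cfker L (cfInd L H θ) ≤ cfker H θ := fun a ha => by
  have h1 := cfker1 ha
  rw [cfIndE H θ ha.1, cfIndE H θ L.one_mem, mul_right_inj' (inv_ne_zero (cardC_ne_zero H))] at h1
  have h2 := congrArg Complex.re h1
  simp only [Complex.re_sum, mul_one, inv_mul_cancel] at h2
  have h3 := (Finset.sum_eq_sum_iff_of_le fun x _ => re_char_le hθ (x⁻¹ * a * x)).1 h2 1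
    (mem_elts.2 L.one_mem)
  rw [inv_one, one_mul, mul_one] at h3
  have h4 := eq_one_of_re_char hθ h3.ge
  exact (cfkerEchar hθ).2 ⟨by_contra fun h => h0 ((char1_eq0 hθ).1 (h4 ▸ cfun0 hθ.mem_CF h)), h4⟩

/-- (1.6)(a) -/
theorem sub_cfker_Ind_irr (hH : H ≤ L) (hA : L ≤ 𝐍(A)) (hθ : IsIrr H θ) :
    A ≤ cfker L (cfInd L H θ) ↔ A ≤ cfker H θ := 
  ⟨fun h => h.trans (cfker_cfInd_le hH hθ.isChar hθ.ne_zero), le_cfker_cfInd hH hA⟩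

/- (1.6)(b): `cfIndMod`, `cfIndQuo` are in `CF6`; (1.7)(a): `cfInd_sum_Inertia` is in `CF5`. -/

open Classical in
theorem cfInd_central_Inertia_aux (hH : H ⊴ L) (hθ : IsIrr H θ) (hab : der (inertia L θ) ≤ H)
    (hψ : IsIrr (inertia L θ) ψ) {e : ℕ} (he : e ≠ 0) (h : ⟪cfRes H ψ, θ⟫[H] = e) :
    cfInd L H θ = e • ∑ χ ∈ (Irr L).filter (fun χ => ⟪cfInd L H θ, χ⟫[L] ≠ 0), χ ∧
      ((Irr L).filter fun χ => ⟪cfInd L H θ, χ⟫[L] ≠ 0).card * e ^ 2 = H.relIndex (inertia L θ) ∧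
      ∀ χ, IsIrr L χ → ⟪cfInd L H θ, χ⟫[L] ≠ 0 → χ 1 = (inertia L θ).relIndex L * e * θ 1 := by
  have hT := normal_inertia hH hθ.mem_CF
  have he' : (e : ℂ) ≠ 0 := Nat.cast_ne_zero.2 he
  have h1 : ∀ χ, IsIrr L χ → ⟪cfInd L H θ, χ⟫[L] ≠ 0 → ⟪cfInd L H θ, χ⟫[L] = e := fun χ hχ h0 => by
    obtain ⟨ξ, hξ, h2, rfl⟩ := (cfInd_sum_Inertia hH hθ).2.2 χ hχ h0
    rw [((cfInd_sum_Inertia hH hθ).1 ξ hξ h2).2, cfdot_Ind_irr hT.1 hθ.isChar hξ.isChar]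
    rw [cfdot_Ind_irr hT.1 hθ.isChar hξ.isChar] at h2
    obtain ⟨l, hl, hk, rfl⟩ := exists_lin_mul_of_der_le hT hab hψ hξ (by
      rw [Clifford_invariant hT hψ hθ (h ▸ he') (inertia_inertia _ _), cfdotZr, h, map_natCast]
      exact mul_ne_zero he' h2)
    rw [cfRes_lin_mul hl hk, h]
  have h2 : cfInd L H θ = ∑ χ ∈ (Irr L).filter (fun χ => ⟪cfInd L H θ, χ⟫[L] ≠ 0), (e : ℂ) • χ :=
    (cfun_sum_constt (cfInd_mem_CF L H θ)).trans (Finset.sum_congr rfl fun χ hχ => by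
      rw [h1 χ (mem_Irr.1 (Finset.mem_filter.1 hχ).1) (Finset.mem_filter.1 hχ).2])
  refine ⟨by rw [← Nat.cast_smul_eq_nsmul ℂ, Finset.smul_sum]; exact h2, ?_, fun χ hχ h0 => ?_⟩
  · have h3 := cfnorm_Ind_irr' hH hθ
    rw [h2, (orthonormal_of_irr fun χ hχ => mem_Irr.1 (Finset.mem_filter.1 hχ).1).cfnorm_sum] at h3
    simp only [Complex.norm_natCast, Finset.sum_const, nsmul_eq_mul] at h3
    exact_mod_cast h3
  · have h3 := h1 χ hχ h0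
    rw [cfdot_Ind_irr hH.1 hθ.isChar hχ.isChar] at h3
    rw [Clifford_one hH hχ hθ (h3 ▸ he'), h3, mul_comm (e : ℂ)]

open Classical in
/-- (1.7)(b) -/
theorem cfInd_central_Inertia (hH : H ⊴ L) (hθ : IsIrr H θ) (hab : der (inertia L θ) ≤ H) :
    ∃ e : ℕ, e ≠ 0 ∧ cfInd L H θ = e • ∑ χ ∈ (Irr L).filter (fun χ => ⟪cfInd L H θ, χ⟫[L] ≠ 0), χ ∧
      ((Irr L).filter fun χ => ⟪cfInd L H θ, χ⟫[L] ≠ 0).card * e ^ 2 = H.relIndex (inertia L θ) ∧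
      ∀ χ, IsIrr L χ → ⟪cfInd L H θ, χ⟫[L] ≠ 0 → χ 1 = (inertia L θ).relIndex L * e * θ 1 := by
  have hT := normal_inertia hH hθ.mem_CF
  obtain ⟨ψ, hψ, h⟩ := constt_cfInd_irr hθ hT.1
  rw [cfdot_Ind_irr hT.1 hθ.isChar hψ.isChar] at h
  obtain ⟨e, he, h1, -⟩ := exists_cfRes_eq_smul hT hψ hθ h (inertia_inertia _ _)
  exact ⟨e, he, cfInd_central_Inertia_aux hH hθ hab hψ he h1⟩

open Classical in
/-- (1.7)(c) -/
theorem cfInd_Hall_central_Inertia (hH : H ⊴ L) (hθ : IsIrr H θ) (hab : der (inertia L θ) ≤ H)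
    (hHall : IsHallIn H (inertia L θ)) :
    cfInd L H θ = ∑ χ ∈ (Irr L).filter (fun χ => ⟪cfInd L H θ, χ⟫[L] ≠ 0), χ ∧
      ((Irr L).filter fun χ => ⟪cfInd L H θ, χ⟫[L] ≠ 0).card = H.relIndex (inertia L θ) ∧
      ∀ χ, IsIrr L χ → ⟪cfInd L H θ, χ⟫[L] ≠ 0 → χ 1 = (inertia L θ).relIndex L * θ 1 := by
  have hT := normal_inertia hH hθ.mem_CF
  obtain ⟨ψ, hψ, h⟩ := extend_Hall_irr hT hHall (sol_of_ab ((ab_quo_iff hT.2).2 hab)) hθ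
    (inertia_inertia _ _)
  simpa using cfInd_central_Inertia_aux hH hθ hab hψ one_ne_zero
    (by rw [h, cfdot_irr_self hθ, Nat.cast_one])

/-- (1.8) -/
theorem irr1_bound_quo (hχ : IsIrr L χ) (hB : B ≤ cfker L χ) (hDC : D ≤ C) (hC : C ≤ L)
    (hZ : ⁅D, C⁆ ≤ B) : (χ 1).re ≤ C.relIndex L * √(D.relIndex C) := by
  obtain ⟨θ, hθ, h⟩ := constt_cfRes_irr hχ hC
  have h1 := irr1_bound hθ hDC ((le_inf (commutator_le_of_le hDC le_rfl) (hZ.trans hB)).trans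
    ((cfker_Res χ).trans (cfker_constt (hχ.isChar.cfRes hC) hθ h)))
  have h2 := char1_ge_constt (hθ.isChar.cfInd hC) hχ (by rwa [cfdot_Ind_irr hC hθ.isChar hχ.isChar])
  rw [cfInd1 hC, ← Complex.ofReal_natCast, Complex.re_ofReal_mul] at h2
  exact h2.trans (mul_le_mul_of_nonneg_left (Real.le_sqrt_of_sq_le h1) (Nat.cast_nonneg _))

/- (1.9): `extend_coprime_aut`, `dvd_restrict_cfAut`, `make_pi_cfAut`; (1.10): `vchar_ker_mod_prim`,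
`int_eqAmod_prime_prim` are in `CF7`. -/

end Cfsg.Agent.OO
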