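import Cfsg.Agent.Lib.OO.BG3
import Cfsg.Agent.Lib.OO.Pf.BG4_C

/-! # Interface: B&G section 4 -/

set_option autoImplicit false
set_option linter.unusedSectionVars false
set_option linter.unusedVariables false

namespace Cfsg.Agent.OO

open Subgroup Cfsg.Agent.Coprime
open scoped Pointwise commutatorElement

universe u v w

variable {G : Type u} [Group G] [Finite G]

variable {A E H K L M N Q R S T U V : Subgroup G} {p q : ℕ}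

/-- Lemma 4.1 -/
theorem cyclic_center_factor_abelian (hN : N ≤ Zc H) (h : IsCyclic (H ⁒ N)) : Ab H :=
  Pf.cyclic_center_factor_abelian hN h

section PGroups
variable [Fact p.Prime]

/-- Proposition 4.3 -/
theorem exponent_odd_nil23 (hR : IsPGroup p R) (ho : Odd ♯R)
    (hc : Group.nilpotencyClass R ≤ 2 ∨ (3 < p ∧ Group.nilpotencyClass R ≤ 3)) :
    (∀ x ∈ Ohm p R, x ^ p = 1) ∧
    (der R ≤ Ohm p R → ∀ x ∈ R, ∀ y ∈ R, (x * y) ^ p = x ^ p * y ^ p) :=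
  Pf.exponent_odd_nil23 hR ho hc

/-- Proposition 4.4(a) -/
theorem max_SCN (hR : IsPGroup p R) (hA : A ⊴ R) (hab : Ab A)
    (hm : ∀ B, B ⊴ R → Ab B → A ≤ B → B = A) : IsSCN R A :=
  Pf.max_SCN hR hA hab hm
theorem exists_SCN_ge (hR : IsPGroup p R) (hA : A ⊴ R) (hab : Ab A) : ∃ B, IsSCN R B ∧ A ≤ B :=
  Pf.exists_SCN_ge hR hA hab

/-- Proposition 4.4(b) -/
theorem SCN_Sylow_cent_dprod (hR : Syl p R H) (hA : IsSCN R A) :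
    IsDprod (Op' p (H ⊓ 𝐂(A))) A (H ⊓ 𝐂(A)) :=
  Pf.SCN_Sylow_cent_dprod hR hA

/-- Lemma 4.5(b) -/
theorem Ohm1_extremal_odd (hR : IsPGroup p R) (ho : Odd ♯R) (hc : ¬ IsCyclic R) {x : G} (hx : x ∈ R)
    (hi : (zpowers x).relIndex R = p) : IsEp p 2 (Ohm p R) R :=
  Pf.Ohm1_extremal_odd hR ho hc hx hi
/-- Lemma 4.5(a) -/
theorem odd_normal_p2Elem_exists (hR : IsPGroup p R) (ho : Odd ♯R) (hc : ¬ IsCyclic R) :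
    ∃ S, IsEp p 2 S R ∧ S ⊴ R :=
  Pf.odd_normal_p2Elem_exists hR ho hc
/-- Lemma 4.5(c) -/
theorem Ohm1_odd_ucn2 (hR : IsPGroup p R) (ho : Odd ♯R) (hc : ¬ IsCyclic R) :
    ¬ IsCyclic (Ohm p (Zn 2 R)) ∧ ∀ x ∈ Ohm p (Zn 2 R), x ^ p = 1 :=
  Pf.Ohm1_odd_ucn2 hR ho hc

theorem odd_pgroup_rank1_cyclic (hR : IsPGroup p R) (ho : Odd ♯R) : IsCyclic R ↔ rp p R ≤ 1 :=
  Pf.odd_pgroup_rank1_cyclic hR ho
omit [Fact p.Prime] in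
theorem odd_rank1_Zgroup (ho : Odd ♯H) : IsZGroup H ↔ rank H ≤ 1 :=
  Pf.odd_rank1_Zgroup ho

/-- Proposition 4.6 -/
theorem odd_normal_rank2_exists (hR : IsPGroup p R) (ho : Odd ♯R) (hS : S ⊴ R) (hc : ¬ IsCyclic S) :
    ∃ Q, IsEp p 2 Q S ∧ Q ⊴ R :=
  Pf.odd_normal_rank2_exists hR ho hS hc

/-- Lemma 4.7 -/
theorem rank2_SCN3_empty (hR : IsPGroup p R) (ho : Odd ♯R) : rank R ≤ 2 ↔ ∀ A, ¬ IsSCNn 3 R A :=
  Pf.rank2_SCN3_empty hR ho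

/-- Proposition 4.8(a) -/
theorem rank2_exponent_p_p3group (hR : IsPGroup p R) (hr : rank R ≤ 2) (he : ∀ x ∈ R, x ^ p = 1) :
    ♯R ≤ p ^ 3 :=
  Pf.rank2_exponent_p_p3group hR hr he
/-- Proposition 4.8(b) -/
theorem exponent_Ohm1_rank2 (hR : IsPGroup p R) (hr : rank R ≤ 2) (hp : 3 < p) :
    ∀ x ∈ Ohm p R, x ^ p = 1 :=
  Pf.exponent_Ohm1_rank2 hR hr hp

/-- Lemma 4.9 -/
theorem quotient_p2_Ohm1 (hR : IsPGroup p R) (hp : 3 < p) (h : ♯(Ohm p R) ≤ p ^ 2) (hT : T ⊴ R) :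
    ♯(Ohm p (R ⁒ T)) ≤ p ^ 2 :=
  Pf.quotient_p2_Ohm1 hR hp h hT

/-- Lemma 4.10 -/
theorem Ohm1_metacyclic_p2Elem (hm : IsMetacyclic R) (hR : IsPGroup p R) (ho : Odd ♯R)
    (hc : ¬ IsCyclic R) : IsEp p 2 (Ohm p R) R :=
  Pf.Ohm1_metacyclic_p2Elem hm hR ho hc

/-- Proposition 4.11 (Huppert) -/
theorem p2_Ohm1_metacyclic (hR : IsPGroup p R) (hp : 3 < p) (h : ♯(Ohm p R) ≤ p ^ 2) :
    IsMetacyclic R :=
  Pf.p2_Ohm1_metacyclic hR hp h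

/-- Theorem 4.12 (Huppert) -/
theorem coprime_metacyclic_cent_sdprod (hR : IsPGroup p R) (ho : Odd ♯R) (hA : ¬ p ∣ ♯A) (hn : A ≤ 𝐍(R))
    (hm : IsMetacyclic R) :
    Ab ⁅R, A⁆ ∧ IsSdprod ⁅R, A⁆ (R ⊓ 𝐂(A)) R ∧
    (¬ Ab R → ¬ A ≤ 𝐂(R) → R ⊓ 𝐂(A) ≠ ⊥ ∧ IsCyclic ↥⁅R, A⁆ ∧ IsCyclic ↥(R ⊓ 𝐂(A)) ∧ der R ≤ ⁅R, A⁆) :=
  Pf.coprime_metacyclic_cent_sdprod hR ho hA hn hm

/-- Lemmas 4.13 and 4.14, for internal actions -/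
theorem pi_Aut_rank2_pgroup (hR : IsPGroup p R) (ho : Odd ♯R) (hr : rank R ≤ 2) (hn : A ≤ 𝐍(R))
    (hq : q.Prime) (hqA : q ∣ (A ⊓ 𝐂(R)).relIndex A) (hqp : q ≠ p) :
    q ∣ p ^ 2 - 1 ∧ q < p ∧ (q ∣ (p + 1) / 2 ∨ q ∣ (p - 1) / 2) :=
  Pf.pi_Aut_rank2_pgroup hR ho hr hn hq hqA hqp

/-- Theorem 4.16 (Blackburn) -/
theorem rank2_coprime_comm_cprod (hR : IsPGroup p R) (ho : Odd ♯R) (hR1 : R ≠ ⊥) (hr : rank R ≤ 2)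
    (hc : ⁅R, A⁆ = R) (hA : ¬ p ∣ ♯A) (hoA : Odd ♯A) :
    3 < p ∧ (Ab R ∨ ∃ S C : Subgroup G, ¬ Ab S ∧ ♯S = p ^ 3 ∧ expo S ∣ p ∧ IsCyclic C ∧
      IsCprod S C R ∧ Ohm p C = der S) :=
  Pf.rank2_coprime_comm_cprod hR ho hR1 hr hc hA hoA

/-- Theorem 4.17, for internal actions: `(A / C_A(R))'` is a `p`-group -/
theorem der1_Aut_rank2_pgroup (hR : IsPGroup p R) (ho : Odd ♯R) (hr : rank R ≤ 2) (hn : A ≤ 𝐍(R))
    (hoA : Odd ♯A) : ∀ x ∈ der A, (orderOf x).Coprime p → x ∈ 𝐂(R) :=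
  Pf.der1_Aut_rank2_pgroup hR ho hr hn hoA

/-- Theorem 4.18(a) -/
theorem rank2_max_pdiv (hs : Sol H) (ho : Odd ♯H) (hr : rp p H ≤ 2) (hq : q.Prime)
    (h : q ∣ (Op' p H).relIndex H) : q ≤ p :=
  Pf.rank2_max_pdiv hs ho hr hq h
/-- Theorem 4.18(c,e) -/
theorem rank2_der1_complement (hs : Sol H) (ho : Odd ♯H) (hr : rp p H ≤ 2) :
    PNil p (der H) ∧ der H ≤ Op'p p H ∧ ¬ p ∣ (Op'p p H).relIndex H :=
  Pf.rank2_der1_complement hs ho hr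
/-- Theorem 4.18(b) -/
theorem rank2_min_p_complement (hs : Sol H) (ho : Odd ♯H) (hr : rp p H ≤ 2)
    (hp : ∀ q : ℕ, q.Prime → q ∣ ♯H → p ≤ q) : PNil p H :=
  Pf.rank2_min_p_complement hs ho hr hp
theorem rank2_three_complement (hs : Sol H) (ho : Odd ♯H) (hr : rp p H ≤ 2) (hp : p = 3) : PNil p H :=
  Pf.rank2_three_complement hs ho hr hp
/-- Theorem 4.18(d) -/
theorem rank2_sub_p'core_der1 (hs : Sol H) (ho : Odd ♯H) (hr : rp p H ≤ 2) (hA : A ≤ der H)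
    (hp : ¬ p ∣ ♯A) : A ≤ Op' p (der H) :=
  Pf.rank2_sub_p'core_der1 hs ho hr hA hp

/-- Corollary 4.19 -/
theorem rank2_der1_cent_chief (ho : Odd ♯H) (hs : Sol H) (hK : K ⊴ H) (hr : rp p K ≤ 2)
    (hc : IsChiefIn H V U) (hp : IsPGroup p (U ⁒ V)) (hU : U ≤ K) : ⁅U, der H⁆ ≤ V :=
  Pf.rank2_der1_cent_chief ho hs hK hr hc hp hU

end PGroups

/-- Theorem 4.20(a) -/
theorem rank2_der1_sub_Fitting (ho : Odd ♯H) (hs : Sol H) (hr : rank (Fit H) ≤ 2) : der H ≤ Fit H :=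
  Pf.rank2_der1_sub_Fitting ho hs hr
/-- Theorem 4.20(b) -/
theorem rank2_char_Sylow_normal [Fact p.Prime] (ho : Odd ♯H) (hs : Sol H) (hr : rank (Fit H) ≤ 2)
    (hS : Syl p S H) (hT : (T.subgroupOf S).Characteristic) (hTS : T ≤ der S) : T ⊴ H :=
  Pf.rank2_char_Sylow_normal ho hs hr hS hT hTS
/-- Theorem 4.20(c), last factor -/
theorem rank2_min_p'core_Hall [Fact p.Prime] (ho : Odd ♯H) (hs : Sol H) (hr : rank (Fit H) ≤ 2)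
    (hp : ∀ q : ℕ, q.Prime → q ∣ ♯H → p ≤ q) : PNil p H :=
  Pf.rank2_min_p'core_Hall ho hs hr hp
/-- Theorem 4.20(c), intermediate factors -/
theorem rank2_ge_pcore_Hall (m : ℕ) (ho : Odd ♯H) (hs : Sol H) (hr : rank (Fit H) ≤ 2) :
    Hall {q | m ≤ q} (Opi {q | m ≤ q} H) H :=
  Pf.rank2_ge_pcore_Hall m ho hs hr
/-- Theorem 4.20(c), first factor -/
theorem rank2_max_pcore_Sylow [Fact p.Prime] (ho : Odd ♯H) (hs : Sol H) (hr : rank (Fit H) ≤ 2)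
    (hp : ∀ q : ℕ, q.Prime → q ∣ ♯H → q ≤ p) : Syl p (Op p H) H :=
  Pf.rank2_max_pcore_Sylow ho hs hr hp

end Cfsg.Agent.OO
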