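import Cfsg.Agent.Lib.OO.BG2
import Cfsg.Agent.Lib.OO.Pf.BG3_C

/-! # Interface: B&G section 3 and Wielandt's fixed point formula -/

set_option autoImplicit false
set_option linter.unusedSectionVars false
set_option linter.unusedVariables false

namespace Cfsg.Agent.OO

open Subgroup Cfsg.Agent.Coprime
open scoped Pointwise commutatorElement

universe u v w

variable {G : Type u} [Group G] [Finite G]

variable {H K L M N R R0 V : Subgroup G} {p q k : ℕ}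

/-- Lemma 3.1 -/
theorem Frobenius_semiregularP (h : IsSdprod K R L) (hK : K ≠ ⊥) (hR : R ≠ ⊥) :
    IsFrob L K R ↔ Semiregular K R :=
  Pf.Frobenius_semiregularP h hK hR
theorem IsFrob.sdprod (h : IsFrob L K R) : IsSdprod K R L :=
  Pf.IsFrob.sdprod h
theorem IsFrob.semiregular (h : IsFrob L K R) : Semiregular K R :=
  Pf.IsFrob.semiregular h
theorem IsFrob.semiregular_sym (h : IsFrob L K R) : Semiregular R K :=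
  Pf.IsFrob.semiregular_sym h
theorem IsFrob.coprime (h : IsFrob L K R) : (♯K).Coprime ♯R :=
  Pf.IsFrob.coprime h
theorem IsFrob.dvd_pred (h : IsFrob L K R) : ♯R ∣ ♯K - 1 :=
  Pf.IsFrob.dvd_pred h
theorem IsFrob.cent1_ker (h : IsFrob L K R) {x : G} (hx : x ∈ K) (h1 : x ≠ 1) : L ⊓ 𝐂[x] ≤ K :=
  Pf.IsFrob.cent1_ker h hx h1
theorem IsFrob.cent1_compl (h : IsFrob L K R) {x : G} (hx : x ∈ R) (h1 : x ≠ 1) : L ⊓ 𝐂[x] ≤ R :=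
  Pf.IsFrob.cent1_compl h hx h1
theorem IsFrob.mem_conj (h : IsFrob L K R) {x : G} (hx : x ∈ L) (h1 : x ∉ K) :
    ∃ k ∈ K, x ∈ k •ᶜ R :=
  Pf.IsFrob.mem_conj h hx h1
theorem IsFrob.normedTI (h : IsFrob L K R) : NormedTI (sharp R) L R :=
  Pf.IsFrob.normedTI h
theorem IsFrob.commg (h : IsFrob L K R) : ⁅K, R⁆ = K :=
  Pf.IsFrob.commg h
theorem IsFrob.conj (h : IsFrob L K R) (g : G) : IsFrob (g •ᶜ L) (g •ᶜ K) (g •ᶜ R) :=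
  Pf.IsFrob.conj h g
theorem IsFrob.subl (h : IsFrob L K R) {K1 : Subgroup G} (h1 : K1 ≠ ⊥) (hle : K1 ≤ K) (hn : R ≤ 𝐍(K1)) :
    IsFrob (K1 ⊔ R) K1 R :=
  Pf.IsFrob.subl h h1 hle hn
theorem IsFrob.subr (h : IsFrob L K R) {R1 : Subgroup G} (h1 : R1 ≠ ⊥) (hle : R1 ≤ R) :
    IsFrob (K ⊔ R1) K R1 :=
  Pf.IsFrob.subr h h1 hle
theorem IsFrob.compl_conj (h : IsFrob L K R) {R1 : Subgroup G} (h1 : IsSdprod K R1 L) : IsFrob L K R1 :=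
  Pf.IsFrob.compl_conj h h1
theorem Frobenius_kerP : IsFrobKer L K ↔
    K ≠ ⊥ ∧ K < L ∧ K ⊴ L ∧ ∀ x ∈ K, x ≠ 1 → L ⊓ 𝐂[x] ≤ K :=
  Pf.Frobenius_kerP
theorem regular_norm_dvd_pred (hn : R ≤ 𝐍(K)) (h : Semiregular K R) : ♯R ∣ ♯K - 1 :=
  Pf.regular_norm_dvd_pred hn h
theorem regular_norm_coprime (hn : R ≤ 𝐍(K)) (h : Semiregular K R) : (♯K).Coprime ♯R :=
  Pf.regular_norm_coprime hn h
theorem semiregular_sym (h : Semiregular K R) : Semiregular R K :=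
  Pf.semiregular_sym h
theorem semiregular_prime (hp : (♯R).Prime) (h : K ⊓ 𝐂(R) = ⊥) : Semiregular K R :=
  Pf.semiregular_prime hp h
theorem prime_FrobeniusP (h : IsSdprod K R L) (hK : K ≠ ⊥) (hp : (♯R).Prime) :
    IsFrob L K R ↔ K ⊓ 𝐂(R) = ⊥ :=
  Pf.prime_FrobeniusP h hK hp

/-- Lemma 3.2(b), special case -/
theorem Frobenius_proper_quotient (h : IsFrob L K R) (hN : N ⊴ L) (hlt : N < K) :
    IsFrob (L ⁒ N) (K ⁒ N) (R ⁒ N) :=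
  Pf.Frobenius_proper_quotient h hN hlt
/-- Lemma 3.2(a) -/
theorem Frobenius_normal_proper_ker (h : IsFrob L K R) (hN : N ⊴ L) (hK : ¬ K ≤ N) : N < K :=
  Pf.Frobenius_normal_proper_ker h hN hK
/-- Lemma 3.2(b) -/
theorem Frobenius_quotient (h : IsFrob L K R) (hN : N ⊴ L) (hK : ¬ K ≤ N) :
    IsFrob (L ⁒ N) (K ⁒ N) (R ⁒ N) :=
  Pf.Frobenius_quotient h hN hK

section Repr
variable {F : Type v} {W : Type w} [Field F] [AddCommGroup W] [Module F W] [FiniteDimensional F W]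

/-- Lemma 3.3 -/
theorem Frobenius_rfix_compl (ρ : Representation F L W) (h : IsFrob L K R) (hK : ((♯K : ℕ) : F) ≠ 0)
    (hk : ¬ K ≤ rker ρ) : rfix ρ R ≠ ⊥ :=
  Pf.Frobenius_rfix_compl ρ h hK hk

/-- Theorem 3.4 -/
theorem odd_prime_sdprod_rfix0 (ρ : Representation F L W) (h : IsSdprod K R L) (hs : Sol L) (ho : Odd ♯L)
    (hc : (♯K).Coprime ♯R) (hp : (♯R).Prime) (hF : ((♯L : ℕ) : F) ≠ 0) (h0 : rfix ρ R = ⊥) :
    ⁅R, K⁆ ≤ rker ρ :=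
  Pf.odd_prime_sdprod_rfix0 ρ h hs ho hc hp hF h0

/-- Theorem 3.5 -/
theorem Frobenius_prime_rfix1 (ρ : Representation F L W) (h : IsSdprod K R L) (hs : Sol L)
    (hp : (♯R).Prime) (hC : K ⊓ 𝐂(R) = ⊥) (hF : ((♯L : ℕ) : F) ≠ 0)
    (h1 : Module.finrank F (rfix ρ R) = 1) : der K ≤ rker ρ :=
  Pf.Frobenius_prime_rfix1 ρ h hs hp hC hF h1

end Repr

/-- Lemma 3.3, internal version -/
theorem Frobenius_cent_compl_ne_bot [Fact k.Prime] (h : IsFrob L K R) (hV : IsElementaryAbelian k V)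
    (hn : L ≤ 𝐍(V)) (hk : ¬ k ∣ ♯K) (hK : ¬ K ≤ 𝐂(V)) : V ⊓ 𝐂(R) ≠ ⊥ :=
  Pf.Frobenius_cent_compl_ne_bot h hV hn hk hK

/-- Aschbacher (40.6)(3) -/
theorem regular_pq_group_cyclic (hp : p.Prime) (hq : q.Prime) (hpq : p ≠ q) (hR : ♯R = p * q) (hH : H ≠ ⊥)
    (hn : R ≤ 𝐍(H)) (h : Semiregular H R) : IsCyclic R :=
  Pf.regular_pq_group_cyclic hp hq hpq hR hH hn h

/-- Theorem 3.4, internal version -/
theorem odd_prime_sdprod_abelem_cent1 [Fact k.Prime] (hs : Sol L) (ho : Odd ♯L) (h : IsSdprod K R L)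
    (hc : (♯K).Coprime ♯R) (hp : (♯R).Prime) (hV : IsElementaryAbelian k V) (hn : L ≤ 𝐍(V))
    (hk : ¬ k ∣ ♯L) (h0 : V ⊓ 𝐂(R) = ⊥) : ⁅R, K⁆ ≤ K ⊓ 𝐂(V) :=
  Pf.odd_prime_sdprod_abelem_cent1 hs ho h hc hp hV hn hk h0

/-- Theorem 3.5, internal version -/
theorem Frobenius_prime_cent_prime [Fact k.Prime] (hs : Sol L) (h : IsSdprod K R L) (hp : (♯R).Prime)
    (hC : K ⊓ 𝐂(R) = ⊥) (hV : IsElementaryAbelian k V) (hn : L ≤ 𝐍(V)) (hk : ¬ k ∣ ♯L)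
    (h1 : ♯(V ⊓ 𝐂(R)) = k) : der K ≤ K ⊓ 𝐂(V) :=
  Pf.Frobenius_prime_cent_prime hs h hp hC hV hn hk h1

/-- Theorem 3.6 -/
theorem odd_sdprod_Zgroup_cent_prime_plength1 (p : ℕ) [Fact p.Prime] (hs : Sol L) (ho : Odd ♯L)
    (h : IsSdprod H R L) (hc : (♯H).Coprime ♯R) (h0 : R0 ≤ R) (hp : (♯R0).Prime)
    (hZ : IsZGroup ↥(H ⊓ 𝐂(R0))) : PLen1 p ⁅H, R⁆ :=
  Pf.odd_sdprod_Zgroup_cent_prime_plength1 p hs ho h hc h0 hp hZ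

/-- Theorem 3.7 -/
theorem prime_Frobenius_sol_kernel_nil (hn : R ≤ 𝐍(K)) (hp : (♯R).Prime) (hC : K ⊓ 𝐂(R) = ⊥) :
    Nil K :=
  Pf.prime_Frobenius_sol_kernel_nil hn hp hC
theorem Frobenius_sol_kernel_nil (h : IsFrob L K R) : Nil K :=
  Pf.Frobenius_sol_kernel_nil h

/-- Theorem 3.8 -/
theorem odd_sdprod_primact_commg_sub_Fitting (h : IsSdprod K R L) (ho : Odd ♯L) (hs : Sol L)
    (hc : (♯K).Coprime ♯R) (hp : Semiprime K R) (hC : Fit K ⊓ 𝐂(R) = ⊥) : ⁅K, R⁆ ≤ Fit K :=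
  Pf.odd_sdprod_primact_commg_sub_Fitting h ho hs hc hp hC

/-- Proposition 3.9 -/
theorem odd_regular_pgroup_cyclic [Fact p.Prime] (hR : IsPGroup p R) (ho : Odd ♯R) (hH : H ≠ ⊥)
    (hn : R ≤ 𝐍(H)) (h : Semiregular H R) : IsCyclic R :=
  Pf.odd_regular_pgroup_cyclic hR ho hH hn h
theorem odd_regular_Zgroup (ho : Odd ♯R) (hH : H ≠ ⊥) (hn : R ≤ 𝐍(H)) (h : Semiregular H R) :
    IsZGroup R :=
  Pf.odd_regular_Zgroup ho hH hn h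
theorem abelian_regular_cyclic (hab : Ab R) (hH : H ≠ ⊥) (hn : R ≤ 𝐍(H)) (h : Semiregular H R) :
    IsCyclic R :=
  Pf.abelian_regular_cyclic hab hH hn h
/-- Aschbacher (40.6)(4) -/
theorem odd_regular_metacyclic (ho : Odd ♯R) (hH : H ≠ ⊥) (hn : R ≤ 𝐍(H)) (h : Semiregular H R) :
    IsMetacyclic R :=
  Pf.odd_regular_metacyclic ho hH hn h
/-- subgroups of prime order of an odd Frobenius complement are normal -/
theorem odd_regular_prime_normal (ho : Odd ♯R) (hH : H ≠ ⊥) (hn : R ≤ 𝐍(H)) (h : Semiregular H R)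
    (h0 : R0 ≤ R) (hp : (♯R0).Prime) : R0 ⊴ R :=
  Pf.odd_regular_prime_normal ho hH hn h h0 hp

/-- Peterfalvi (9.1) -/
theorem Frobenius_Wielandt_fixpoint (h : IsFrob L K R) (hn : L ≤ 𝐍(M)) (hc : (♯M).Coprime ♯L)
    (hs : Sol M) :
    ♯(M ⊓ 𝐂(L)) ^ ♯R * ♯M = ♯(M ⊓ 𝐂(R)) ^ ♯R * ♯(M ⊓ 𝐂(K)) ∧ (M ⊓ 𝐂(R) = ⊥ → K ≤ 𝐂(M)) ∧
    (M ⊓ 𝐂(K) = ⊥ → ♯M = ♯(M ⊓ 𝐂(R)) ^ ♯R) :=
  Pf.Frobenius_Wielandt_fixpoint h hn hc hs

/-- Theorem 3.10 -/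
theorem Frobenius_primact (h : IsFrob L K R) (hs : Sol L) (hn : L ≤ 𝐍(M)) (hM : Sol M) (hM1 : M ≠ ⊥)
    (hc : (♯M).Coprime ♯L) (hp : Semiprime M R) (hC : M ⊓ 𝐂(K) = ⊥) :
    (♯R).Prime ∧ ♯M = ♯(M ⊓ 𝐂(R)) ^ ♯R ∧ (IsCyclic ↥(M ⊓ 𝐂(R)) → der K ≤ K ⊓ 𝐂(M)) :=
  Pf.Frobenius_primact h hs hn hM hM1 hc hp hC

end Cfsg.Agent.OO
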