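import Cfsg.Agent.Lib.OO.MinOdd
import Cfsg.Agent.Lib.OO.Pf.BG10_A
import Cfsg.Agent.Lib.OO.Pf.BG10_B
import Cfsg.Agent.Lib.OO.Pf.BG10_C

/-! # Interface: B&G section 10 -/

set_option autoImplicit false
set_option linter.unusedSectionVars false
set_option linter.unusedVariables false

namespace Cfsg.Agent.OO

open Subgroup Cfsg.Agent.Coprime
open scoped Pointwise

universe u

variable {G : Type u} [Group G] [Finite G] [MinOdd G]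

/-! ### basic facts on `α, β, σ` -/

omit [MinOdd G] in
theorem alphaS_conj (M : Subgroup G) (g : G) : alphaS (g •ᶜ M) = alphaS M :=
  Pf.alphaS_conj M g
omit [MinOdd G] in
theorem betaS_conj (M : Subgroup G) (g : G) : betaS (g •ᶜ M) = betaS M :=
  Pf.betaS_conj M g
omit [MinOdd G] in
theorem sigmaS_conj (M : Subgroup G) (g : G) : sigmaS (g •ᶜ M) = sigmaS M :=
  Pf.sigmaS_conj M g
omit [MinOdd G] in
theorem Ma_conj (M : Subgroup G) (g : G) : Ma (g •ᶜ M) = g •ᶜ Ma M :=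
  Pf.Ma_conj M g
omit [MinOdd G] in
theorem Mb_conj (M : Subgroup G) (g : G) : Mb (g •ᶜ M) = g •ᶜ Mb M :=
  Pf.Mb_conj M g
omit [MinOdd G] in
theorem Ms_conj (M : Subgroup G) (g : G) : Ms (g •ᶜ M) = g •ᶜ Ms M :=
  Pf.Ms_conj M g
omit [MinOdd G] in
theorem Ma_normal (M : Subgroup G) : Ma M ⊴ M :=
  Pf.Ma_normal M
omit [MinOdd G] in
theorem Mb_normal (M : Subgroup G) : Mb M ⊴ M :=
  Pf.Mb_normal M
omit [MinOdd G] in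
theorem Ms_normal (M : Subgroup G) : Ms M ⊴ M :=
  Pf.Ms_normal M
omit [MinOdd G] in
theorem Ma_piGrp (M : Subgroup G) : PiGrp (alphaS M) (Ma M) :=
  Pf.Ma_piGrp M
omit [MinOdd G] in
theorem Mb_piGrp (M : Subgroup G) : PiGrp (betaS M) (Mb M) :=
  Pf.Mb_piGrp M
omit [MinOdd G] in
theorem Ms_piGrp (M : Subgroup G) : PiGrp (sigmaS M) (Ms M) :=
  Pf.Ms_piGrp M
omit [MinOdd G] in
theorem beta_sub_alpha (M : Subgroup G) : betaS M ⊆ alphaS M :=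
  Pf.beta_sub_alpha M
theorem alpha_sub_sigma {M : Subgroup G} (hM : IsCoatom M) : alphaS M ⊆ sigmaS M :=
  Pf.alpha_sub_sigma hM
theorem beta_sub_sigma {M : Subgroup G} (hM : IsCoatom M) : betaS M ⊆ sigmaS M :=
  Pf.beta_sub_sigma hM
omit [MinOdd G] in
theorem Mbeta_sub_Malpha (M : Subgroup G) : Mb M ≤ Ma M :=
  Pf.Mbeta_sub_Malpha M
theorem Malpha_sub_Msigma {M : Subgroup G} (hM : IsCoatom M) : Ma M ≤ Ms M :=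
  Pf.Malpha_sub_Msigma hM
theorem Mbeta_sub_Msigma {M : Subgroup G} (hM : IsCoatom M) : Mb M ≤ Ms M :=
  Pf.Mbeta_sub_Msigma hM
omit [MinOdd G] in
theorem norm_sigma_Sylow {M P : Subgroup G} {p : ℕ} (hp : p ∈ sigmaS M) (hP : Syl p P M) : 𝐍(P) ≤ M :=
  Pf.norm_sigma_Sylow hp hP
omit [MinOdd G] in
theorem sigma_Sylow_G {M P : Subgroup G} {p : ℕ} (hp : p ∈ sigmaS M) (hP : Syl p P M) : Syl p P ⊤ :=
  Pf.sigma_Sylow_G hp hP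
omit [MinOdd G] in
theorem sigma_Sylow_neq1 {M P : Subgroup G} {p : ℕ} (hM : IsCoatom M) (hp : p ∈ sigmaS M)
    (hP : Syl p P M) : P ≠ ⊥ :=
  Pf.sigma_Sylow_neq1 hM hp hP
omit [MinOdd G] in
theorem sigma_sub_pi {M : Subgroup G} (hM : IsCoatom M) : sigmaS M ⊆ piOf M :=
  Pf.sigma_sub_pi hM
theorem predI_sigma_alpha {M : Subgroup G} (hM : IsCoatom M) :
    sigmaS M ∩ alphaS (⊤ : Subgroup G) = alphaS M :=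
  Pf.predI_sigma_alpha hM
theorem predI_sigma_beta {M : Subgroup G} (hM : IsCoatom M) :
    sigmaS M ∩ betaS (⊤ : Subgroup G) = betaS M :=
  Pf.predI_sigma_beta hM
/-- `mmax_sigma_Sylow` -/
theorem mmax_sigma_Sylow {M P : Subgroup G} {p : ℕ} [Fact p.Prime] (hM : IsCoatom M) (hP : Syl p P M)
    (hN : 𝐍(P) ≤ M) : Syl p P ⊤ :=
  Pf.mmax_sigma_Sylow hM hP hN
theorem mmax_Fitting_neq1 {M : Subgroup G} (hM : IsCoatom M) : Fit M ≠ ⊥ :=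
  Pf.mmax_Fitting_neq1 hM

/-- Theorem 10.1(d) -/
theorem sigma_Sylow_trans {M X : Subgroup G} {p : ℕ} {g : G} (hp : p ∈ sigmaS M) (hX : Syl p X M)
    (hg : g •ᶜ X ≤ M) : g ∈ M :=
  Pf.sigma_Sylow_trans hp hX hg

/-- Theorem 10.1(a, b, c) -/
theorem sigma_group_trans {M X : Subgroup G} {p : ℕ} (hM : IsCoatom M) (hp : p ∈ sigmaS M)
    (hX : IsPGroup p X) :
    (∀ g : G, X ≤ M → g •ᶜ X ≤ M → ∃ m ∈ M, ∃ c ∈ 𝐂(X), g = m * c) ∧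
    ((∃ g : G, X ≤ g •ᶜ M) ∧
      ∀ g h : G, X ≤ g •ᶜ M → X ≤ h •ᶜ M → ∃ c ∈ 𝐂(X), h •ᶜ M = c •ᶜ (g •ᶜ M)) ∧
    (X ≤ M → IsProd 𝐂(X) (M ⊓ 𝐍(X)) 𝐍(X)) :=
  Pf.sigma_group_trans hM hp hX

/-- Theorem 10.1(e) -/
theorem sigma_cent_trans {M X : Subgroup G} {p : ℕ} {g : G} (hM : IsCoatom M) (hp : p ∈ sigmaS M)
    (hX : IsPGroup p X) (hXM : X ≤ M) (hC : 𝐂(X) ≤ M) (hg : g •ᶜ X ≤ M) : g ∈ M :=
  Pf.sigma_cent_trans hM hp hX hXM hC hg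

/-- Theorem 10.2(a1) -/
theorem Malpha_Hall {M : Subgroup G} (hM : IsCoatom M) : Hall (alphaS M) (Ma M) M :=
  Pf.Malpha_Hall hM
/-- Theorem 10.2(b1) -/
theorem Msigma_Hall {M : Subgroup G} (hM : IsCoatom M) : Hall (sigmaS M) (Ms M) M :=
  Pf.Msigma_Hall hM
theorem pi_Msigma {M : Subgroup G} (hM : IsCoatom M) : piOf (Ms M) = sigmaS M :=
  Pf.pi_Msigma hM
/-- Theorem 10.2(b2) -/
theorem Msigma_Hall_G {M : Subgroup G} (hM : IsCoatom M) : Hall (sigmaS M) (Ms M) ⊤ :=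
  Pf.Msigma_Hall_G hM
/-- Theorem 10.2(a2) -/
theorem Malpha_Hall_G {M : Subgroup G} (hM : IsCoatom M) : Hall (alphaS M) (Ma M) ⊤ :=
  Pf.Malpha_Hall_G hM
/-- Theorem 10.2(c) -/
theorem Msigma_der1 {M : Subgroup G} (hM : IsCoatom M) : Ms M ≤ der M :=
  Pf.Msigma_der1 hM
/-- Theorem 10.2(d1) -/
theorem Malpha_quo_rank2 {M : Subgroup G} (hM : IsCoatom M) : rank (M ⁒ Ma M) ≤ 2 :=
  Pf.Malpha_quo_rank2 hM
/-- Theorem 10.2(d2) -/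
theorem Malpha_quo_nil {M : Subgroup G} (hM : IsCoatom M) : Nil (der M ⁒ Ma M) :=
  Pf.Malpha_quo_nil hM
/-- Theorem 10.2(e) -/
theorem Msigma_neq1 {M : Subgroup G} (hM : IsCoatom M) : Ms M ≠ ⊥ :=
  Pf.Msigma_neq1 hM
theorem norm_Msigma {M : Subgroup G} (hM : IsCoatom M) : 𝐍(Ms M) = M :=
  Pf.norm_Msigma hM

/-- Lemma 10.3 -/
theorem cent_alpha'_uniq {M X : Subgroup G} (hM : IsCoatom M) (hX : X ≤ M) (ha : PiGrp (alphaS M)ᶜ X)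
    (hr : 2 ≤ rank (Ma M ⊓ 𝐂(X))) : Uniq (M ⊓ 𝐂(X)) :=
  Pf.cent_alpha'_uniq hM hX ha hr

/-- Lemma 10.4(a) -/
theorem der1_quo_sigma' {M : Subgroup G} {p : ℕ} (hM : IsCoatom M) (hp : p.Prime)
    (h : p ∣ (der M).relIndex M) : p ∉ sigmaS M :=
  Pf.der1_quo_sigma' hM hp h

/-- Lemma 10.4(b) -/
theorem cent1_sigma'_Zgroup {M P : Subgroup G} {p : ℕ} [Fact p.Prime] (hM : IsCoatom M) (hp : p ∉ sigmaS M)
    (hP : Syl p P M) (hP1 : P ≠ ⊥) :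
    ∃ x ∈ Ohm p (Zc P), x ≠ 1 ∧ ¬ UniqMax 𝐂[x] M ∧ IsZGroup ↥(Ma M ⊓ 𝐂[x]) :=
  Pf.cent1_sigma'_Zgroup hM hp hP hP1

/-- Lemma 10.4(c), part 1 -/
theorem sigma'_rank2_max {M A : Subgroup G} {p : ℕ} [Fact p.Prime] (hM : IsCoatom M) (hp : p ∉ sigmaS M)
    (hr : rp p M = 2) (hA : IsEp p 2 A M) : IsMaxEp p A ⊤ :=
  Pf.sigma'_rank2_max hM hp hr hA

/-- Lemma 10.4(c), part 2 -/
theorem sigma'_rank2_beta' {M : Subgroup G} {p : ℕ} [Fact p.Prime] (hM : IsCoatom M) (hp : p ∉ sigmaS M)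
    (hr : rp p M = 2) : p ∉ betaS (⊤ : Subgroup G) :=
  Pf.sigma'_rank2_beta' hM hp hr

/-- Lemma 10.5, part 1 -/
theorem sigma'_norm_mmax_rank2 {M X : Subgroup G} {p : ℕ} [Fact p.Prime] (hM : IsCoatom M)
    (hX : IsPGroup p X) (hN : 𝐍(X) ≤ M) (hp : p ∉ sigmaS M) : rp p M = 2 :=
  Pf.sigma'_norm_mmax_rank2 hM hX hN hp

/-- Lemma 10.5, part 2 -/
theorem sigma'1Elem_sub_p2Elem {M X : Subgroup G} {p : ℕ} [Fact p.Prime] (hM : IsCoatom M)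
    (hX : IsEp p 1 X ⊤) (hN : 𝐍(X) ≤ M) (hp : p ∉ sigmaS M) : ∃ A, IsEp p 2 A M ∧ X ≤ A :=
  Pf.sigma'1Elem_sub_p2Elem hM hX hN hp

/-- Theorem 10.6 -/
theorem mFT_proper_plength1 (p : ℕ) [Fact p.Prime] {H : Subgroup G} (hH : H ≠ ⊤) : PLen1 p H :=
  Pf.mFT_proper_plength1 p hH

/-- Corollary 10.7(a), second part -/
theorem mFT_Sylow_der1 {p : ℕ} [Fact p.Prime] {P : Subgroup G} (hP : Syl p P ⊤) : P ≤ der 𝐍(P) :=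
  Pf.mFT_Sylow_der1 hP
/-- Corollary 10.7(a), first part -/
theorem mFT_Sylow_sdprod_commg {p : ℕ} [Fact p.Prime] {P V : Subgroup G} (hP : Syl p P ⊤)
    (hV : IsSdprod P V 𝐍(P)) : ⁅P, V⁆ = P :=
  Pf.mFT_Sylow_sdprod_commg hP hV
/-- Corollary 10.7(b) -/
theorem mFT_rank2_Sylow_cprod {p : ℕ} [Fact p.Prime] {P : Subgroup G} (hP : Syl p P ⊤) (hr : rank P < 3)
    (hab : ¬ Ab P) : ∃ S C : Subgroup G, ¬ Ab S ∧ ♯S = p ^ 3 ∧ expo S ∣ p ∧ IsCyclic C ∧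
      IsCprod S C P ∧ Ohm p C = Zc S :=
  Pf.mFT_rank2_Sylow_cprod hP hr hab
/-- Corollary 10.7(c) -/
theorem mFT_sub_Sylow_trans {p : ℕ} [Fact p.Prime] {P Q : Subgroup G} {x : G} (hP : Syl p P ⊤) (hQ : Q ≤ P)
    (hx : x •ᶜ Q ≤ P) : ∃ y ∈ 𝐍(P), ∃ c ∈ 𝐂(Q), x = y * c :=
  Pf.mFT_sub_Sylow_trans hP hQ hx
/-- Corollary 10.7(d) -/
theorem mFT_subnorm_Sylow {p : ℕ} [Fact p.Prime] {P Q : Subgroup G} (hP : Syl p P ⊤) (hQ : Q ≤ P) :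
    Syl p (P ⊓ 𝐍(Q)) 𝐍(Q) :=
  Pf.mFT_subnorm_Sylow hP hQ
/-- Corollary 10.7(e) -/
theorem mFT_Sylow_normalI {p : ℕ} [Fact p.Prime] {P Q R : Subgroup G} (hP : Syl p P ⊤) (hR : IsPGroup p R)
    (hQ : Q ≤ P ⊓ R) (hn : Q ⊴ 𝐍(P)) : Q ⊴ 𝐍(R) :=
  Pf.mFT_Sylow_normalI hP hR hQ hn

/-- Lemma 10.8(c) -/
theorem beta_max_pdiv {M : Subgroup G} {p : ℕ} [Fact p.Prime] (hM : IsCoatom M) (hp : p ∉ betaS M) :
    PNil p (der M) ∧ PNil p (Ms M) ∧ ∀ q : ℕ, q.Prime → q ∣ (Op' p M).relIndex M → q ≤ p :=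
  Pf.beta_max_pdiv hM hp
/-- Lemma 10.8(a), first part -/
theorem Mbeta_Hall {M : Subgroup G} (hM : IsCoatom M) : Hall (betaS M) (Mb M) M :=
  Pf.Mbeta_Hall hM
/-- Lemma 10.8(a), second part -/
theorem Mbeta_Hall_G {M : Subgroup G} (hM : IsCoatom M) : Hall (betaS M) (Mb M) ⊤ :=
  Pf.Mbeta_Hall_G hM
theorem Mbeta_der1 {M : Subgroup G} (hM : IsCoatom M) : Mb M ≤ der M :=
  Pf.Mbeta_der1 hM
/-- Lemma 10.8(b), equivalent form -/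
theorem Mbeta_quo_nil {M : Subgroup G} (hM : IsCoatom M) : Nil (der M ⁒ Mb M) :=
  Pf.Mbeta_quo_nil hM
/-- Lemma 10.8(b) -/
theorem beta'_der1_nil {M H : Subgroup G} (hM : IsCoatom M) (hb : PiGrp (betaS M)ᶜ H) (hH : H ≤ der M) :
    Nil H :=
  Pf.beta'_der1_nil hM hb hH

/-- Corollary 10.9(a) -/
theorem beta'_cent_Sylow {M X : Subgroup G} {p q : ℕ} [Fact p.Prime] [Fact q.Prime] (hM : IsCoatom M)
    (hp : p ∉ betaS M) (hq : q ∉ betaS M) (hX : IsPGroup q X)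
    (h : (p ≠ q ∧ X ≤ der M) ∨ (p < q ∧ X ≤ M)) :
    (∃ S, Syl p S (Ms M) ∧ X ≤ 𝐂(S)) ∧ (p ∈ alphaS M → Uniq (M ⊓ 𝐂(X))) ∧
    (Syl q X (der M) → ∃ P, Syl p P (der M) ∧ P ≤ der (M ⊓ 𝐍(X))) :=
  Pf.beta'_cent_Sylow hM hp hq hX h

/-- Corollary 10.9(b) -/
theorem nonuniq_norm_Sylow_pprod {M H S : Subgroup G} {p : ℕ} [Fact p.Prime] (hM : IsCoatom M)
    (hH : IsCoatom H) (hne : H ≠ M) (hS : Syl p S ⊤) (hN : 𝐍(S) ≤ H ⊓ M) :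
    Mb M ⊔ (H ⊓ M) = M ∧ alphaS M = betaS M :=
  Pf.nonuniq_norm_Sylow_pprod hM hH hne hS hN

/-- Proposition 10.10 -/
theorem max_normed_2Elem_signaliser {A Q : Subgroup G} {p q : ℕ} [Fact p.Prime] [Fact q.Prime] (hpq : p ≠ q)
    (hA : IsEp p 2 A ⊤) (hAm : IsMaxEp p A ⊤) (hQ : IsMaxNormed ⊤ A {q} Q) (hq : q ∣ ♯𝐂(A)) :
    ∃ P, Syl p P ⊤ ∧ A ≤ P ∧ IsProd (Op' p 𝐂(P)) (𝐍(P) ⊓ 𝐍(Q)) 𝐍(P) ∧ P ≤ der 𝐍(Q) ∧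
      (Narrow q Q → der P ≤ 𝐂(Q)) :=
  Pf.max_normed_2Elem_signaliser hpq hA hAm hQ hq

/-- Proposition 10.11(a) -/
theorem sigma'_not_uniq {M K : Subgroup G} (hM : IsCoatom M) (hK : K ≤ M) (hs : PiGrp (sigmaS M)ᶜ K) :
    ¬ Uniq K :=
  Pf.sigma'_not_uniq hM hK hs
/-- Proposition 10.11(b) -/
theorem sub'cent_sigma_rank1 {M K : Subgroup G} (hM : IsCoatom M) (hK : K ≤ M)
    (hs : PiGrp (sigmaS M)ᶜ K) : rank (K ⊓ 𝐂(Ms M)) ≤ 1 :=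
  Pf.sub'cent_sigma_rank1 hM hK hs
/-- Proposition 10.11(c) -/
theorem sub'cent_sigma_cyclic {M K : Subgroup G} (hM : IsCoatom M) (hK : K ≤ M)
    (hs : PiGrp (sigmaS M)ᶜ K) :
    IsCyclic ↥(K ⊓ 𝐂(Ms M) ⊓ der M) ∧ K ⊓ 𝐂(Ms M) ⊓ der M ⊴ M :=
  Pf.sub'cent_sigma_cyclic hM hK hs
/-- Proposition 10.11(d) -/
theorem commG_sigma'_1Elem_cyclic {M K P : Subgroup G} {p : ℕ} [Fact p.Prime] (hM : IsCoatom M)
    (hK : K ≤ M) (hs : PiGrp (sigmaS M)ᶜ K) (hpK : ¬ p ∣ ♯K) (hp : p ∉ sigmaS M)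
    (hP : IsEp p 1 P (M ⊓ 𝐍(K))) (hC : Ms M ⊓ 𝐂(P) = ⊥) (hab : Ab K) :
    ⁅K, P⁆ ≤ 𝐂(Ms M) ∧ IsCyclic ↥⁅K, P⁆ ∧ ⁅K, P⁆ ⊴ M :=
  Pf.commG_sigma'_1Elem_cyclic hM hK hs hpK hp hP hC hab

/-- Lemma 10.12 -/
theorem sigma_disjoint {M H : Subgroup G} (hM : IsCoatom M) (hH : IsCoatom H) (hn : NotConj H M) :
    Ma M ⊓ Ms H = ⊥ ∧ Disjoint (alphaS M) (sigmaS H) ∧
    (Nil (Ms M) → Ms M ⊓ Ms H = ⊥ ∧ Disjoint (sigmaS M) (sigmaS H)) :=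
  Pf.sigma_disjoint hM hH hn

/-- Lemma 10.13 -/
theorem basic_p2maxElem_structure {A P : Subgroup G} {p : ℕ} [Fact p.Prime] (hA : IsEp p 2 A ⊤)
    (hAm : IsMaxEp p A ⊤) (hP : IsPGroup p P) (hAP : A ≤ P) (hab : ¬ Ab P) :
    IsEp p 1 (Ohm p (Zc P)) A ∧
    (∃ Z : Subgroup G, IsCyclic Z ∧ Ohm p (Zc P) ≤ Z ∧
      ∀ A0, IsEp p 1 A0 A → A0 ≠ Ohm p (Zc P) → IsDprod A0 Z (P ⊓ 𝐂(A))) ∧
    ∀ A0 A1, IsEp p 1 A0 A → A0 ≠ Ohm p (Zc P) → IsEp p 1 A1 A → A1 ≠ Ohm p (Zc P) →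
      ∃ g ∈ P ⊓ 𝐍(A), A1 = g •ᶜ A0 :=
  Pf.basic_p2maxElem_structure hA hAm hP hAP hab

/-- Proposition 10.14(a) -/
theorem beta_not_narrow {p : ℕ} (hp : p ∈ betaS (⊤ : Subgroup G)) :
    (∀ A : Subgroup G, IsEp p 2 A ⊤ → ¬ IsMaxEp p A ⊤) ∧
    ∀ P : Subgroup G, Syl p P ⊤ → ∀ A, IsEp p 2 A P → ¬ IsMaxEp p A P :=
  Pf.beta_not_narrow hp
/-- Proposition 10.14(b) -/
theorem beta_noncyclic_uniq {p : ℕ} {R : Subgroup G} (hp : p ∈ betaS (⊤ : Subgroup G)) (hR : IsPGroup p R)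
    (hr : 1 < rank R) : Uniq R :=
  Pf.beta_noncyclic_uniq hp hR hr
/-- Proposition 10.14(c) -/
theorem beta_subnorm_uniq {p : ℕ} {P X : Subgroup G} (hp : p ∈ betaS (⊤ : Subgroup G)) (hP : Syl p P ⊤)
    (hX : X ≤ P) : Uniq (P ⊓ 𝐍(X)) :=
  Pf.beta_subnorm_uniq hp hP hX
/-- Proposition 10.14(d) -/
theorem beta_norm_sub_mmax {M Y : Subgroup G} (hM : IsCoatom M) (hY : Y ≤ M) (hb : PiGrp (betaS M) Y)
    (hY1 : Y ≠ ⊥) : 𝐍(Y) ≤ M :=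
  Pf.beta_norm_sub_mmax hM hY hb hY1

end Cfsg.Agent.OO
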