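import Cfsg.Agent.Lib.OO.MinOdd
import Cfsg.Agent.Lib.OO.Pf.BG11_A

/-! # Interface: B&G section 11 -/

set_option autoImplicit false
set_option linter.unusedSectionVars false
set_option linter.unusedVariables false

namespace Cfsg.Agent.OO

open Subgroup Cfsg.Agent.Coprime
open scoped Pointwise

universe u

variable {G : Type u} [Group G] [Finite G] [MinOdd G]

theorem sigma'_Sylow_contra {M P : Subgroup G} {p : ℕ} [Fact p.Prime] (hP : Syl p P M) (hp : p ∉ sigmaS M) :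
    ¬ 𝐍(P) ≤ M :=
  Pf.sigma'_Sylow_contra hP hp

variable {p : ℕ} [Fact p.Prime] {M A0 A : Subgroup G}

theorem p_rank_exceptional (hM : IsCoatom M) (hE : ExceptionalMax p M A0 A) : rp p M = 2 :=
  Pf.p_rank_exceptional hM hE

theorem exceptional_pmaxElem (hM : IsCoatom M) (hE : ExceptionalMax p M A0 A) : IsMaxEp p A ⊤ :=
  Pf.exceptional_pmaxElem hM hE

/-- Lemma 11.1 -/
theorem exceptional_TIsigmaJ (hM : IsCoatom M) (hE : ExceptionalMax p M A0 A) {g : G} {q : ℕ}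
    [Fact q.Prime] {Q1 Q2 : Subgroup G} (hg : g ∉ M) (hA : A ≤ g •ᶜ M) (h1 : Syl q Q1 (Ms M))
    (hn1 : A ≤ 𝐍(Q1)) (h2 : Syl q Q2 (g •ᶜ Ms M)) (hn2 : A ≤ 𝐍(Q2)) :
    Q1 ⊓ Q2 = ⊥ ∧ ∀ X, IsEp p 1 X A → Q1 ⊓ 𝐂(X) = ⊥ ∨ Q2 ⊓ 𝐂(X) = ⊥ :=
  Pf.exceptional_TIsigmaJ hM hE hg hA h1 hn1 h2 hn2

/-- Corollary 11.2 -/
theorem exceptional_TI_MsigmaJ (hM : IsCoatom M) (hE : ExceptionalMax p M A0 A) {g : G} (hg : g ∉ M)
    (hA : A ≤ g •ᶜ M) : Ms M ⊓ g •ᶜ M = ⊥ ∧ Ms M ⊓ 𝐂(g •ᶜ A0) = ⊥ :=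
  Pf.exceptional_TI_MsigmaJ hM hE hg hA

/-- Theorem 11.3 -/
theorem exceptional_sigma_nil (hM : IsCoatom M) (hE : ExceptionalMax p M A0 A) : Nil (Ms M) :=
  Pf.exceptional_sigma_nil hM hE

/-- Corollary 11.4 -/
theorem exceptional_sigma_uniq (hM : IsCoatom M) (hE : ExceptionalMax p M A0 A) {H : Subgroup G}
    (hH : IsCoatom H) (hAH : A ≤ H) (h : Ms H ⊓ Ms M ≠ ⊥) : H = M :=
  Pf.exceptional_sigma_uniq hM hE hH hAH h

/-- Theorem 11.5 -/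
theorem exceptional_Sylow_abelian (hM : IsCoatom M) (hE : ExceptionalMax p M A0 A) {P : Subgroup G}
    (hP : Syl p P M) : Ab P :=
  Pf.exceptional_Sylow_abelian hM hE hP

/-- Corollary 11.6 -/
theorem exceptional_structure (hM : IsCoatom M) (hE : ExceptionalMax p M A0 A) {P : Subgroup G}
    (hP : Syl p P M) (hAP : A ≤ P) :
    A = Ohm p P ∧ Ms M ⊓ 𝐂(A) = ⊥ ∧
    ∃ A1 A2, IsEp p 1 A1 A ∧ IsEp p 1 A2 A ∧ A1 ≠ A2 ∧ Ms M ⊓ 𝐂(A1) = ⊥ ∧ Ms M ⊓ 𝐂(A2) = ⊥ :=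
  Pf.exceptional_structure hM hE hP hAP

/-- Theorem 11.7 -/
theorem exceptional_mul_sigma_normal (hM : IsCoatom M) (hE : ExceptionalMax p M A0 A) :
    Ms M ⊔ A ⊴ M :=
  Pf.exceptional_mul_sigma_normal hM hE

end Cfsg.Agent.OO
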