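import Cfsg.Agent.Lib.OO.MinOdd
import Cfsg.Agent.Lib.OO.Pf.BG9_A

/-! # Interface: B&G section 9 -/

set_option autoImplicit false
set_option linter.unusedSectionVars false
set_option linter.unusedVariables false

namespace Cfsg.Agent.OO

open Subgroup Cfsg.Agent.Coprime
open scoped Pointwise

universe u

variable {G : Type u} [Group G] [Finite G] [MinOdd G]

/-- Theorem 9.1(b) -/
theorem noncyclic_normed_sub_Uniqueness {p : ℕ} [Fact p.Prime] {M B : Subgroup G} (hM : IsCoatom M)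
    (hBM : B ≤ M) (hB : IsElementaryAbelian p B) (hc : ¬ IsCyclic B)
    (h : ∀ K, IsNormed ⊤ B ({p} : Set ℕ)ᶜ K → K ≤ M) : Uniq B :=
  Pf.noncyclic_normed_sub_Uniqueness hM hBM hB hc h

/-- Theorem 9.1(a) -/
theorem noncyclic_cent1_sub_Uniqueness {p : ℕ} [Fact p.Prime] {M B : Subgroup G} (hM : IsCoatom M)
    (hBM : B ≤ M) (hB : IsElementaryAbelian p B) (hc : ¬ IsCyclic B)
    (h : ∀ b ∈ B, b ≠ 1 → 𝐂[b] ≤ M) : Uniq B :=
  Pf.noncyclic_cent1_sub_Uniqueness hM hBM hB hc h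

/-- Corollary 9.2 -/
theorem cent_uniq_Uniqueness {K L : Subgroup G} (hL : Uniq L) (hK : K ≤ 𝐂(L)) (hr : 2 ≤ rank K) :
    Uniq K :=
  Pf.cent_uniq_Uniqueness hL hK hr

/-- Corollary 9.3 -/
theorem any_cent_rank3_Uniquness {p : ℕ} [Fact p.Prime] {A B : Subgroup G} (hA : Ab A) (hpA : IsPGroup p A)
    (hr : 3 ≤ rank A) (hu : Uniq A) (hpB : IsPGroup p B) (hc : ¬ IsCyclic B) (hC : 3 ≤ rp p 𝐂(B)) :
    Uniq B :=
  Pf.any_cent_rank3_Uniquness hA hpA hr hu hpB hc hC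

/-- Lemma 9.4 -/
theorem any_rank3_Fitting_Uniqueness {p : ℕ} [Fact p.Prime] {M P : Subgroup G} (hM : IsCoatom M)
    (hr : 3 ≤ rp p (Fit M)) (hP : IsPGroup p P) (hrP : 3 ≤ rank P) : Uniq P :=
  Pf.any_rank3_Fitting_Uniqueness hM hr hP hrP

/-- Lemma 9.5 -/
theorem SCN_3_Uniqueness {p : ℕ} [Fact p.Prime] {A : Subgroup G} (hA : IsSCN3p p A) : Uniq A :=
  Pf.SCN_3_Uniqueness hA

/-- Theorem 9.6, first assertion -/
theorem rank3_Uniqueness {K : Subgroup G} (hK : K ≠ ⊤) (hr : 3 ≤ rank K) : Uniq K :=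
  Pf.rank3_Uniqueness hK hr

/-- Theorem 9.6, second assertion -/
theorem cent_rank3_Uniqueness {K : Subgroup G} (hr : 2 ≤ rank K) (hC : 3 ≤ rank 𝐂(K)) : Uniq K :=
  Pf.cent_rank3_Uniqueness hr hC

/-- Theorem 9.6, final observation -/
theorem nonmaxElem2_Uniqueness {p : ℕ} [Fact p.Prime] {A : Subgroup G} (hA : IsEp p 2 A ⊤)
    (hm : ¬ IsMaxEp p A ⊤) : Uniq A :=
  Pf.nonmaxElem2_Uniqueness hA hm

end Cfsg.Agent.OO
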