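import Cfsg.Agent.Lib.OO.BG5
import Cfsg.Agent.Lib.OO.BGAB
import Cfsg.Agent.Lib.OO.Pf.BG6_A

/-! # Interface: B&G section 6 -/

set_option autoImplicit false
set_option linter.unusedSectionVars false
set_option linter.unusedVariables false

namespace Cfsg.Agent.OO

open Subgroup Cfsg.Agent.Coprime
open scoped Pointwise commutatorElement

universe u v w

variable {G : Type u} [Group G] [Finite G]

variable {A E H K L Q S U : Subgroup G} {p : ℕ}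

/-- Theorem 6.1 -/
theorem odd_p_abelian_constrained (p : ℕ) [Fact p.Prime] (ho : Odd ♯H) (hs : Sol H) :
    PAbConstrained p H :=
  Pf.odd_p_abelian_constrained p ho hs

/- Theorem 6.2 is `Puig_factorisation` / `Puig_center_normal` (BGAB). -/

/-- Lemma 6.3(a) -/
theorem coprime_der1_sdprod (h : IsSdprod K H L) (hc : (♯K).Coprime ♯H) (hs : Sol K) (hK : K ≤ der L) :
    ⁅K, H⁆ = K ∧ K ⊓ 𝐂(H) ≤ der K :=
  Pf.coprime_der1_sdprod h hc hs hK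
/-- Lemma 6.3(b) -/
theorem prime_nil_der1_factor (hn : Nil (der L)) (hp : ((der L).relIndex L).Prime) :
    IsHallIn (der L) L ∧ ∀ H, IsSdprod (der L) H L → der L = ⁅L, H⁆ :=
  Pf.prime_nil_der1_factor hn hp

/-- Lemma 6.5(a) -/
theorem pprod_focal_coprime (h : K ⊔ U = L) (hK : K ⊴ L) (hH : H ≤ U) (hc : (♯K).Coprime ♯H) :
    H ⊓ der L = H ⊓ der U :=
  Pf.pprod_focal_coprime h hK hH hc
/-- Lemma 6.5(c) -/
theorem pprod_trans_coprime (h : K ⊔ U = L) (hK : K ⊴ L) (hH : H ≤ U) (hc : (♯K).Coprime ♯H) (hs : Sol L)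
    {g : G} (hg : g ∈ L) (hgH : g •ᶜ H ≤ U) : ∃ u ∈ U, ∃ c ∈ K ⊓ 𝐂(H), g = u * c :=
  Pf.pprod_trans_coprime h hK hH hc hs hg hgH
/-- Lemma 6.5(b) -/
theorem pprod_norm_coprime_prod (h : K ⊔ U = L) (hK : K ⊴ L) (hH : H ≤ U) (hc : (♯K).Coprime ♯H)
    (hs : Sol L) : IsProd (K ⊓ 𝐂(H)) (U ⊓ 𝐍(H)) (L ⊓ 𝐍(H)) :=
  Pf.pprod_norm_coprime_prod h hK hH hc hs

section Plength1
variable [Fact p.Prime]

/-- Lemma 6.6(a1) -/
theorem plength1_Sylow_prod (hS : Syl p S H) (hl : PLen1 p H) : Op' p H ⊔ S = Op'p p H :=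
  Pf.plength1_Sylow_prod hS hl
/-- Lemma 6.6(a2) -/
theorem plength1_Frattini (hS : Syl p S H) (hl : PLen1 p H) : Op' p H ⊔ H ⊓ 𝐍(S) = H :=
  Pf.plength1_Frattini hS hl
/-- Lemma 6.6(b) -/
theorem plength1_Sylow_sub_der1 (hS : Syl p S H) (hl : PLen1 p H) (h : S ≤ der H) :
    S ≤ der (H ⊓ 𝐍(S)) :=
  Pf.plength1_Sylow_sub_der1 hS hl h
/-- Lemma 6.6(c) -/
theorem plength1_Sylow_trans (hS : Syl p S H) (hl : PLen1 p H) (hs : Sol H) {Y : Subgroup G} (hY : Y ≤ S)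
    {g : G} (hg : g ∈ H) (hgY : g •ᶜ Y ≤ S) : ∃ u ∈ H ⊓ 𝐍(S), ∃ c ∈ H ⊓ 𝐂(Y), g = u * c :=
  Pf.plength1_Sylow_trans hS hl hs hY hg hgY
/-- Lemma 6.6(d) -/
theorem plength1_Sylow_Jsub (hS : Syl p S H) (hl : PLen1 p H) (hs : Sol H) (hQ : Q ≤ H)
    (hp : IsPGroup p Q) : ∃ x ∈ H ⊓ 𝐂(Q ⊓ S), x •ᶜ Q ≤ S :=
  Pf.plength1_Sylow_Jsub hS hl hs hQ hp

/-- Theorem 6.7 -/
theorem plength1_norm_pmaxElem (hE : IsMaxEp p E H) (hp : Odd p) (hs : Sol H) (hl : PLen1 p H)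
    (hL : L ≤ H) (hn : E ≤ 𝐍(L)) (hpL : ¬ p ∣ ♯L) : L ≤ Op' p H :=
  Pf.plength1_norm_pmaxElem hE hp hs hl hL hn hpL

end Plength1

end Cfsg.Agent.OO
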