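import Cfsg.Agent.Lib.OO.MinOdd
import Cfsg.Agent.Lib.OO.Pf.BG7_B

/-! # Interface: B&G section 7 -/

set_option autoImplicit false
set_option linter.unusedSectionVars false
set_option linter.unusedVariables false

namespace Cfsg.Agent.OO

open Subgroup Cfsg.Agent.Coprime
open scoped Pointwise

universe u

variable {G : Type u} [Group G] [Finite G] [MinOdd G]

/-- `K = O_{π'}(C(A))` permutes `И*(A; q)` -/
theorem cent_core_acts_max_norm {A Q : Subgroup G} {ρ : Set ℕ} {k : G} (hk : k ∈ 𝐍(A))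
    (hQ : IsMaxNormed ⊤ A ρ Q) : IsMaxNormed ⊤ A ρ (k •ᶜ Q) :=
  Pf.cent_core_acts_max_norm hk hQ

/-- Lemma 7.1 -/
theorem normed_constrained_meet_trans {A : Subgroup G} {q : ℕ} (hq : q.Prime) (cstrA : NormedConstrained A)
    (hqA : q ∉ piOf A) {Q1 Q2 H : Subgroup G} (hAH : A ≤ H) (hH : H ≠ ⊤)
    (h1 : IsMaxNormed ⊤ A {q} Q1) (h2 : IsMaxNormed ⊤ A {q} Q2) (hn1 : Q1 ⊓ H ≠ ⊥) (hn2 : Q2 ⊓ H ≠ ⊥) :
    ∃ k ∈ Opi (piOf A)ᶜ 𝐂(A), Q2 = k •ᶜ Q1 :=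
  Pf.normed_constrained_meet_trans hq cstrA hqA hAH hH h1 h2 hn1 hn2

/-- Theorem 7.2 -/
theorem normed_constrained_rank3_trans {A : Subgroup G} {q : ℕ} (hq : q.Prime)
    (cstrA : NormedConstrained A) (hqA : q ∉ piOf A) (hr : 3 ≤ rank (Zc A)) :
    NormTrans (Opi (piOf A)ᶜ 𝐂(A)) A q :=
  Pf.normed_constrained_rank3_trans hq cstrA hqA hr

/-- Theorem 7.3 -/
theorem normed_constrained_rank2_trans {A : Subgroup G} {q : ℕ} (hq : q.Prime)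
    (cstrA : NormedConstrained A) (hqA : q ∉ piOf A) (hqC : q ∣ ♯𝐂(A)) (hr : 2 ≤ rank (Zc A)) :
    NormTrans (Opi (piOf A)ᶜ 𝐂(A)) A q :=
  Pf.normed_constrained_rank2_trans hq cstrA hqA hqC hr

/-- Theorem 7.4 -/
theorem normed_trans_superset {A P : Subgroup G} {q : ℕ} (hq : q.Prime)
    (cstrA : NormedConstrained A) (hqA : q ∉ piOf A) (hAP : A ≤ P) (hsn : (A.subgroupOf P).IsSubnormal)
    (hP : PiGrp (piOf A) P) (htr : NormTrans (Opi (piOf A)ᶜ 𝐂(A)) A q) :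
    Opi (piOf A)ᶜ 𝐂(A) ⊓ 𝐂(P) = Opi (piOf A)ᶜ 𝐂(P) ∧ NormTrans (Opi (piOf A)ᶜ 𝐂(P)) P q ∧
    (∀ Q, IsMaxNormed ⊤ P {q} Q → IsMaxNormed ⊤ A {q} Q) ∧
    ∀ Q, IsMaxNormed ⊤ P {q} Q → P ⊓ der 𝐍(P) ≤ der 𝐍(Q) ∧
      IsProd (Opi (piOf A)ᶜ 𝐂(A) ⊓ 𝐂(P)) (𝐍(P) ⊓ 𝐍(Q)) 𝐍(P) :=
  Pf.normed_trans_superset hq cstrA hqA hAP hsn hP htr

/-- Proposition 7.5(a) -/
theorem plength_1_normed_constrained {p : ℕ} [Fact p.Prime] {A : Subgroup G} (hA : A ≠ ⊥)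
    (hE : IsMaxEp p A ⊤) (hl : ∀ M : Subgroup G, M ≠ ⊤ → PLen1 p M) : NormedConstrained A :=
  Pf.plength_1_normed_constrained hA hE hl

/-- Proposition 7.5(b) -/
theorem SCN_normed_constrained {p : ℕ} [Fact p.Prime] {P A : Subgroup G} (hP : Syl p P ⊤)
    (hA : IsSCNn 2 P A) : NormedConstrained A :=
  Pf.SCN_normed_constrained hP hA

/-- Theorem 7.6 (Thompson transitivity) -/
theorem Thompson_transitivity {p q : ℕ} [Fact p.Prime] (hq : q.Prime) {A : Subgroup G} (hA : IsSCN3p p A)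
    (hqp : q ≠ p) : NormTrans (Op' p 𝐂(A)) A q :=
  Pf.Thompson_transitivity hq hA hqp

end Cfsg.Agent.OO
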