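import Cfsg.Agent.Lib.OO.MinOdd
import Cfsg.Agent.Lib.OO.Pf.BG12_A
import Cfsg.Agent.Lib.OO.Pf.BG12_B
import Cfsg.Agent.Lib.OO.Pf.BG12_C
import Cfsg.Agent.Lib.OO.Pf.BG12_D
import Cfsg.Agent.Lib.OO.Pf.BG12_E

/-! # Interface: B&G section 12 -/

set_option autoImplicit false
set_option linter.unusedSectionVars false
set_option linter.unusedVariables false

namespace Cfsg.Agent.OO

open Subgroup Cfsg.Agent.Coprime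
open scoped Pointwise

universe u

variable {G : Type u} [Group G] [Finite G] [MinOdd G]

/-! ### basic facts on `τ₁, τ₂, τ₃` and complements of `M_σ` -/

omit [MinOdd G] in
theorem tau1S_conj (M : Subgroup G) (g : G) : tau1S (g •ᶜ M) = tau1S M :=
  Pf.tau1S_conj M g
omit [MinOdd G] in
theorem tau2S_conj (M : Subgroup G) (g : G) : tau2S (g •ᶜ M) = tau2S M :=
  Pf.tau2S_conj M g
omit [MinOdd G] in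
theorem tau3S_conj (M : Subgroup G) (g : G) : tau3S (g •ᶜ M) = tau3S M :=
  Pf.tau3S_conj M g

theorem partition_pi_mmax {M : Subgroup G} (hM : IsCoatom M) :
    piOf M = tau1S M ∪ tau2S M ∪ tau3S M ∪ sigmaS M :=
  Pf.partition_pi_mmax hM
theorem partition_pi_sigma_compl {M E : Subgroup G} (hM : IsCoatom M) (hE : Hall (sigmaS M)ᶜ E M) :
    piOf E = tau1S M ∪ tau2S M ∪ tau3S M :=
  Pf.partition_pi_sigma_compl hM hE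
theorem sdprod_sigma {M E : Subgroup G} (hM : IsCoatom M) (hE : Hall (sigmaS M)ᶜ E M) :
    IsSdprod (Ms M) E M :=
  Pf.sdprod_sigma hM hE
theorem coprime_sigma_compl {M E : Subgroup G} (hE : Hall (sigmaS M)ᶜ E M) :
    (♯(Ms M)).Coprime ♯E :=
  Pf.coprime_sigma_compl hE
theorem der1_sigma_compl {M E : Subgroup G} (hM : IsCoatom M) (hE : Hall (sigmaS M)ᶜ E M) :
    der M ⊓ E = der E :=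
  Pf.der1_sigma_compl hM hE
theorem rp_sigma_compl {M E : Subgroup G} {p : ℕ} [Fact p.Prime] (hM : IsCoatom M)
    (hE : Hall (sigmaS M)ᶜ E M) (hp : p ∉ sigmaS M) : rp p E = rp p M :=
  Pf.rp_sigma_compl hM hE hp
theorem tau1E {M E : Subgroup G} {p : ℕ} (hM : IsCoatom M) (hE : Hall (sigmaS M)ᶜ E M) :
    p ∈ tau1S M ↔ p ∈ piOf E ∧ rp p E = 1 ∧ p ∉ piOf (der E) :=
  Pf.tau1E hM hE
theorem tau2E {M E : Subgroup G} {p : ℕ} (hM : IsCoatom M) (hE : Hall (sigmaS M)ᶜ E M) :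
    p ∈ tau2S M ↔ p ∈ piOf E ∧ rp p E = 2 :=
  Pf.tau2E hM hE
theorem tau3E {M E : Subgroup G} {p : ℕ} (hM : IsCoatom M) (hE : Hall (sigmaS M)ᶜ E M) :
    p ∈ tau3S M ↔ p ∈ piOf (der E) ∧ rp p E = 1 :=
  Pf.tau3E hM hE
theorem ex_sigma_compl {M F : Subgroup G} (hM : IsCoatom M) (hF : F ≤ M) (hs : PiGrp (sigmaS M)ᶜ F) :
    ∃ E, Hall (sigmaS M)ᶜ E M ∧ F ≤ E :=
  Pf.ex_sigma_compl hM hF hs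
theorem ex_tau13_compl {M E F : Subgroup G} (hM : IsCoatom M) (hE : Hall (sigmaS M)ᶜ E M) (hF : F ≤ E)
    (hs : PiGrp (tau13S M) F) : ∃ E1 E3, Hall (tau1S M) E1 E ∧ Hall (tau3S M) E3 E ∧ F ≤ E3 ⊔ E1 :=
  Pf.ex_tau13_compl hM hE hF hs
theorem ex_tau2_compl {M E E1 E3 : Subgroup G} (hM : IsCoatom M) (hE : Hall (sigmaS M)ᶜ E M)
    (h1 : Hall (tau1S M) E1 E) (h3 : Hall (tau3S M) E3 E) : ∃ E2, SigmaCompl M E E1 E2 E3 :=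
  Pf.ex_tau2_compl hM hE h1 h3
theorem ex_tau23_compl {M E E1 : Subgroup G} (hM : IsCoatom M) (hE : Hall (sigmaS M)ᶜ E M)
    (h1 : Hall (tau1S M) E1 E) : ∃ E2 E3, SigmaCompl M E E1 E2 E3 :=
  Pf.ex_tau23_compl hM hE h1
theorem ex_tau2Elem {M E : Subgroup G} {p : ℕ} (hM : IsCoatom M) (hE : Hall (sigmaS M)ᶜ E M)
    (hp : p ∈ tau2S M) : ∃ A, IsEp p 2 A E ∧ IsEp p 2 A M :=
  Pf.ex_tau2Elem hM hE hp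

/-- Lemma 12.1(a) -/
theorem der1_sigma_compl_nil {M E : Subgroup G} (hM : IsCoatom M) (hE : Hall (sigmaS M)ᶜ E M) :
    Nil (der E) :=
  Pf.der1_sigma_compl_nil hM hE
/-- Lemma 12.1(g) -/
theorem tau2_not_beta {M : Subgroup G} {p : ℕ} (hM : IsCoatom M) (hp : p ∈ tau2S M) :
    p ∉ betaS (⊤ : Subgroup G) ∧ ∀ A, IsEp p 2 A M → IsMaxEp p A ⊤ :=
  Pf.tau2_not_beta hM hp
theorem tau1_cyclic {M E E1 : Subgroup G} (hM : IsCoatom M) (hE : Hall (sigmaS M)ᶜ E M)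
    (h1 : Hall (tau1S M) E1 E) : IsCyclic E1 :=
  Pf.tau1_cyclic hM hE h1
theorem tau3_cyclic {M E E3 : Subgroup G} (hM : IsCoatom M) (hE : Hall (sigmaS M)ᶜ E M)
    (h3 : Hall (tau3S M) E3 E) : IsCyclic E3 :=
  Pf.tau3_cyclic hM hE h3
/-- Lemma 12.1(b-f) -/
theorem sigma_compl_context {M E E1 E2 E3 : Subgroup G} (hM : IsCoatom M) (hE : SigmaCompl M E E1 E2 E3) :
    (E3 ≤ der E ∧ E3 ⊴ E) ∧ (E2 = ⊥ → E1 ≠ ⊥) ∧ (IsCyclic E1 ∧ IsCyclic E3) ∧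
    (IsSdprod E2 E1 (E2 ⊔ E1) ∧ IsSdprod E3 (E2 ⊔ E1) E ∧
      IsSdprod E3 E2 (E3 ⊔ E2) ∧ IsSdprod (E3 ⊔ E2) E1 E) ∧ E3 ⊓ 𝐂(E) = ⊥ :=
  Pf.sigma_compl_context hM hE

/-- Lemma 12.2(a) -/
theorem prime_class_mmax_norm {M X : Subgroup G} {p : ℕ} [Fact p.Prime] (hM : IsCoatom M)
    (hX : IsPGroup p X) (hN : 𝐍(X) ≤ M) : p ∈ sigmaS M ∨ p ∈ tau2S M :=
  Pf.prime_class_mmax_norm hM hX hN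
/-- Lemma 12.2(b) -/
theorem mmax_norm_notJ {M Mstar X : Subgroup G} {p : ℕ} [Fact p.Prime] (hM : IsCoatom M)
    (hMs : IsCoatom Mstar) (hX : IsPGroup p X) (hXM : X ≤ M) (hN : 𝐍(X) ≤ Mstar)
    (h : (p ∈ sigmaS M ∧ M ≠ Mstar) ∨ p ∈ tau1S M ∨ p ∈ tau3S M) : NotConj Mstar M :=
  Pf.mmax_norm_notJ hM hMs hX hXM hN h

/-- Lemma 12.3 -/
theorem nonuniq_p2Elem_cent_sigma {M Mstar A A0 : Subgroup G} {p : ℕ} [Fact p.Prime] (hM : IsCoatom M)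
    (hMs : IsCoatom Mstar) (hne : Mstar ≠ M) (hA : IsEp p 2 A (M ⊓ Mstar)) (hA0 : IsEp p 1 A0 A)
    (hN : 𝐍(A0) ≤ Mstar) :
    (p ∉ sigmaS M → A ≤ 𝐂(Ms M ⊓ Mstar)) ∧ (p ∉ alphaS M → A ≤ 𝐂(Ma M ⊓ Mstar)) :=
  Pf.nonuniq_p2Elem_cent_sigma hM hMs hne hA hA0 hN

/-- Proposition 12.4 -/
theorem p2Elem_mmax {M A : Subgroup G} {p : ℕ} [Fact p.Prime] (hM : IsCoatom M) (hA : IsEp p 2 A M) :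
    𝐂(A) ≤ M ∧ ((∀ A0, IsEp p 1 A0 A → ¬ UniqMax 𝐍(A0) M) →
      p ∈ sigmaS M ∧ Ma M = ⊥ ∧ Nil (Ms M)) :=
  Pf.p2Elem_mmax hM hA

/-- Theorem 12.5(a) -/
theorem tau2_Msigma_nil {M : Subgroup G} {p : ℕ} (hM : IsCoatom M) (hp : p ∈ tau2S M) : Nil (Ms M) :=
  Pf.tau2_Msigma_nil hM hp

/-- Theorem 12.5(b-f) -/
theorem tau2_context {M A : Subgroup G} {p : ℕ} (hM : IsCoatom M) (hp : p ∈ tau2S M) (hA : IsEp p 2 A M) :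
    (∀ P, Syl p P M → Ab P ∧ (A ≤ P → Ohm p P = A ∧ ¬ 𝐍(P) ≤ M)) ∧
    Ms M ⊔ A ⊴ M ∧ Ms M ⊓ 𝐂(A) = ⊥ ∧
    (∀ Mstar, IsCoatom Mstar → A ≤ Mstar → Mstar ≠ M → Ms M ⊓ Mstar = ⊥) ∧
    ∃ A1, IsEp p 1 A1 A ∧ Ms M ⊓ 𝐂(A1) = ⊥ :=
  Pf.tau2_context hM hp hA

/-- Theorem 12.6(a, b, c) -/
theorem tau2_compl_context {M E A : Subgroup G} {p : ℕ} (hM : IsCoatom M) (hE : Hall (sigmaS M)ᶜ E M)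
    (hp : p ∈ tau2S M) (hA : IsEp p 2 A E) :
    (A ⊴ E ∧ ∀ X, IsEp p 1 X E ↔ IsEp p 1 X A) ∧ (𝐂(A) ≤ E ∧ M ⊓ 𝐍(A) = E ∧ ¬ 𝐍(A) ≤ M) ∧
    ∀ X, IsEp p 1 X E → Ms M ⊓ 𝐂(X) ≠ ⊥ → UniqMax 𝐂(X) M :=
  Pf.tau2_compl_context hM hE hp hA

/-- Theorem 12.6(d, e, f) -/
theorem tau2_regular {M E E1 E2 E3 A : Subgroup G} {p : ℕ} (hM : IsCoatom M)
    (hE : SigmaCompl M E E1 E2 E3) (hp : p ∈ tau2S M) (hA : IsEp p 2 A E) :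
    Semiregular (Ms M) E3 ∧ Semiregular (Ms M) (E1 ⊓ 𝐂(A)) ∧
    ∀ Mstar, IsCoatom Mstar → NotConj Mstar M →
      Ms M ⊓ Ms Mstar = ⊥ ∧ Disjoint (sigmaS M) (sigmaS Mstar) :=
  Pf.tau2_regular hM hE hp hA

/-- Theorem 12.7 -/
theorem nonabelian_tau2 {M E A P0 : Subgroup G} {p : ℕ} (hM : IsCoatom M) (hE : Hall (sigmaS M)ᶜ E M)
    (hp : p ∈ tau2S M) (hA : IsEp p 2 A E) (hP : IsPGroup p P0) (hab : ¬ Ab P0) :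
    tau2S M = {p} ∧ (♯(A ⊓ 𝐂(Ms M)) = p ∧ IsDprod (Ms M) (A ⊓ 𝐂(Ms M)) (Fit M)) ∧
    (∀ X, IsEp p 1 X E → X ≠ A ⊓ 𝐂(Ms M) → Ms M ⊓ 𝐂(X) = ⊥ ∧ ¬ 𝐂(X) ≤ M) ∧
    ∃ E0, IsSdprod (A ⊓ 𝐂(Ms M)) E0 E ∧ ∀ x ∈ Ms M, x ≠ 1 → piOf (E0 ⊓ 𝐂[x]) ⊆ tau1S M :=
  Pf.nonabelian_tau2 hM hE hp hA hP hab

/-- Lemma 12.8(c) -/
theorem abelian_tau2_sub_Fitting {M E A S : Subgroup G} {p : ℕ} (hM : IsCoatom M)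
    (hE : Hall (sigmaS M)ᶜ E M) (hp : p ∈ tau2S M) (hA : IsEp p 2 A E) (hS : Syl p S ⊤) (hAS : A ≤ S)
    (hab : Ab S) : S ≤ der 𝐍(S) ∧ der 𝐍(S) ≤ Fit E ∧ Fit E ≤ 𝐂(S) ∧ 𝐂(S) ≤ E :=
  Pf.abelian_tau2_sub_Fitting hM hE hp hA hS hAS hab

/-- Lemma 12.8(a, b, d, e, f) -/
theorem abelian_tau2 {M E E1 E2 E3 A S : Subgroup G} {p : ℕ} (hM : IsCoatom M)
    (hE : SigmaCompl M E E1 E2 E3) (hp : p ∈ tau2S M) (hA : IsEp p 2 A E) (hS : Syl p S ⊤) (hAS : A ≤ S)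
    (hab : Ab S) :
    (E2 ⊴ E ∧ Ab E2) ∧ Hall (tau2S M) E2 ⊤ ∧
    (𝐍(A) = 𝐍(S) ∧ 𝐍(S) = 𝐍(E2) ∧ 𝐍(E2) = 𝐍(E3 ⊔ E2) ∧ 𝐍(E3 ⊔ E2) = 𝐍(Fit E)) ∧
    (∀ X, X ≤ E1 → (♯X).Prime → Ms M ⊓ 𝐂(X) = ⊥ → X ≤ Zc E) ∧
    ∀ X, X ≤ 𝐍(S) → S ⊓ 𝐂(X) ⊴ 𝐍(S) ∧ ⁅S, X⁆ ⊴ 𝐍(S) :=
  Pf.abelian_tau2 hM hE hp hA hS hAS hab

/-- Corollary 12.9 -/
theorem tau1_act_tau2 {M E A Q : Subgroup G} {p q : ℕ} (hM : IsCoatom M) (hE : Hall (sigmaS M)ᶜ E M)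
    (hp : p ∈ tau2S M) (hA : IsEp p 2 A E) (hq : q ∈ tau1S M) (hQ : IsEp q 1 Q E)
    (hC : Ms M ⊓ 𝐂(Q) = ⊥) (hAQ : ⁅A, Q⁆ ≠ ⊥) :
    (IsEp p 1 ⁅A, Q⁆ A ∧ A ⊓ 𝐂(Ms M) = ⁅A, Q⁆ ∧ ⁅A, Q⁆ ⊴ M) ∧ NotConj ⁅A, Q⁆ (A ⊓ 𝐂(Q)) ∧
    IsEp p 1 (A ⊓ 𝐂(Q)) A ∧ ¬ 𝐂(A ⊓ 𝐂(Q)) ≤ M :=
  Pf.tau1_act_tau2 hM hE hp hA hq hQ hC hAQ

/-- Corollary 12.10(a) -/
theorem sigma'_nil_abelian {M N : Subgroup G} (hM : IsCoatom M) (hN : N ≤ M) (hs : PiGrp (sigmaS M)ᶜ N)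
    (hn : Nil N) : Ab N :=
  Pf.sigma'_nil_abelian hM hN hs hn
/-- Corollary 12.10(b), first assertion -/
theorem der_mmax_compl_abelian {M E : Subgroup G} (hM : IsCoatom M) (hE : Hall (sigmaS M)ᶜ E M) :
    Ab (der E) :=
  Pf.der_mmax_compl_abelian hM hE
/-- Corollary 12.10(b), second assertion -/
theorem tau2_compl_abelian {M E E2 : Subgroup G} (hM : IsCoatom M) (hE : Hall (sigmaS M)ᶜ E M)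
    (h2 : Hall (tau2S M) E2 E) : Ab E2 :=
  Pf.tau2_compl_abelian hM hE h2
/-- Corollary 12.10(c) -/
theorem tau1_cent_tau2Elem_factor {M E A : Subgroup G} {p : ℕ} (hM : IsCoatom M)
    (hE : Hall (sigmaS M)ᶜ E M) (hp : p ∈ tau2S M) (hA : IsEp p 2 A E) :
    (∀ E1 E2 E3, SigmaCompl M E E1 E2 E3 → E3 ⊔ E2 ≤ E ⊓ 𝐂(A)) ∧ E ⊓ 𝐂(A) ⊴ E ∧
    IsPiNum (tau1S M) ((E ⊓ 𝐂(A)).relIndex E) :=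
  Pf.tau1_cent_tau2Elem_factor hM hE hp hA
/-- Corollary 12.10(d) -/
theorem norm_noncyclic_sigma {M P : Subgroup G} {p : ℕ} (hM : IsCoatom M) (hp : p ∈ sigmaS M)
    (hP : IsPGroup p P) (hPM : P ≤ M) (hc : ¬ IsCyclic P) : 𝐍(P) ≤ M :=
  Pf.norm_noncyclic_sigma hM hp hP hPM hc
/-- Corollary 12.10(e) -/
theorem cent1_nreg_sigma_uniq {M : Subgroup G} {x : G} (hM : IsCoatom M) (hx : x ∈ M) (hx1 : x ≠ 1)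
    (ht : PiElt (tau2S M) x) (hC : Ms M ⊓ 𝐂[x] ≠ ⊥) : UniqMax 𝐂[x] M :=
  Pf.cent1_nreg_sigma_uniq hM hx hx1 ht hC

/-- Lemma 12.11 -/
theorem primes_norm_tau2Elem {M E A Mstar : Subgroup G} {p : ℕ} (hM : IsCoatom M)
    (hE : Hall (sigmaS M)ᶜ E M) (hp : p ∈ tau2S M) (hA : IsEp p 2 A E) (hMs : IsCoatom Mstar)
    (hN : 𝐍(A) ≤ Mstar) :
    tau2S M ⊆ sigmaS Mstar \ betaS Mstar ∧
    primes ((E ⊓ 𝐂(A)).relIndex E) ⊆ tau1S Mstar ∪ tau2S Mstar ∧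
    ∀ q ∈ primes ((E ⊓ 𝐂(A)).relIndex E), q ∈ piOf (E ⊓ 𝐂(A)) →
      q ∈ tau2S Mstar ∧ (∃ P, Syl p P ⊤ ∧ P ⊴ Mstar) ∧ ∃ Q, Syl q Q ⊤ ∧ Q ≤ Mstar ∧ Ab Q :=
  Pf.primes_norm_tau2Elem hM hE hp hA hMs hN

/-- Theorem 12.12 -/
theorem FTtypeF_complement {M E : Subgroup G} (hM : IsCoatom M) (hE : Hall (sigmaS M)ᶜ E M) (hE1 : E ≠ ⊥)
    (h : ∀ e ∈ E, e ≠ 1 → PiElt (tau13S M) e → Ms M ⊓ 𝐂[e] = ⊥) :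
    (∃ A0, A0 ⊴ E ∧ Ab A0 ∧ ∀ x ∈ Ms M, x ≠ 1 → E ⊓ 𝐂[x] ≤ A0) ∧
    ∃ E0, E0 ≤ E ∧ expo E0 = expo E ∧ IsFrob (Ms M ⊔ E0) (Ms M) E0 :=
  Pf.FTtypeF_complement hM hE hE1 h

/-- Theorem 12.13 -/
theorem nonabelian_Uniqueness {p : ℕ} [Fact p.Prime] {P : Subgroup G} (hP : IsPGroup p P) (hab : ¬ Ab P) :
    Uniq P :=
  Pf.nonabelian_Uniqueness hP hab

/-- Corollary 12.14 -/
theorem cent_der_sigma_uniq {M X : Subgroup G} {p : ℕ} [Fact p.Prime] (hM : IsCoatom M) (hX : IsEp p 1 X M)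
    (h : p ∈ betaS M ∨ X ≤ der (Ms M)) :
    UniqMax 𝐂(X) M ∧ ∀ P, Syl p P (Ms M) → UniqMax P M :=
  Pf.cent_der_sigma_uniq hM hX h

/-- Proposition 12.15 -/
theorem sigma_subgroup_embedding {M X Mstar : Subgroup G} {q : ℕ} (hM : IsCoatom M) (hq : q ∈ sigmaS M)
    (hXM : X ≤ M) (hX : IsPGroup q X) (hX1 : X ≠ ⊥) (hMs : IsCoatom Mstar) (hN : 𝐍(X) ≤ Mstar)
    (hne : Mstar ≠ M) :
    NotConj Mstar M ∧ (∀ S, Syl q S (M ⊓ Mstar) → X ≤ S → 𝐍(S) ≤ M ∧ Syl q S Mstar) ∧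
    (q ∈ sigmaS Mstar → Mb Mstar ⊔ (M ⊓ Mstar) = Mstar ∧ tau1S Mstar ⊆ tau1S M ∪ alphaS M ∧
      Mb M = Ma M ∧ Mb M ≠ ⊥) ∧
    (q ∉ sigmaS Mstar → q ∈ tau2S Mstar ∧ piOf M ∩ sigmaS Mstar ⊆ betaS Mstar ∧
      Hall (sigmaS Mstar)ᶜ (M ⊓ Mstar) Mstar) :=
  Pf.sigma_subgroup_embedding hM hq hXM hX hX1 hMs hN hne

/-- Corollary 12.16 -/
theorem sigma_Jsub {M Y : Subgroup G} (hM : IsCoatom M) (hY : PiGrp (sigmaS M) Y) (hY1 : Y ≠ ⊥) :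
    (∃ x : G, x •ᶜ Y ≤ Ms M) ∧
    ∀ (E : Subgroup G) (p : ℕ) (H : Subgroup G), Hall (sigmaS M)ᶜ E M → p ∈ piOf E →
      p ∉ betaS (⊤ : Subgroup G) → IsCoatom H → Y ≤ H → NotConj H M →
      rp p (H ⊓ 𝐍(Y)) ≤ 1 ∧ (p ∈ tau1S M → p ∉ piOf (der (H ⊓ 𝐍(Y)))) :=
  Pf.sigma_Jsub hM hY hY1

/-- Lemma 12.17 -/
theorem sigma_compl_embedding {M E : Subgroup G} (hM : IsCoatom M) (hE : Hall (sigmaS M)ᶜ E M) :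
    Ms M ⊓ 𝐂(E) ≤ der (Ms M) ∧ ⁅Ms M, E⁆ = Ms M ∧
    ∀ g : G, g ∉ M → IsCyclic ↥(Ms M ⊓ g •ᶜ M) ∧ PiGrp (betaS M)ᶜ (Ms M ⊓ g •ᶜ M) ∧
      der (Ms M) ⊓ g •ᶜ M = ⊥ :=
  Pf.sigma_compl_embedding hM hE

/-- Lemma 12.18 -/
theorem cent_Malpha_reg_tau1 {M P Q : Subgroup G} {p q : ℕ} [Fact q.Prime] (hM : IsCoatom M)
    (hp : p ∈ tau1S M) (hqp : q ≠ p) (hP : IsEp p 1 P M) (hQ1 : Q ≠ ⊥) (hPQ : P ≤ 𝐍(Q))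
    (hC : Q ⊓ 𝐂(P) = ⊥) (hN : ¬ UniqMax 𝐍(Q) M) :
    (Ma M ≠ ⊥ → q ∉ alphaS M → Q ≤ M → IsPGroup q Q → Ma M ⊓ 𝐂(P) ≠ ⊥ ∧ Ma M ⊓ 𝐂(P ⊔ Q) = ⊥) ∧
    (Syl q Q M → alphaS M = betaS M ∧ Ma M ≠ ⊥ ∧ q ∉ alphaS M ∧ Ma M ⊓ 𝐂(P) ≠ ⊥ ∧
      Ma M ⊓ 𝐂(P ⊔ Q) = ⊥) :=
  Pf.cent_Malpha_reg_tau1 hM hp hqp hP hQ1 hPQ hC hN

/-- Lemma 12.19 -/
theorem der_compl_cent_beta' {M E : Subgroup G} (hM : IsCoatom M) (hE : Hall (sigmaS M)ᶜ E M) :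
    ∃ H, Hall (betaS M)ᶜ H (Ms M) ∧ der E ≤ 𝐂(H) :=
  Pf.der_compl_cent_beta' hM hE

end Cfsg.Agent.OO
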