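import Cfsg.Agent.Lib.OO.MinOdd
import Cfsg.Agent.Lib.OO.Pf.BG13_A
import Cfsg.Agent.Lib.OO.Pf.BG13_B

/-! # Interface: B&G section 13 -/

set_option autoImplicit false
set_option linter.unusedSectionVars false
set_option linter.unusedVariables false

namespace Cfsg.Agent.OO

open Subgroup Cfsg.Agent.Coprime
open scoped Pointwise

universe u

variable {G : Type u} [Group G] [Finite G] [MinOdd G]

/-- Lemma 13.1 -/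
theorem Msigma_setI_mmax_central {M E H : Subgroup G} {p : ℕ} (hM : IsCoatom M)
    (hE : Hall (sigmaS M)ᶜ E M) (hH : IsCoatom H) (hpE : p ∈ piOf E) (hpH : p ∈ piOf H) (ht : p ∉ tau1S H)
    (hc : ⁅Ms M ⊓ H, M ⊓ H⁆ ≠ ⊥) (hn : NotConj H M) :
    (∀ P, P ≤ M ⊓ H → IsPGroup p P → P ≤ 𝐂(Ms M ⊓ H)) ∧ p ∉ tau2S H ∧
    (p ∈ tau1S M → p ∈ betaS (⊤ : Subgroup G)) :=
  Pf.Msigma_setI_mmax_central hM hE hH hpE hpH ht hc hn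

/-- Corollary 13.2 -/
theorem cent_norm_tau13_mmax {M E P H : Subgroup G} {p : ℕ} (hM : IsCoatom M) (hE : Hall (sigmaS M)ᶜ E M)
    (hp : p ∈ tau13S M) (hPM : P ≤ M) (hP : IsPGroup p P) (hH : IsCoatom H) (hN : 𝐍(P) ≤ H) :
    (∀ P1, P1 ≤ M ⊓ H → IsPGroup p P1 → P1 ≤ 𝐂(Ms M ⊓ H)) ∧
    (∀ X, X ≤ E ⊓ H → PiGrp (tau1S H)ᶜ X → X ≤ 𝐂(Ms M ⊓ H)) ∧
    (⁅Ms M ⊓ H, M ⊓ H⁆ ≠ ⊥ → p ∈ sigmaS H ∧ (p ∈ tau1S M → p ∈ betaS H)) :=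
  Pf.cent_norm_tau13_mmax hM hE hp hPM hP hH hN

/-- Corollary 13.3(a) -/
theorem cyclic_primact_Msigma {M E P : Subgroup G} {p : ℕ} [Fact p.Prime] (hM : IsCoatom M)
    (hE : Hall (sigmaS M)ᶜ E M) (hP : Syl p P E) (hc : IsCyclic P) : Semiprime (Ms M) P :=
  Pf.cyclic_primact_Msigma hM hE hP hc

/-- Corollary 13.3(b) -/
theorem tau3_primact_Msigma {M E E3 : Subgroup G} (hM : IsCoatom M) (hE : Hall (sigmaS M)ᶜ E M)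
    (h3 : Hall (tau3S M) E3 E) : Semiprime (Ms M) E3 :=
  Pf.tau3_primact_Msigma hM hE h3

/-- Theorem 13.4 -/
theorem cent_tau1Elem_Msigma {M E P R : Subgroup G} {p r : ℕ} [Fact r.Prime] (hM : IsCoatom M)
    (hE : Hall (sigmaS M)ᶜ E M) (hp : p ∈ tau1S M) (hP : IsEp p 1 P E) (hR : IsEp r 1 R (E ⊓ 𝐂(P))) :
    Ms M ⊓ 𝐂(P) ≤ Ms M ⊓ 𝐂(R) :=
  Pf.cent_tau1Elem_Msigma hM hE hp hP hR

/-- Theorem 13.5 -/
theorem tau1_primact_Msigma {M E E1 : Subgroup G} (hM : IsCoatom M) (hE : Hall (sigmaS M)ᶜ E M)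
    (h1 : Hall (tau1S M) E1 E) : Semiprime (Ms M) E1 :=
  Pf.tau1_primact_Msigma hM hE h1

/-- Lemma 13.6 -/
theorem cent_cent_Msigma_tau1_uniq {M E E1 P X : Subgroup G} {q : ℕ} [Fact q.Prime] (hM : IsCoatom M)
    (hE : Hall (sigmaS M)ᶜ E M) (h1 : Hall (tau1S M) E1 E) (hP : P ≤ E1) (hP1 : P ≠ ⊥)
    (hX : IsEp q 1 X (Ms M ⊓ 𝐂(P))) : UniqMax 𝐂(X) M ∧ ∀ S, Syl q S (Ms M) → UniqMax S M :=
  Pf.cent_cent_Msigma_tau1_uniq hM hE h1 hP hP1 hX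

/-- Lemma 13.7 -/
theorem tau13_primact_Msigma {M E E1 E2 E3 : Subgroup G} (hM : IsCoatom M) (hE : SigmaCompl M E E1 E2 E3)
    (h : ¬ Semiregular E3 E1) : Semiprime (Ms M) (E3 ⊔ E1) :=
  Pf.tau13_primact_Msigma hM hE h

/-- Lemma 13.8 -/
theorem tau1_mmaxI_asymmetry {M Mstar P Q Qstar : Subgroup G} {p q qstar : ℕ} [Fact q.Prime]
    [Fact qstar.Prime] (hp : p ∈ tau1S M) (hp' : p ∈ tau1S Mstar) (hP : IsEp p 1 P (M ⊓ Mstar))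
    (hM : IsCoatom M) (hMs : IsCoatom Mstar) (hn : NotConj Mstar M)
    (hQ : Syl q Q (M ⊓ Mstar)) (hQs : Syl qstar Qstar (M ⊓ Mstar)) (hPQ : P ≤ 𝐍(Q)) (hPQs : P ≤ 𝐍(Qstar))
    (hC : Q ⊓ 𝐂(P) = ⊥) (hCs : Qstar ⊓ 𝐂(P) = ⊥) (hN : 𝐍(Q) ≤ Mstar) (hNs : 𝐍(Qstar) ≤ M) : False :=
  Pf.tau1_mmaxI_asymmetry hp hp' hP hM hMs hn hQ hQs hPQ hPQs hC hCs hN hNs

/-- Theorem 13.9 -/
theorem sigma_partition {M Mstar : Subgroup G} (hM : IsCoatom M) (hMs : IsCoatom Mstar)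
    (hn : NotConj Mstar M) : Disjoint (sigmaS M) (sigmaS Mstar) :=
  Pf.sigma_partition hM hMs hn

/-- Theorem 13.10 -/
theorem tau13_regular {M E E1 E2 E3 P : Subgroup G} {p : ℕ} [Fact p.Prime] (hM : IsCoatom M)
    (hE : SigmaCompl M E E1 E2 E3) (hP : IsEp p 1 P E1) (hC : ¬ E3 ≤ 𝐂(P)) :
    Semiregular E3 E1 ∧ Semiregular (Ms M) E3 ∧ Ms M ⊓ 𝐂(P) ≠ ⊥ :=
  Pf.tau13_regular hM hE hP hC

/-- Corollary 13.11 -/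
theorem tau13_nonregular {M E E1 E2 E3 : Subgroup G} (hM : IsCoatom M) (hE : SigmaCompl M E E1 E2 E3)
    (h : ¬ Semiregular (Ms M) E3) :
    E1 ≠ ⊥ ∧ IsSdprod E3 E1 E ∧ Semiprime (Ms M) E ∧ ∀ X, X ≤ E → (♯X).Prime → X ⊴ E :=
  Pf.tau13_nonregular hM hE h

/-- Lemma 13.12 -/
theorem tau12_regular {M E P A : Subgroup G} {p q : ℕ} (hM : IsCoatom M) (hE : Hall (sigmaS M)ᶜ E M)
    (hp : p ∈ tau1S M) (hP : IsEp p 1 P E) (hq : q ∈ tau2S M) (hA : IsEp q 2 A E) (hC : A ⊓ 𝐂(P) ≠ ⊥) :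
    Ms M ⊓ 𝐂(P) = ⊥ :=
  Pf.tau12_regular hM hE hp hP hq hA hC

/-- Lemma 13.13 -/
theorem tau13_nonregular_sigma {M H P : Subgroup G} {p : ℕ} (hM : IsCoatom M) (hP : IsEp p 1 P M)
    (hp : p ∈ tau13S M) (hC : Ms M ⊓ 𝐂(P) ≠ ⊥) (hH : IsCoatom H) (hN : 𝐍(P) ≤ H) : p ∈ sigmaS H :=
  Pf.tau13_nonregular_sigma hM hP hp hC hH hN

end Cfsg.Agent.OO
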