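import Cfsg.Agent.Lib.OO.MinOdd

/-! # B&G section 14: the statement of Theorem 14.7 -/

set_option autoImplicit false

namespace Cfsg.Agent.OO

open Subgroup Cfsg.Agent.Coprime
open scoped Pointwise

universe u

variable {G : Type u} [Group G]

/-- the conclusion of Theorem 14.7, with `Kstar = C_{M_σ}(K)` -/
structure PtypeEmbedding (M K Kstar Mstar : Subgroup G) : Prop where
  typeP : TypePMax Mstar
  notConj : NotConj Mstar M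
  uniq : ∀ X, X ≤ K → (♯X).Prime → UniqMax 𝐂(X) Mstar
  hallKappa : Hall (kappaS Mstar) Kstar Mstar
  hallSigma : Hall (sigmaS M) Kstar Mstar
  defK : Ms Mstar ⊓ 𝐂(Kstar) = K
  kappa_eq : kappaS M = tau1S M
  cycZ : IsCyclic ↥(K ⊔ Kstar)
  inf_eq : M ⊓ Mstar = K ⊔ Kstar
  centK : ∀ x ∈ K, x ≠ 1 → M ⊓ 𝐂[x] = K ⊔ Kstar
  centKstar : ∀ y ∈ Kstar, y ≠ 1 → Mstar ⊓ 𝐂[y] = K ⊔ Kstar
  centZ : ∀ x ∈ K, x ≠ 1 → ∀ y ∈ Kstar, y ≠ 1 → 𝐂[x * y] = K ⊔ Kstar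
  tiZ : NormedTI (cycTIset K Kstar) ⊤ (K ⊔ Kstar)
  disj : ∀ g : G, g ∉ M → Disjoint (cycTIset K Kstar) ((g •ᶜ M : Subgroup G) : Set G)
  card_gt : Nat.card G < 2 * (classSupp (cycTIset K Kstar) ⊤).ncard
  typeP2 : (TypeP2Max M ∧ (♯K).Prime) ∨ (TypeP2Max Mstar ∧ (♯Kstar).Prime)
  trans : ∀ H : Subgroup G, TypePMax H → ∃ g : G, H = g •ᶜ M ∨ H = g •ᶜ Mstar
  defM : IsSdprod (der M) K M

end Cfsg.Agent.OO
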