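import Cfsg.Agent.Lib.OO.BG14Defs
import Cfsg.Agent.Lib.OO.Pf.BG14_E

/-! # Interface: B&G section 14 -/

set_option autoImplicit false
set_option linter.unusedSectionVars false
set_option linter.unusedVariables false

namespace Cfsg.Agent.OO

open Subgroup Cfsg.Agent.Coprime
open scoped Pointwise

universe u

variable {G : Type u} [Group G] [Finite G] [MinOdd G]

/-! ### `κ`, types `𝓕, 𝓟` -/

omit [MinOdd G] in
theorem kappaS_conj (M : Subgroup G) (g : G) : kappaS (g •ᶜ M) = kappaS M :=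
  Pf.kappaS_conj M g
omit [MinOdd G] in
theorem kappa_tau13 (M : Subgroup G) : kappaS M ⊆ tau13S M :=
  Pf.kappa_tau13 M
omit [MinOdd G] in
theorem kappa_sigma' (M : Subgroup G) : kappaS M ⊆ (sigmaS M)ᶜ :=
  Pf.kappa_sigma' M
omit [MinOdd G] in
theorem kappa_pi (M : Subgroup G) : kappaS M ⊆ piOf M :=
  Pf.kappa_pi M
omit [MinOdd G] in
theorem typeFMax_conj (M : Subgroup G) (g : G) : TypeFMax (g •ᶜ M) ↔ TypeFMax M :=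
  Pf.typeFMax_conj M g
omit [MinOdd G] in
theorem typePMax_conj (M : Subgroup G) (g : G) : TypePMax (g •ᶜ M) ↔ TypePMax M :=
  Pf.typePMax_conj M g
omit [MinOdd G] in
theorem typeP1Max_conj (M : Subgroup G) (g : G) : TypeP1Max (g •ᶜ M) ↔ TypeP1Max M :=
  Pf.typeP1Max_conj M g
omit [MinOdd G] in
theorem typeP2Max_conj (M : Subgroup G) (g : G) : TypeP2Max (g •ᶜ M) ↔ TypeP2Max M :=
  Pf.typeP2Max_conj M g
theorem kappa_nonregular {M P : Subgroup G} {p : ℕ} (hM : IsCoatom M) (hp : p ∈ kappaS M)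
    (hP : IsEp p 1 P M) : Ms M ⊓ 𝐂(P) ≠ ⊥ :=
  Pf.kappa_nonregular hM hp hP
theorem ex_kappa_compl {M K : Subgroup G} (hM : IsCoatom M) (hK : Hall (kappaS M) K M) :
    ∃ U, KappaCompl M U K :=
  Pf.ex_kappa_compl hM hK
theorem kappa_witness {M : Subgroup G} (hM : IsCoatom M) : ∃ U K, KappaCompl M U K :=
  Pf.kappa_witness hM
theorem FtypeP {M : Subgroup G} (hM : IsCoatom M) : TypeFMax M ↔ kappaS M = ∅ :=
  Pf.FtypeP hM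
theorem PtypeP {M : Subgroup G} (hM : IsCoatom M) : TypePMax M ↔ (kappaS M).Nonempty :=
  Pf.PtypeP hM
theorem trivg_kappa {M K : Subgroup G} (hM : IsCoatom M) (hK : Hall (kappaS M) K M) :
    K = ⊥ ↔ TypeFMax M :=
  Pf.trivg_kappa hM hK
theorem trivg_kappa_compl {M U K : Subgroup G} (hM : IsCoatom M) (h : KappaCompl M U K) :
    U = ⊥ ↔ TypeP1Max M :=
  Pf.trivg_kappa_compl hM h

/-! ### `σ`-decomposition -/

theorem sigma_mmax_exists {p : ℕ} (hp : p ∈ piOf (⊤ : Subgroup G)) :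
    ∃ M : Subgroup G, IsCoatom M ∧ p ∈ sigmaS M :=
  Pf.sigma_mmax_exists hp
theorem ell_sigma0P {x : G} : ellSigma x = 0 ↔ x = 1 :=
  Pf.ell_sigma0P
theorem ell_sigma1P {x : G} : ellSigma x = 1 ↔ x ≠ 1 ∧ (sigmaMax (zpowers x)).Nonempty :=
  Pf.ell_sigma1P
theorem ell_sigma_le1 {x : G} : ellSigma x ≤ 1 ↔ (sigmaMax (zpowers x)).Nonempty :=
  Pf.ell_sigma_le1
theorem Msigma_ell1 {M : Subgroup G} {x : G} (hM : IsCoatom M) (hx : x ∈ Ms M) (hx1 : x ≠ 1) :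
    ellSigma x = 1 :=
  Pf.Msigma_ell1 hM hx hx1
theorem ell1_decomposition {x : G} (h : ellSigma x = 1) : sigmaDecomp x = {x} :=
  Pf.ell1_decomposition h
omit [MinOdd G] in
theorem ell_sigma_conj (x g : G) : ellSigma (g * x * g⁻¹) = ellSigma x :=
  Pf.ell_sigma_conj x g
omit [MinOdd G] in
theorem mem_sigmaMax_conj {x g : G} {M : Subgroup G} :
    g •ᶜ M ∈ sigmaMax (zpowers (g * x * g⁻¹)) ↔ M ∈ sigmaMax (zpowers x) :=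
  Pf.mem_sigmaMax_conj
theorem sigma_decomposition_constt' {M : Subgroup G} (x : G) (hM : IsCoatom M) :
    sigmaDecomp (constt (sigmaS M)ᶜ x) = sigmaDecomp x \ {constt (sigmaS M) x} :=
  Pf.sigma_decomposition_constt' x hM
theorem sigma_decomposition_subG {x : G} {H : Subgroup G} (h : sigmaDecomp x ⊆ H) : x ∈ H :=
  Pf.sigma_decomposition_subG h

/-- Lemma 14.1 -/
theorem sigma'_kappa'_facts {M S : Subgroup G} {p : ℕ} (hM : IsCoatom M) (hp : p ∈ piOf M)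
    (hs : p ∉ sigmaS M) (hk : p ∉ kappaS M) (hS : Syl p S M) :
    (TypeFMax M ∨ TypeP2Max M) ∧ ♯(Ohm p S) ≤ p ^ 2 ∧ Ms M ⊓ 𝐂(Ohm p S) = ⊥ ∧ Nil (Ms M) :=
  Pf.sigma'_kappa'_facts hM hp hs hk hS

theorem notP1type_Msigma_nil {M : Subgroup G} (h : TypeFMax M ∨ TypeP2Max M) : Nil (Ms M) :=
  Pf.notP1type_Msigma_nil h

/-- Proposition 14.2 -/
theorem Ptype_structure {M K : Subgroup G} (hM : TypePMax M) (hK : Hall (kappaS M) K M) :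
    (∃ U, KappaCompl M U K ∧ K ≤ 𝐍(U) ∧ Semiprime (Ms M) K ∧ Semiregular U K ∧ Ab U) ∧
    (IsDprod K (Ms M ⊓ 𝐂(K)) (M ⊓ 𝐍(K)) ∧ ∀ X, X ≤ K → (♯X).Prime →
      M ⊓ 𝐍(X) = M ⊓ 𝐍(K) ∧ ∀ Mstar, IsCoatom Mstar → 𝐍(X) ≤ Mstar → X ≤ Ms Mstar) ∧
    (Ms M ⊓ 𝐂(K) ≠ ⊥ ∧ ∀ X, X ≤ Ms M ⊓ 𝐂(K) → (♯X).Prime → UniqMax 𝐂(X) M) ∧
    ((∀ g : G, g ∉ M → Ms M ⊓ 𝐂(K) ⊓ g •ᶜ M = ⊥) ∧ ∀ g ∈ M, g ∉ 𝐍(K) → K ⊓ g •ᶜ K = ⊥) ∧
    (∀ p ∈ piOf (Ms M ⊓ 𝐂(K)), ∀ S, Syl p S (Ms M) → UniqMax S M ∧ ¬ S ≤ Ms M ⊓ 𝐂(K)) ∧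
    (∀ Y, PiGrp (sigmaS M) Y → Y ⊓ (Ms M ⊓ 𝐂(K)) ≠ ⊥ → Y ≤ Ms M) ∧
    (TypeP2Max M → sigmaS M = betaS M ∧ (♯K).Prime ∧ Nil (Ms M) ∧ NormedTI (sharp (Ms M)) ⊤ M) :=
  Pf.Ptype_structure hM hK

/-- skolemized 14.2(a) -/
theorem kappa_compl_context {M U K : Subgroup G} (hM : IsCoatom M) (h : KappaCompl M U K) :
    Hall (sigmaS M)ᶜ (U ⊔ K) M ∧ (IsSdprod U K (U ⊔ K) ∧ IsSdprod (Ms M) (U ⊔ K) M) ∧
    Semiprime (Ms M) K ∧ Semiregular U K ∧ (K ≠ ⊥ → Ab U) :=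
  Pf.kappa_compl_context hM h

/-- Corollary 14.3 -/
theorem pi_of_cent_sigma {M : Subgroup G} {x x' : G} (hM : IsCoatom M) (hx : x ∈ Ms M) (hx1 : x ≠ 1)
    (hx' : x' ∈ M ⊓ 𝐂[x]) (hx'1 : x' ≠ 1) (hs : PiElt (sigmaS M)ᶜ x') :
    (PiElt (kappaS M) x' ∧ 𝐂[x] ≤ M) ∨
    (PiElt (tau2S M) x' ∧ ellSigma x' = 1 ∧ UniqMax 𝐂[x'] M) :=
  Pf.pi_of_cent_sigma hM hx hx1 hx' hx'1 hs

/-- Theorem 14.4 -/
theorem FT_signalizer_context {x : G} (hx : ellSigma x = 1) :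
    ((∀ M1 ∈ sigmaMax (zpowers x), ∀ M2 ∈ sigmaMax (zpowers x), ∃ r ∈ Rx x, M2 = r •ᶜ M1) ∧
      ♯(Rx x) = (sigmaMax (zpowers x)).ncard ∧ Rx x ⊴ 𝐂[x] ∧ IsHallIn (Rx x) 𝐂[x]) ∧
    (1 < (sigmaMax (zpowers x)).ncard →
      UniqMax 𝐂[x] (Nx x) ∧ Rx x ≠ ⊥ ∧ PiElt (tau2S (Nx x)) x ∧ (TypeFMax (Nx x) ∨ TypeP2Max (Nx x)) ∧
      ∀ M ∈ sigmaMax (zpowers x), IsSdprod (Rx x) (M ⊓ Nx x ⊓ 𝐂[x]) 𝐂[x] ∧ tau2S (Nx x) ⊆ sigmaS M ∧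
        piOf M ∩ sigmaS (Nx x) ⊆ betaS (Nx x) ∧ Hall (sigmaS (Nx x))ᶜ (M ⊓ Nx x) (Nx x)) :=
  Pf.FT_signalizer_context hx

theorem cent1_sub_uniq_sigma_mmax {x : G} {M : Subgroup G} (h : (sigmaMax (zpowers x)).ncard = 1)
    (hM : M ∈ sigmaMax (zpowers x)) : 𝐂[x] ≤ M :=
  Pf.cent1_sub_uniq_sigma_mmax h hM
/-- `|𝓜_σ(x)| > 1` when `C(x) ≰ M` -/
theorem one_lt_ncard_sigmaMax {x : G} {M : Subgroup G} (hM : M ∈ sigmaMax (zpowers x))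
    (h : ¬ 𝐂[x] ≤ M) : 1 < (sigmaMax (zpowers x)).ncard :=
  Pf.one_lt_ncard_sigmaMax hM h
theorem FT_signalizer_baseJ {x : G} (z : G) (hx : ellSigma x = 1) : Nx (z * x * z⁻¹) = z •ᶜ Nx x :=
  Pf.FT_signalizer_baseJ z hx
theorem FT_signalizerJ {x : G} (z : G) (hx : ellSigma x = 1) : Rx (z * x * z⁻¹) = z •ᶜ Rx x :=
  Pf.FT_signalizerJ z hx
theorem mem_sigmaSupp_conj {M : Subgroup G} (hM : IsCoatom M) {z y : G} :
    z * y * z⁻¹ ∈ sigmaSupp (z •ᶜ M) ↔ y ∈ sigmaSupp M :=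
  Pf.mem_sigmaSupp_conj hM
theorem sigma_cover_decomposition {x x' : G} (hx : ellSigma x = 1) (hx' : x' ∈ Rx x) :
    sigmaDecomp (x * x') = insert x ({x'} \ {1}) :=
  Pf.sigma_cover_decomposition hx hx'
theorem mem_sigma_cover_decomposition {x g : G} (hx : ellSigma x = 1) (hg : g ∈ sigmaCover x) :
    x ∈ sigmaDecomp g :=
  Pf.mem_sigma_cover_decomposition hx hg
theorem ell_sigma_cover {x g : G} (hx : ellSigma x = 1) (hg : g ∈ sigmaCover x) : ellSigma g ≤ 2 :=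
  Pf.ell_sigma_cover hx hg
theorem ell_sigma_support {M : Subgroup G} {g : G} (hM : IsCoatom M) (hg : g ∈ sigmaSupp M) :
    ellSigma g ≤ 2 :=
  Pf.ell_sigma_support hM hg

/-- Lemma 14.5(a) -/
theorem sigma_cover_disjoint {x y : G} (hx : ellSigma x = 1) (hy : ellSigma y = 1) (hxy : x ≠ y) :
    Disjoint (sigmaCover x) (sigmaCover y) :=
  Pf.sigma_cover_disjoint hx hy hxy
/-- Lemma 14.5(b) -/
theorem sigma_support_disjoint {M1 M2 : Subgroup G} (h1 : IsCoatom M1) (h2 : IsCoatom M2)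
    (hn : NotConj M2 M1) : Disjoint (sigmaSupp M1) (sigmaSupp M2) :=
  Pf.sigma_support_disjoint h1 h2 hn
/-- Lemma 14.5(c) -/
theorem card_class_support_sigma {M : Subgroup G} (hM : IsCoatom M) :
    (classSupp (sigmaSupp M) ⊤).ncard = (♯(Ms M) - 1) * M.index :=
  Pf.card_class_support_sigma hM

/-- Lemma 14.6 -/
theorem sigma_decomposition_dichotomy {g : G} (hg : g ≠ 1) :
    Xor' (∃ x, ellSigma x = 1 ∧ x⁻¹ * g ∈ Rx x)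
      (∃ y, ellSigma y = 1 ∧ ∃ M ∈ sigmaMax (zpowers y),
        y⁻¹ * g ∈ M ⊓ 𝐂[y] ∧ y⁻¹ * g ≠ 1 ∧ PiElt (kappaS M) (y⁻¹ * g)) :=
  Pf.sigma_decomposition_dichotomy hg

/-- Theorem 14.7 -/
theorem Ptype_embedding {M K : Subgroup G} (hM : TypePMax M) (hK : Hall (kappaS M) K M) :
    ∃ Mstar, PtypeEmbedding M K (Ms M ⊓ 𝐂(K)) Mstar :=
  Pf.Ptype_embedding hM hK

/-- Corollary 14.8, first part -/
theorem P1type_trans {M H : Subgroup G} (hM : TypeP1Max M) (hH : TypeP1Max H) : ∃ g : G, H = g •ᶜ M :=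
  Pf.P1type_trans hM hH
/-- Corollary 14.8, second part -/
theorem Ptype_trans {M : Subgroup G} (hM : TypePMax M) : ∃ Mstar, TypePMax Mstar ∧ NotConj Mstar M ∧
    ∀ H : Subgroup G, TypePMax H → ∃ g : G, H = g •ᶜ M ∨ H = g •ᶜ Mstar :=
  Pf.Ptype_trans hM

/-- Corollary 14.9 -/
theorem mFT_partition :
    (∀ M : Subgroup G, IsCoatom M → (1 : G) ∉ classSupp (sigmaSupp M) ⊤) ∧
    (∀ M L : Subgroup G, IsCoatom M → IsCoatom L → NotConj L M →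
      Disjoint (classSupp (sigmaSupp M) ⊤) (classSupp (sigmaSupp L) ⊤)) ∧
    ((∀ M : Subgroup G, ¬ TypePMax M) → ∀ x : G, x ≠ 1 →
      ∃ M : Subgroup G, IsCoatom M ∧ x ∈ classSupp (sigmaSupp M) ⊤) ∧
    ∀ M K : Subgroup G, TypePMax M → Hall (kappaS M) K M →
      (∀ L : Subgroup G, IsCoatom L →
        Disjoint (classSupp (cycTIset K (Ms M ⊓ 𝐂(K))) ⊤) (classSupp (sigmaSupp L) ⊤)) ∧
      ∀ x : G, x ≠ 1 → x ∈ classSupp (cycTIset K (Ms M ⊓ 𝐂(K))) ⊤ ∨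
        ∃ L : Subgroup G, IsCoatom L ∧ x ∈ classSupp (sigmaSupp L) ⊤ :=
  Pf.mFT_partition

/-- Corollary 14.10 -/
theorem ell_sigma_leq_2 (x : G) : ellSigma x ≤ 2 :=
  Pf.ell_sigma_leq_2 x

/-- Lemma 14.11 -/
theorem primes_non_Fitting_Ftype {M E Q : Subgroup G} {q : ℕ} [Fact q.Prime] (hM : TypeFMax M)
    (hE : Hall (sigmaS M)ᶜ E M) (hQ : IsEp q 1 Q E) (hF : ¬ Q ≤ Fit E) :
    ∃ Mstar, IsCoatom Mstar ∧ ((q ∈ tau2S Mstar ∧ UniqMax 𝐂(Q) Mstar) ∨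
      (q ∈ kappaS Mstar ∧ TypeP1Max Mstar)) :=
  Pf.primes_non_Fitting_Ftype hM hE hQ hF

/-- Lemma 14.12 -/
theorem P2type_signalizer {M Mstar U K R H : Subgroup G} {r : ℕ} [Fact r.Prime] (hM : TypeP2Max M)
    (hUK : KappaCompl M U K) (hMs : IsCoatom Mstar) (hC : 𝐂(K) ≤ Mstar) (hR : Syl r R U)
    (hH : IsCoatom H) (hN : 𝐍(R) ≤ H) :
    TypeFMax H ∧ U ≤ Ms H ∧ U ⊔ K = M ⊓ H ∧ ¬ H ⊓ 𝐍(U) ≤ M ∧ K ≤ Fit (H ⊓ Mstar) ∧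
    Hall (sigmaS H)ᶜ (H ⊓ Mstar) H :=
  Pf.P2type_signalizer hM hUK hMs hC hR hH hN

/-- Lemma 14.13(a) -/
theorem non_disjoint_signalizer_Frobenius {x : G} {M : Subgroup G} (hx : ellSigma x = 1)
    (h : 1 < (sigmaMax (zpowers x)).ncard) (hM : M ∈ sigmaMax (zpowers x))
    (hs : ¬ PiGrp (sigmaS (Nx x))ᶜ M) :
    TypeFMax M ∧ PiGrp (tau2S M)ᶜ M ∧ IsFrobKer M (Ms M) :=
  Pf.non_disjoint_signalizer_Frobenius hx h hM hs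

end Cfsg.Agent.OO
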