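import Cfsg.Agent.Lib.OO.MinOdd
import Cfsg.Agent.Lib.OO.Pf.BG15_E

/-! # B&G section 15

All results (`Fcore_sub_Msigma`, `Fcore_eq_Msigma`, `kappa_structure`, `FcoreStructure`,
`Fcore_structure`, `cent_Hall_sigma_sdprod`, `sigma_Hall_tame`, `nilpotent_Hall_sigma`,
`Fitting_structure`, `Ptype_cyclics`, `nonTI_Fitting_structure`, `nonTI_Fitting_facts`,
`tau2_P2type_signalizer`, `nonFtype_signalizer_base`) are proved, under these names in the namespace
`Cfsg.Agent.OO`, in the files `Pf/BG15_A` … `Pf/BG15_E`. -/
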