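import Cfsg.Agent.Lib.OO.MinOdd
import Cfsg.Agent.Lib.OO.Pf.BG16_C

/-! # B&G section 16

All results (elementary facts on `FTtype`, `FTder`, `FTcore`, `FTsupp1`, `FTsupp`, `FTsupp0`; `hatA`,
`SummaryA`, `SummaryC`, `BGsummaryA` … `BGsummaryD`, `FTtype_Fmax` …, `def_FTcore` …, `typePfacts`,
`FTtypeP`, `BGsummaryI_fusion`, `BGsummaryI`, `FTsupp0_typeP`, `BGsummaryII`) are proved, under these
names in the namespace `Cfsg.Agent.OO`, in the files `Pf/BG16_A`, `Pf/BG16_B`, `Pf/BG16_C`.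
Theorem E is `card_class_support_sigma`, `sigma_mmax_exists`, `sigma_partition` (BG13) and
`mFT_partition` (BG14). -/
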