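import Cfsg.Agent.Lib.OO.BG4
import Cfsg.Agent.Lib.OO.Pf.BG5_A

/-! # Interface: B&G section 5 -/

set_option autoImplicit false
set_option linter.unusedSectionVars false
set_option linter.unusedVariables false

namespace Cfsg.Agent.OO

open Subgroup Cfsg.Agent.Coprime
open scoped Pointwise commutatorElement

universe u v w

variable {G : Type u} [Group G] [Finite G]

variable {A E H R S : Subgroup G} {p : ℕ} [Fact p.Prime]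

theorem narrow_map {G' : Type v} [Group G'] [Finite G'] (f : G →* G') (hf : Set.InjOn f R) :
    Narrow p (R.map f) ↔ Narrow p R :=
  Pf.narrow_map f hf

/-- Lemma 5.1(a) -/
theorem rank3_SCN3 (hR : IsPGroup p R) (ho : Odd ♯R) (hr : 2 < rp p R) : ∃ B, IsSCNn 3 R B :=
  Pf.rank3_SCN3 hR ho hr
/-- Lemma 5.1(b) -/
theorem normal_p2Elem_SCN3 (hR : IsPGroup p R) (ho : Odd ♯R) (hr : 2 < rp p R) (hE : IsEp p 2 E R)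
    (hn : E ⊴ R) : ∃ B, IsSCNn 3 R B ∧ E ≤ B :=
  Pf.normal_p2Elem_SCN3 hR ho hr hE hn

/-- Lemma 5.2, with `Z = Ω₁(Z(R))`, `W = Ω₁(Z₂(R))`, `T = C_R(W)` -/
theorem Ohm1_ucn_p2maxElem (hR : IsPGroup p R) (ho : Odd ♯R) (hr : 2 < rp p R) (hE : IsEp p 2 E R)
    (hm : IsMaxEp p E R) :
    ¬ E ≤ R ⊓ 𝐂(Ohm p (Zn 2 R)) ∧ (♯(Ohm p (Zc R)) = p ∧ IsEp p 2 (Ohm p (Zn 2 R)) R) ∧
    (R ⊓ 𝐂(Ohm p (Zn 2 R))).relIndex R = p :=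
  Pf.Ohm1_ucn_p2maxElem hR ho hr hE hm

/-- Theorem 5.3(d) -/
theorem narrow_cent_dprod (hR : IsPGroup p R) (ho : Odd ♯R) (hr : 2 < rp p R) (hn : Narrow p R)
    (hS : ♯S = p) (hSR : S ≤ R) (hC : rp p (R ⊓ 𝐂(S)) ≤ 2) :
    IsCyclic ↥(R ⊓ 𝐂(Ohm p (Zn 2 R)) ⊓ 𝐂(S)) ∧ S ⊓ der R = ⊥ ∧ S ⊓ (R ⊓ 𝐂(Ohm p (Zn 2 R))) = ⊥ ∧
    IsDprod S (R ⊓ 𝐂(Ohm p (Zn 2 R)) ⊓ 𝐂(S)) (R ⊓ 𝐂(S)) :=
  Pf.narrow_cent_dprod hR ho hr hn hS hSR hC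

/-- Corollary 5.4 -/
theorem narrow_centP (hR : IsPGroup p R) (ho : Odd ♯R) (hr : 2 < rp p R) :
    Narrow p R ↔ ∃ S, S ≤ R ∧ ♯S = p ∧ rp p (R ⊓ 𝐂(S)) ≤ 2 :=
  Pf.narrow_centP hR ho hr

/-- Theorem 5.3 -/
theorem narrow_structureP (hR : IsPGroup p R) (ho : Odd ♯R) (hr : 2 < rp p R) :
    Narrow p R ↔ ∃ S C : Subgroup G, S ≤ R ∧ ♯S = p ∧ IsCyclic C ∧ IsDprod S C (R ⊓ 𝐂(S)) :=
  Pf.narrow_structureP hR ho hr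

/-- Theorem 5.5(a,b), for internal actions -/
theorem Aut_narrow (hR : IsPGroup p R) (ho : Odd ♯R) (hn : Narrow p R) (hA : A ≤ 𝐍(R)) (hs : Sol A)
    (hoA : Odd ♯A) :
    (∀ x ∈ der A, (orderOf x).Coprime p → x ∈ 𝐂(R)) ∧
    (2 < rp p R → ∀ x ∈ A, (orderOf x).Coprime p → x ^ (p - 1) ∈ 𝐂(R)) :=
  Pf.Aut_narrow hR ho hn hA hs hoA

/-- Theorem 5.6(a,c) -/
theorem narrow_der1_complement_max_pdiv (ho : Odd ♯H) (hs : Sol H) (hS : Syl p S H) (hn : Narrow p S)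
    (hl : 2 < rp p S → PLen1 p H) :
    PNil p (der H) ∧ ∀ q : ℕ, q.Prime → q ∣ (Op' p H).relIndex H → q ≤ p :=
  Pf.narrow_der1_complement_max_pdiv ho hs hS hn hl

end Cfsg.Agent.OO
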