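import Cfsg.Agent.Lib.OO.MinOdd
import Cfsg.Agent.Lib.OO.Pf.BG8_A

/-! # Interface: B&G section 8 -/

set_option autoImplicit false
set_option linter.unusedSectionVars false
set_option linter.unusedVariables false

namespace Cfsg.Agent.OO

open Subgroup Cfsg.Agent.Coprime
open scoped Pointwise

universe u

variable {G : Type u} [Group G] [Finite G] [MinOdd G]

/-- Theorem 8.1(a) -/
theorem non_pcore_Fitting_Uniqueness {p : ℕ} [Fact p.Prime] {M A0 : Subgroup G} (hM : IsCoatom M)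
    (hF : ¬ IsPGroup p (Fit M)) (hA : IsMaxEp p A0 (Fit M)) (hr : 3 ≤ rp p A0) :
    Uniq (Fit M ⊓ 𝐂(A0)) :=
  Pf.non_pcore_Fitting_Uniqueness hM hF hA hr

/-- Theorem 8.1(b) -/
theorem SCN_Fitting_Uniqueness {p : ℕ} [Fact p.Prime] {M P A : Subgroup G} (hM : IsCoatom M)
    (hF : IsPGroup p (Fit M)) (hP : Syl p P M) (hr : 3 ≤ rp p (Fit M)) (hA : IsSCNn 3 P A) :
    Syl p P ⊤ ∧ A ≤ Fit M ∧ Uniq A :=
  Pf.SCN_Fitting_Uniqueness hM hF hP hr hA

/-- both branches of Theorem 8.1 -/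
theorem Fitting_Uniqueness {M : Subgroup G} (hM : IsCoatom M) (hr : 3 ≤ rank (Fit M)) :
    Uniq (Fit M) :=
  Pf.Fitting_Uniqueness hM hr

end Cfsg.Agent.OO
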