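import Cfsg.Agent.Lib.OO.MinOdd
import Cfsg.Agent.Lib.OO.Pf.BGC_B

/-! # Interface: B&G appendix C -/

set_option autoImplicit false
set_option linter.unusedSectionVars false
set_option linter.unusedVariables false

namespace Cfsg.Agent.OO

open Subgroup

universe u v

/-- B&G Theorem C (`prime_dim_normed_finField`).  `P ⋊ U ≅ F ⋊ (norm one units)` through `f`, `ψ`;
`P₀ = {x ∈ P | f x ^ p = f x}` is the prime field part of `P`. -/
theorem prime_dim_normed_finField {G : Type u} [Group G] [Finite G] (p q : ℕ) [Fact p.Prime]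
    [Fact q.Prime] (hA : Nat.Coprime ((p ^ q - 1) / (p - 1)) (p - 1))
    (F : Type v) [Field F] [Fintype F] (hF : Fintype.card F = p ^ q) (P U Q : Subgroup G) (f ψ : G → F)
    (hf : Set.BijOn f (P : Set G) Set.univ) (hfadd : ∀ x ∈ P, ∀ z ∈ P, f (x * z) = f x + f z)
    (hUP : U ≤ 𝐍(P)) (hψ : ∀ u ∈ U, ψ u ≠ 0 ∧ ∀ x ∈ P, f (u * x * u⁻¹) = ψ u * f x)
    (hψmul : ∀ u ∈ U, ∀ v ∈ U, ψ (u * v) = ψ u * ψ v) (hψinj : Set.InjOn ψ (U : Set G))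
    (hUcard : ♯U * (p - 1) = p ^ q - 1)
    (hQ : Ab Q) (hQp : (♯Q).Coprime p) (hP0Q : ∀ x ∈ P, f x ^ p = f x → x ∈ 𝐍(Q))
    (y : G) (hy : y ∈ Q) (hP0U : ∀ x ∈ P, f x ^ p = f x → y * x * y⁻¹ ∈ 𝐍(U)) :
    p ≤ q :=
  Pf.prime_dim_normed_finField p q hA F hF P U Q f ψ hf hfadd hUP hψ hψmul hψinj hUcard hQ hQp hP0Q y hy hP0U

end Cfsg.Agent.OO
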