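import Cfsg.Agent.Lib.OO.Defs
import Cfsg.Agent.Lib.Core.Fitting
import Cfsg.Agent.Lib.Transfer.SylowIn

/-!
# Basic facts on the minimal counterexample (start of B&G section 7)
-/

set_option autoImplicit false
set_option linter.unusedSectionVars false

namespace Cfsg.Agent.OO

open Subgroup Cfsg.Agent.Coprime
open scoped Pointwise

universe u

/-- `K` is transitive on `И*(A; q)` -/
def NormTrans {G : Type u} [Group G] (K A : Subgroup G) (q : ℕ) : Prop :=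
  ∀ Q1 Q2, IsMaxNormed ⊤ A {q} Q1 → IsMaxNormed ⊤ A {q} Q2 → ∃ k ∈ K, Q2 = k •ᶜ Q1

/-- `A ∈ SCN₃(p)` -/
def IsSCN3p {G : Type u} [Group G] (p : ℕ) (A : Subgroup G) : Prop := ∃ P, Syl p P ⊤ ∧ IsSCNn 3 P A

/-- `L` is not conjugate to `M` -/
def NotConj {G : Type u} [Group G] (L M : Subgroup G) : Prop := ∀ g : G, L ≠ g •ᶜ M

variable {G : Type u} [Group G] [Finite G]

theorem isCoatom_conj {M : Subgroup G} (hM : IsCoatom M) (g : G) : IsCoatom (g •ᶜ M) :=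
  (OrderIso.isCoatom_iff (MulAut.conj g).mapSubgroup M).mpr hM

theorem NotConj.symm {L M : Subgroup G} (h : NotConj L M) : NotConj M L := by
  intro g hg
  exact h g⁻¹ (by rw [hg, Transfer.conj_inv_smul_conj_smul])

theorem NotConj.ne {L M : Subgroup G} (h : NotConj L M) : L ≠ M := by
  have := h 1
  rwa [Transfer.conj_one_smul] at this

theorem mmax_exists {H : Subgroup G} (h : H ≠ ⊤) : ∃ M, IsCoatom M ∧ H ≤ M :=
  (eq_top_or_exists_le_coatom H).resolve_left h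

theorem eq_mmax {M L : Subgroup G} (hM : IsCoatom M) (hL : IsCoatom L) (h : M ≤ L) : M = L :=
  (hM.le_iff_eq hL.1 |>.mp h).symm

theorem mmax_max {M H : Subgroup G} (hM : IsCoatom M) (hH : H ≠ ⊤) (h : M ≤ H) : H = M :=
  (hM.le_iff_eq hH).mp h

theorem ne_top_of_le_mmax {M H : Subgroup G} (hM : IsCoatom M) (h : H ≤ M) : H ≠ ⊤ :=
  ne_top_of_le_ne_top hM.1 h

theorem UniqMax.coatom {H M : Subgroup G} (h : UniqMax H M) : IsCoatom M := h.1
theorem UniqMax.le {H M : Subgroup G} (h : UniqMax H M) : H ≤ M := h.2.1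
theorem UniqMax.eq {H M L : Subgroup G} (h : UniqMax H M) (hL : IsCoatom L) (hH : H ≤ L) : L = M :=
  h.2.2 L hL hH
theorem UniqMax.uniq {H M : Subgroup G} (h : UniqMax H M) : Uniq H := ⟨M, h⟩

/-- `sub_uniq_mmax` -/
theorem UniqMax.le_of_ne_top {H M K : Subgroup G} (h : UniqMax H M) (hHK : H ≤ K) (hK : K ≠ ⊤) :
    K ≤ M := by
  obtain ⟨L, hL, hKL⟩ := mmax_exists hK
  exact h.eq hL (hHK.trans hKL) ▸ hKL

/-- `def_uniq_mmaxS` -/
theorem UniqMax.mono {H M K : Subgroup G} (h : UniqMax H M) (hHK : H ≤ K) (hK : K ≠ ⊤) :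
    UniqMax K M :=
  ⟨h.1, h.le_of_ne_top hHK hK, fun _ hL hKL => h.eq hL (hHK.trans hKL)⟩

/-- `uniq_mmaxS` -/
theorem Uniq.mono {H K : Subgroup G} (h : Uniq H) (hHK : H ≤ K) (hK : K ≠ ⊤) : Uniq K :=
  h.imp fun _ h => h.mono hHK hK

/-- `def_uniq_mmax` -/
theorem Uniq.uniqMax {H M : Subgroup G} (h : Uniq H) (hM : IsCoatom M) (hH : H ≤ M) : UniqMax H M := by
  obtain ⟨L, hL⟩ := h
  exact hL.eq hM hH ▸ hL

theorem Uniq.ne_top {H : Subgroup G} (h : Uniq H) : H ≠ ⊤ := by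
  obtain ⟨L, hL⟩ := h
  exact ne_top_of_le_mmax hL.1 hL.le

theorem uniqMax_self {M : Subgroup G} (hM : IsCoatom M) : UniqMax M M :=
  ⟨hM, le_rfl, fun _ hL h => (eq_mmax hM hL h).symm⟩

theorem UniqMax.conj {H M : Subgroup G} (h : UniqMax H M) (g : G) : UniqMax (g •ᶜ H) (g •ᶜ M) := by
  refine ⟨isCoatom_conj h.1 g, Transfer.conj_smul_mono g h.le, fun L hL hH => ?_⟩
  have := h.eq (isCoatom_conj hL g⁻¹) (by
    rw [← Transfer.conj_inv_smul_conj_smul g H]; exact Transfer.conj_smul_mono _ hH)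
  rw [← this, Transfer.conj_smul_conj_inv_smul]

theorem Uniq.conj {H : Subgroup G} (h : Uniq H) (g : G) : Uniq (g •ᶜ H) :=
  let ⟨_, hM⟩ := h; ⟨_, hM.conj g⟩

variable [hG : MinOdd G]

theorem mFT_odd_card : Odd (Nat.card G) := hG.out.1

theorem mFT_odd (H : Subgroup G) : Odd ♯H := Odd.of_dvd_nat mFT_odd_card H.card_subgroup_dvd_card

theorem mFT_odd_orderOf (x : G) : Odd (orderOf x) := Odd.of_dvd_nat mFT_odd_card (orderOf_dvd_natCard x)

theorem mFT_simple : IsSimpleGroup G := hG.out.2.1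

theorem mFT_nonAbelian : ¬ IsMulCommutative G := hG.out.2.2.1

theorem mFT_sol {H : Subgroup G} (h : H ≠ ⊤) : Sol H := hG.out.2.2.2 H h

theorem mFT_nonSolvable : ¬ Group.IsSolvable G := fun _ =>
  have := mFT_simple (G := G)
  mFT_nonAbelian ⟨⟨IsSimpleGroup.comm_iff_isSolvable.mpr ‹_›⟩⟩

theorem mFT_ne_top_of_sol {H : Subgroup G} (h : Sol H) : H ≠ ⊤ := by
  rintro rfl
  exact mFT_nonSolvable (Group.isSolvable_of_surjective (f := (⊤ : Subgroup G).subtype)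
    fun x => ⟨⟨x, trivial⟩, rfl⟩)

theorem mFT_ne_top_of_nil {H : Subgroup G} (h : Nil H) : H ≠ ⊤ := mFT_ne_top_of_sol inferInstance

theorem mFT_pgroup_proper {p : ℕ} [Fact p.Prime] {P : Subgroup G} (h : IsPGroup p P) : P ≠ ⊤ :=
  mFT_ne_top_of_nil h.isNilpotent

theorem mFT_norm_proper {H : Subgroup G} (h1 : H ≠ ⊥) (h2 : H ≠ ⊤) : 𝐍(H) ≠ ⊤ := by
  intro h
  have := mFT_simple (G := G)
  rcases (normalizer_eq_top_iff.mp h).eq_bot_or_eq_top with h | h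
  exacts [h1 h, h2 h]

theorem mFT_center_eq_bot : center G = ⊥ := by
  have := mFT_simple (G := G)
  rcases (inferInstance : (center G).Normal).eq_bot_or_eq_top with h | h
  · exact h
  · exact absurd ⟨⟨fun a b => (mem_center_iff.mp (h ▸ mem_top b) a)⟩⟩ mFT_nonAbelian

theorem mFT_cent1_proper {x : G} (h : x ≠ 1) : 𝐂[x] ≠ ⊤ := by
  intro h2
  apply h
  rw [← mem_bot, ← mFT_center_eq_bot, mem_center_iff]
  intro g
  have hg : g ∈ 𝐂[x] := by rw [h2]; exact mem_top g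
  exact (mem_centralizer_iff.mp hg x rfl).symm

theorem mFT_cent_proper {H : Subgroup G} (h : H ≠ ⊥) : 𝐂(H) ≠ ⊤ := by
  obtain ⟨⟨x, hx⟩, hx1⟩ := ne_bot_iff_exists_ne_one.mp h
  refine ne_top_of_le_ne_top (mFT_cent1_proper (x := x) fun h => hx1 (Subtype.ext h)) ?_
  exact centralizer_le (Set.singleton_subset_iff.mpr hx)

theorem mmax_sol {M : Subgroup G} (hM : IsCoatom M) : Sol M := mFT_sol hM.1

theorem mFT_bot_ne_top : (⊥ : Subgroup G) ≠ ⊤ := mFT_ne_top_of_sol inferInstance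

theorem mmax_neq1 {M : Subgroup G} (hM : IsCoatom M) : M ≠ ⊥ := by
  rintro rfl
  have := mFT_simple (G := G)
  obtain ⟨x, hx⟩ := exists_ne (1 : G)
  have h1 : zpowers x = ⊤ := hM.2 _ (bot_lt_iff_ne_bot.mpr (by simpa using hx))
  exact mFT_ne_top_of_sol (H := zpowers x) inferInstance h1

theorem mmax_normal {M H : Subgroup G} (hM : IsCoatom M) (h : H ⊴ M) (h1 : H ≠ ⊥) : 𝐍(H) = M :=
  mmax_max hM (mFT_norm_proper h1 (ne_top_of_le_mmax hM h.1)) h.2

theorem norm_mmax {M : Subgroup G} (hM : IsCoatom M) : 𝐍(M) = M :=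
  mmax_normal hM ⟨le_rfl, le_normalizer⟩ (mmax_neq1 hM)

theorem conj_mmax_eq_iff {M : Subgroup G} (hM : IsCoatom M) {g : G} : g •ᶜ M = M ↔ g ∈ M := by
  rw [Transfer.conj_smul_eq_iff_mem_normalizer, norm_mmax hM]

/-- `uniq_mmax_norm_sub` -/
theorem UniqMax.norm_le {H M : Subgroup G} (h : UniqMax H M) : 𝐍(H) ≤ M := by
  intro g hg
  rw [← conj_mmax_eq_iff h.1]
  refine h.eq (isCoatom_conj h.1 g) ?_
  rw [← Transfer.conj_smul_eq_iff_mem_normalizer.mpr hg]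
  exact Transfer.conj_smul_mono g h.le

theorem Uniq.ne_bot {H : Subgroup G} (h : Uniq H) : H ≠ ⊥ := by
  rintro rfl
  obtain ⟨M, hM⟩ := h
  have := hM.norm_le
  rw [normalizer_eq_top_iff.mpr inferInstance] at this
  exact hM.1.1 (top_le_iff.mp this)

end Cfsg.Agent.OO
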