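import Cfsg.Agent.Lib.OO.PF10Defs
import Cfsg.Agent.Lib.OO.Pf.PF10_C

/-! # Interface: Peterfalvi section 10 -/

set_option autoImplicit false
set_option linter.unusedSectionVars false
set_option linter.unusedVariables false

namespace Cfsg.Agent.OO

open Subgroup Cfsg.Agent.Coprime
open scoped Pointwise

universe u

variable {G : Type u} [Group G] [Finite G] [MinOdd G]

variable {M U W W1 W2 : Subgroup G}

/-- (10.2), valid for all groups of type `𝓟` -/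
theorem FTtypeP_ref_irr (hM : IsCoatom M) (h : OfTypeP M U W W1 W2) : ∃ ζ, RefIrr M W1 ζ :=
  Pf.FTtypeP_ref_irr hM h

/-- (10.3), first assertion -/
theorem FTtype345_core_prime (h : T345Hyp M U W W1 W2) : (♯W2).Prime :=
  Pf.FTtype345_core_prime h

/-- (10.3) -/
theorem FTtype345_constants (h : T345Hyp M U W W1 W2) : ∃ d δ n, T345Const M W W1 W2 d δ n :=
  Pf.FTtype345_constants h

section Bridge
variable {d n : ℕ} {δ : ℂ} {ζ i j : G → ℂ}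

/-- (10.5), first part -/
theorem supp_FTtype345_bridge (h : T345Hyp M U W W1 W2) (hc : T345Const M W W1 W2 d δ n)
    (hζ : RefIrr M W1 ζ) (hi : IsIrr W1 i) (hj : IsIrr W2 j) (hj0 : j ≠ cf1 W2) :
    T345bridge M W W1 W2 δ n ζ i j ∈ CFon M (FTsupp0 M) :=
  Pf.supp_FTtype345_bridge h hc hζ hi hj hj0

theorem vchar_FTtype345_bridge (h : T345Hyp M U W W1 W2) (hc : T345Const M W W1 W2 d δ n)
    (hζ : RefIrr M W1 ζ) (hi : IsIrr W1 i) (hj : IsIrr W2 j) :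
    T345bridge M W W1 W2 δ n ζ i j ∈ ZIrr M :=
  Pf.vchar_FTtype345_bridge h hc hζ hi hj

theorem vchar_Dade_FTtype345_bridge (h : T345Hyp M U W W1 W2) (hc : T345Const M W W1 W2 d δ n)
    (hζ : RefIrr M W1 ζ) (hi : IsIrr W1 i) (hj : IsIrr W2 j) (hj0 : j ≠ cf1 W2) :
    FTDade0 M (T345bridge M W W1 W2 δ n ζ i j) ∈ ZIrr (⊤ : Subgroup G) :=
  Pf.vchar_Dade_FTtype345_bridge h hc hζ hi hj hj0

theorem norm_FTtype345_bridge (h : T345Hyp M U W W1 W2) (hc : T345Const M W W1 W2 d δ n)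
    (hζ : RefIrr M W1 ζ) (hi : IsIrr W1 i) (hj : IsIrr W2 j) (hj0 : j ≠ cf1 W2) :
    cfnorm ⊤ (FTDade0 M (T345bridge M W W1 W2 δ n ζ i j)) = 2 + (n : ℝ) ^ 2 :=
  Pf.norm_FTtype345_bridge h hc hζ hi hj hj0

open Classical in
/-- the version of (10.5) used in (10.10.5) and (11.8) -/
theorem FTtype345_bridge_coherence (h : T345Hyp M U W W1 W2) (hc : T345Const M W W1 W2 d δ n)
    (hζ : RefIrr M W1 ζ) (hi : IsIrr W1 i) (hj : IsIrr W2 j) (hj0 : j ≠ cf1 W2)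
    {S1 : Finset (G → ℂ)} {τ1 : (G → ℂ) →+ (G → ℂ)} {X Y : G → ℂ}
    (hτ : CoherentWith M ⊤ S1 (sharp M) (FTDade0 M) τ1)
    (hXY : FTDade0 M (T345bridge M W W1 W2 δ n ζ i j) = X + Y) (hS : ConjSubset S1 (calSP M))
    (hirr : ∀ φ ∈ S1, IsIrr M φ) (hY : Y ∈ Zspan (S1.image τ1))
    (hYX : ⟪Y, X⟫[⊤] = 0) (hYn : cfnorm ⊤ Y = (n : ℝ) ^ 2) :
    X = δ • (cycTIeta ⊤ W W1 W2 i j - cycTIeta ⊤ W W1 W2 i (cf1 W2)) :=
  Pf.FTtype345_bridge_coherence h hc hζ hi hj hj0 hτ hXY hS hirr hY hYX hYn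

/-- (10.9) -/
theorem FTtype345_Dade_bridge0 (h : T345Hyp M U W W1 W2) (hζ : RefIrr M W1 ζ) (hw : ♯W1 < ♯W2) :
    ∃ χ, FTDade0 M (prTIred M W W1 W2 (cf1 W2) - ζ) = ∑ i ∈ Irr W1, cycTIeta ⊤ W W1 W2 i (cf1 W2) - χ ∧
      χ ∈ ZIrr (⊤ : Subgroup G) ∧ ⟪χ, χ⟫[⊤] = 1 ∧
      ∀ k ∈ Irr W1, ∀ l ∈ Irr W2, ⟪χ, cycTIeta ⊤ W W1 W2 k l⟫[⊤] = 0 :=
  Pf.FTtype345_Dade_bridge0 h hζ hw

end Bridge

/-- (10.8) -/
theorem FTtype345_noncoherence (hM : IsCoatom M) (ht : 2 < FTtype M) :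
    ¬ Coherent M ⊤ (calSD M) (sharp M) (FTDade0 M) :=
  Pf.FTtype345_noncoherence hM ht

/-- (10.10) -/
theorem FTtype5_exclusion (hM : IsCoatom M) : FTtype M ≠ 5 :=
  Pf.FTtype5_exclusion hM

/-- (10.11), first assertion -/
theorem FTtypeP_pair_primes {S T : Subgroup G} (h : TypePPair S T W W1 W2) :
    (♯W1).Prime ∧ (♯W2).Prime :=
  Pf.FTtypeP_pair_primes h

theorem FTtypeP_primes (hM : IsCoatom M) (h : OfTypeP M U W W1 W2) : (♯W1).Prime ∧ (♯W2).Prime :=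
  Pf.FTtypeP_primes hM h

/-- (10.11) -/
theorem FTtypeII_prime_facts (hM : IsCoatom M) (h : OfTypeP M U W W1 W2) (ht : FTtype M = 2) :
    IsElementaryAbelian ♯W2 (Fcore M) ∧ ♯(Fcore M) = ♯W2 ^ ♯W1 ∧
    Coherent M ⊤ (calSH M ⊥) (sharp M) (FTDade0 M) :=
  Pf.FTtypeII_prime_facts hM h ht

end Cfsg.Agent.OO
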