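import Cfsg.Agent.Lib.OO.PF9

/-! # Definitions for Peterfalvi section 10 -/

set_option autoImplicit false
set_option linter.unusedSectionVars false
set_option linter.unusedVariables false

namespace Cfsg.Agent.OO

open Subgroup Cfsg.Agent.Coprime
open scoped Pointwise

universe u

variable {G : Type u} [Group G] [Finite G] [MinOdd G]

/-- Hypothesis (10.1): a maximal subgroup of type III, IV or V -/
structure T345Hyp (M U W W1 W2 : Subgroup G) : Prop where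
  max : IsCoatom M
  typeP : OfTypeP M U W W1 W2
  not2 : FTtype M ≠ 2

/-- `𝒮 = {Ind_{M'}^M θ | 1 ≠ θ ∈ Irr M'}` -/
noncomputable abbrev calSD (M : Subgroup G) : Finset (G → ℂ) := seqIndD (der M) M (der M) ⊥

/-- the constants `d`, `δ`, `n` of (10.3) -/
structure T345Const (M W W1 W2 : Subgroup G) (d : ℕ) (δ : ℂ) (n : ℕ) : Prop where
  deg : ∀ i ∈ Irr W1, ∀ j ∈ Irr W2, j ≠ cf1 W2 → prTIirr M W W1 W2 i j 1 = d
  sign : ∀ j ∈ Irr W2, j ≠ cf1 W2 → prTIsign M W W1 W2 j = δ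
  sign_eq : δ = 1 ∨ δ = -1
  one_lt : 1 < d
  ratio : (d : ℂ) - δ = ♯W1 * n

/-- the irreducible character `ζ` of (10.2) -/
structure RefIrr (M W1 : Subgroup G) (ζ : G → ℂ) : Prop where
  irr : IsIrr M ζ
  mem : ζ ∈ calSD M
  deg : ζ 1 = ♯W1

/-- `α_{ij} = μ_{ij} - δ μ_{i0} - n ζ` -/
noncomputable def T345bridge (M W W1 W2 : Subgroup G) (δ : ℂ) (n : ℕ) (ζ i j : G → ℂ) : G → ℂ :=
  prTIirr M W W1 W2 i j - δ • prTIirr M W W1 W2 i (cf1 W2) - n • ζ

end Cfsg.Agent.OO
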