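import Cfsg.Agent.Lib.OO.PF10
import Cfsg.Agent.Lib.OO.Pf.PF11_B

/-! # Interface: Peterfalvi section 11 -/

set_option autoImplicit false
set_option linter.unusedSectionVars false
set_option linter.unusedVariables false

namespace Cfsg.Agent.OO

open Subgroup Cfsg.Agent.Coprime
open scoped Pointwise

universe u

variable {G : Type u} [Group G] [Finite G] [MinOdd G]

/-- (11.1) -/
theorem lbound_expn_odd_prime {p q : ℕ} (hp : p.Prime) (hq : q.Prime) (op : Odd p) (oq : Odd q)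
    (hpq : p ≠ q) : 4 * q ^ 2 + 1 < p ^ q :=
  Pf.lbound_expn_odd_prime hp hq op oq hpq

variable {M U W W1 W2 H0 : Subgroup G}

/-- (11.3); here and below `C = C_U(H)` and `𝒮(Y) = seqIndD M' M M' Y` -/
theorem FTtype34_noncoherence (h : PtypeHyp M U W W1 W2 H0) (h2 : FTtype M ≠ 2) :
    ¬ Coherent M ⊤ (seqIndD (der M) M (der M) (H0 ⊔ U ⊓ 𝐂(Fcore M))) (sharp M) (FTDade0 M) :=
  Pf.FTtype34_noncoherence h h2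

/-- (11.5) -/
theorem FTtype34_der2 (h : PtypeHyp M U W W1 W2 H0) (h2 : FTtype M ≠ 2) :
    der2 M = Fcore M ⊔ U ⊓ 𝐂(Fcore M) :=
  Pf.FTtype34_der2 h h2

/-- (11.6) -/
theorem FTtype34_facts (h : PtypeHyp M U W W1 W2 H0) (h2 : FTtype M ≠ 2) :
    IsPGroup ♯W2 (Fcore M) ∧ U ≤ 𝐂(H0) ∧ H0 = der (Fcore M) ∧ U ⊓ 𝐂(Fcore M) = der U :=
  Pf.FTtype34_facts h h2

/-- (11.7) -/
theorem FTtype34_Fcore_kernel_trivial (h : PtypeHyp M U W W1 W2 H0) (h2 : FTtype M ≠ 2) :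
    IsElementaryAbelian ♯W2 (Fcore M) ∧ ♯(Fcore M) = ♯W2 ^ ♯W1 ∧ H0 = ⊥ :=
  Pf.FTtype34_Fcore_kernel_trivial h h2

theorem Ptype_Fcompl_kernel_cent (h : PtypeHyp M U W W1 W2 H0) (h2 : FTtype M ≠ 2) :
    Pc M U H0 = U ⊓ 𝐂(Fcore M) :=
  Pf.Ptype_Fcompl_kernel_cent h h2

/-- (11.8) -/
theorem FTtype34_not_ortho_cycTIiso (h : PtypeHyp M U W W1 W2 H0) (h2 : FTtype M ≠ 2) {ζ : G → ℂ}
    (hζ : ζ ∈ seqIndD (der M) M (der M) (Fcore M ⊔ U ⊓ 𝐂(Fcore M))) :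
    ¬ ∀ k ∈ Irr W1, ∀ l ∈ Irr W2,
      ⟪FTDade0 M (prTIred M W W1 W2 (cf1 W2) - ζ) - ∑ i ∈ Irr W1, cycTIeta ⊤ W W1 W2 i (cf1 W2),
        cycTIeta ⊤ W W1 W2 k l⟫[⊤] = 0 :=
  Pf.FTtype34_not_ortho_cycTIiso h h2 hζ

/-- (11.9) -/
theorem FTtype34_structure (h : PtypeHyp M U W W1 W2 H0) (h2 : FTtype M ≠ 2) :
    (∀ ζ ∈ seqIndD (der M) M (der M) (Fcore M ⊔ U ⊓ 𝐂(Fcore M)), ∀ k ∈ Irr W1, ∀ l ∈ Irr W2,
      ⟪FTDade0 M (prTIred M W W1 W2 (cf1 W2) - ζ) - ∑ j ∈ Irr W2, cycTIeta ⊤ W W1 W2 (cf1 W1) j,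
        cycTIeta ⊤ W W1 W2 k l⟫[⊤] = 0) ∧
    ♯W2 < ♯W1 ∧ FTtype M = 3 ∧ PGalois M U H0 :=
  Pf.FTtype34_structure h h2

end Cfsg.Agent.OO
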