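import Cfsg.Agent.Lib.OO.PF12Defs
import Cfsg.Agent.Lib.OO.Pf.PF12_C

/-! # Interface: Peterfalvi section 12 -/

set_option autoImplicit false
set_option linter.unusedSectionVars false
set_option linter.unusedVariables false

namespace Cfsg.Agent.OO

open Subgroup Cfsg.Agent.Coprime
open scoped Pointwise

universe u

variable {G : Type u} [Group G] [Finite G] [MinOdd G]

/- `calSF`, `calIF`, `irrConstt`, `FT1Base` are defined in `PF12Defs`. -/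

variable {L : Subgroup G}

theorem FTtype1_ref_irr (hL : IsCoatom L) : ∃ φ ∈ calSF L, φ 1 = (Fcore L).relIndex L :=
  Pf.FTtype1_ref_irr hL

theorem FTtype1_irr_partition (hL : IsCoatom L) :
    (∀ χ ∈ calSF L, irrConstt L χ ⊆ calIF L) ∧ (∀ φ ∈ calIF L, ∃ χ ∈ calSF L, φ ∈ irrConstt L χ) ∧
    ∀ χ ∈ calSF L, ∀ ψ ∈ calSF L, χ ≠ ψ → Disjoint (irrConstt L χ) (irrConstt L ψ) :=
  Pf.FTtype1_irr_partition hL

/-- (12.2)(a), first part -/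
theorem FTtype1_seqInd_facts (hL : IsCoatom L) (h1 : FTtype L = 1) {χ : G → ℂ} (hχ : χ ∈ calSF L) :
    χ = ∑ φ ∈ irrConstt L χ, φ ∧ (∀ φ ∈ irrConstt L χ, ∀ ψ ∈ irrConstt L χ, φ 1 = ψ 1) ∧
    ∀ φ ∈ irrConstt L χ, φ ∈ CFon L (insert 1 (FTsupp L)) :=
  Pf.FTtype1_seqInd_facts hL h1 hχ

/-- (12.2)(a), second part -/
theorem FTtype1_irr_isometry (hL : IsCoatom L) (h1 : FTtype L = 1) :
    IsometryTo L ⊤ (ZspanOn (calIF L) (sharp L)) (ZIrrOn ⊤ (sharp ⊤)) (FTDade L) :=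
  Pf.FTtype1_irr_isometry hL h1

/-- (12.2)(b) -/
theorem FTtype1_subcoherent (hL : IsCoatom L) (h1 : FTtype L = 1) : ∃ R1 R, FT1Base L R1 R :=
  Pf.FTtype1_subcoherent hL h1

/-- (12.3) -/
theorem FTtype1_seqInd_ortho {L1 L2 : Subgroup G} (hL1 : IsCoatom L1) (hL2 : IsCoatom L2)
    (h1 : FTtype L1 = 1) (h2 : FTtype L2 = 1) {Q1 R1 Q2 R2 : (G → ℂ) → Finset (G → ℂ)}
    (hR1 : FT1Base L1 Q1 R1) (hR2 : FT1Base L2 Q2 R2) (hn : NotConj L2 L1) :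
    ∀ χ1 ∈ calSF L1, ∀ χ2 ∈ calSF L2, Orth ⊤ (R1 χ1) (R2 χ2) :=
  Pf.FTtype1_seqInd_ortho hL1 hL2 h1 h2 hR1 hR2 hn

/-- (12.4) -/
theorem FTtype1_ortho_constant (hL : IsCoatom L) (h1 : FTtype L = 1) {R1 R : (G → ℂ) → Finset (G → ℂ)}
    (hR : FT1Base L R1 R) {ψ : G → ℂ} (hψ : ψ ∈ CF (⊤ : Subgroup G))
    (ho : ∀ φ ∈ calSF L, ∀ α ∈ R φ, ⟪ψ, α⟫[⊤] = 0) {x : G} (hx : x ∈ L) (hxH : x ∉ Fcore L) :
    ∀ h ∈ Fcore L, ψ (x * h) = ψ x :=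
  Pf.FTtype1_ortho_constant hL h1 hR hψ ho hx hxH

/-- (12.5) -/
theorem FTtype1_invDade_ortho_constant (hL : IsCoatom L) (h1 : FTtype L = 1)
    {R1 R : (G → ℂ) → Finset (G → ℂ)} (hR : FT1Base L R1 R) {ψ : G → ℂ} (hψ : ψ ∈ CF (⊤ : Subgroup G))
    (ho : ∀ φ ∈ calSF L, ∀ α ∈ R φ, ⟪ψ, α⟫[⊤] = 0) :
    ∀ x ∈ Fcore L, x ∉ der (Fcore L) → ∀ y ∈ Fcore L, y ∉ der (Fcore L) →
      invDade ⊤ L (sharp (Fcore L)) ψ x = invDade ⊤ L (sharp (Fcore L)) ψ y :=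
  Pf.FTtype1_invDade_ortho_constant hL h1 hR hψ ho

theorem FT_Frobenius_type1 (hL : IsCoatom L) (hF : IsFrobKer L (Fcore L)) : FTtype L = 1 :=
  Pf.FT_Frobenius_type1 hL hF

theorem FTsupp_Frobenius (hL : IsCoatom L) (hF : IsFrobKer L (Fcore L)) :
    FTsupp L = sharp (Fcore L) :=
  Pf.FTsupp_Frobenius hL hF

/-- (12.6) -/
theorem FT_Frobenius_coherence (hL : IsCoatom L) (hF : IsFrobKer L (Fcore L)) :
    (∀ χ ∈ calSF L, IsIrr L χ) ∧ Coherent L ⊤ (calSF L) (sharp L) (FTDade L) :=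
  Pf.FT_Frobenius_coherence hL hF

/-- (12.7) -/
theorem FTtype1_Frobenius (hL : IsCoatom L) (h1 : FTtype L = 1) : IsFrobKer L (Fcore L) :=
  Pf.FTtype1_Frobenius hL h1

/-- (12.17) -/
theorem not_all_FTtype1 : ¬ ∀ M : Subgroup G, IsCoatom M → FTtype M = 1 :=
  Pf.not_all_FTtype1

end Cfsg.Agent.OO
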