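import Cfsg.Agent.Lib.OO.PF11

/-! # Definitions for Peterfalvi section 12 -/

set_option autoImplicit false
set_option linter.unusedSectionVars false
set_option linter.unusedVariables false

namespace Cfsg.Agent.OO

open Subgroup Cfsg.Agent.Coprime
open scoped Pointwise

universe u

variable {G : Type u} [Group G] [Finite G] [MinOdd G]

/-- `𝒮 = {Ind_H^L θ | 1 ≠ θ ∈ Irr H}`, `H = L_F` -/
noncomputable abbrev calSF (L : Subgroup G) : Finset (G → ℂ) := seqIndD (Fcore L) L (Fcore L) ⊥
/-- the irreducible characters of `L` whose kernel does not contain `H = L_F` -/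
noncomputable abbrev calIF (L : Subgroup G) : Finset (G → ℂ) := IrrKerD L (Fcore L) ⊥
open Classical in
/-- `S(χ)`, the irreducible constituents of `χ` -/
noncomputable def irrConstt (L : Subgroup G) (χ : G → ℂ) : Finset (G → ℂ) :=
  (Irr L).filter fun φ => ⟪χ, φ⟫[L] ≠ 0

open Classical in
/-- the bases `R₁`, `R` of (12.2)(b) -/
structure FT1Base (L : Subgroup G) (R1 R : (G → ℂ) → Finset (G → ℂ)) : Prop where
  subcoh1 : Subcoherent L ⊤ (calIF L) (FTDade L) R1
  card1 : ∀ φ ∈ calIF L, (R1 φ).card = 2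
  subcoh : Subcoherent L ⊤ (calSF L) (FTDade L) R
  defR : ∀ χ ∈ calSF L, R χ = (irrConstt L χ).biUnion R1

end Cfsg.Agent.OO
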