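import Cfsg.Agent.Lib.OO.PF13Defs
import Cfsg.Agent.Lib.OO.Pf.PF13_F

/-! # Interface: Peterfalvi section 13 -/

set_option autoImplicit false
set_option linter.unusedSectionVars false
set_option linter.unusedVariables false

namespace Cfsg.Agent.OO

open Subgroup Cfsg.Agent.Coprime
open scoped Pointwise

universe u

variable {G : Type u} [Group G] [Finite G] [MinOdd G]

/- Throughout: `P = S_F`, `PU = S'`, `C = C_U(P)`, `H = F(S) = P × C`, `p = |W₂|`, `q = |W₁|`,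
`u = |U : C|`, `𝒮 = calSH S ⊥`, `τ = FTDade0 S`. -/

/- `TIredCoherent`, `Pbridge`, `PbridgeGap`, `Ibridge` are defined in `PF13Defs`. -/

variable {S U W W1 W2 : Subgroup G}

/-- (13.2) -/
theorem FTtypeP_facts (hS : IsCoatom S) (h : OfTypeP S U W W1 W2) :
    ((FTtype S = 2 ∨ FTtype S = 3) ∧ (♯W1 < ♯W2 → FTtype S = 2) ∧ IsFrob (U ⊔ W1) U W1 ∧ Ab U) ∧
    (IsElementaryAbelian ♯W2 (Fcore S) ∧ ♯(Fcore S) = ♯W2 ^ ♯W1) ∧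
    (U ⊓ 𝐂(Fcore S)).relIndex U ≤ (♯W2 ^ ♯W1 - 1) / (♯W2 - 1) ∧
    Coherent S ⊤ (calSH S ⊥) (sharp S) (FTDade0 S) ∧
    NormedTI (FTsupp0 S) ⊤ S ∧ ∀ φ ∈ CFon S (FTsupp0 S), FTDade0 S φ = cfInd ⊤ S φ :=
  Pf.FTtypeP_facts hS h

/-- the kernel `H₀` of (9.4) is trivial -/
theorem Ptype_Fcore_kernel_trivial (hS : IsCoatom S) (h : OfTypeP S U W W1 W2) :
    PtypeHyp S U W W1 W2 ⊥ ∧ Pp S ⊥ = ♯W2 ∧ Pc S U ⊥ = U ⊓ 𝐂(Fcore S) :=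
  Pf.Ptype_Fcore_kernel_trivial hS h

theorem FTseqInd_TIred (hS : IsCoatom S) (h : OfTypeP S U W W1 W2) {j : G → ℂ} (hj : IsIrr W2 j)
    (hj0 : j ≠ cf1 W2) : prTIred S W W1 W2 j ∈ calSH S ⊥ :=
  Pf.FTseqInd_TIred hS h hj hj0

theorem FTtypeP_Fitting_abelian (hS : IsCoatom S) (h : OfTypeP S U W W1 W2) : Ab (Fit S) :=
  Pf.FTtypeP_Fitting_abelian hS h

theorem FTtypeP_Ind_Fitting_1 (hS : IsCoatom S) (h : OfTypeP S U W W1 W2) {lam : G → ℂ}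
    (hl : lam ∈ seqIndT (Fit S) S) : lam 1 = ((U ⊓ 𝐂(Fcore S)).relIndex U * ♯W1 : ℕ) :=
  Pf.FTtypeP_Ind_Fitting_1 hS h hl

/-- (13.3)(a) -/
theorem FTprTIred_Ind_Fitting (hS : IsCoatom S) (h : OfTypeP S U W W1 W2) {j : G → ℂ} (hj : IsIrr W2 j)
    (hj0 : j ≠ cf1 W2) : prTIred S W W1 W2 j ∈ seqIndT (Fit S) S :=
  Pf.FTprTIred_Ind_Fitting hS h hj hj0

theorem FTprTIred1 (hS : IsCoatom S) (h : OfTypeP S U W W1 W2) {j : G → ℂ} (hj : IsIrr W2 j)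
    (hj0 : j ≠ cf1 W2) : prTIred S W W1 W2 j 1 = ((U ⊓ 𝐂(Fcore S)).relIndex U * ♯W1 : ℕ) :=
  Pf.FTprTIred1 hS h hj hj0

/-- (13.3)(c), first assertion -/
theorem FTprTIsign (hS : IsCoatom S) (h : OfTypeP S U W W1 W2) {j : G → ℂ} (hj : IsIrr W2 j) :
    prTIsign S W W1 W2 j = 1 :=
  Pf.FTprTIsign hS h hj

/-- (13.3)(b) -/
theorem FTtypeP_no_Ind_Fitting_facts (hS : IsCoatom S) (h : OfTypeP S U W W1 W2)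
    (hn : ¬ ∃ lam ∈ calSH S ⊥, IsIrr S lam ∧ lam ∈ seqIndT (Fit S) S) :
    PGalois S U ⊥ ∧ U ⊓ 𝐂(Fcore S) = ⊥ ∧ ♯U = (♯W2 ^ ♯W1 - 1) / (♯W2 - 1) :=
  Pf.FTtypeP_no_Ind_Fitting_facts hS h hn

/-- (13.3)(c) -/
theorem FTtypeP_coherence (hS : IsCoatom S) (h : OfTypeP S U W W1 W2) :
    ∃ τ1, CoherentWith S ⊤ (calSH S ⊥) (sharp S) (FTDade0 S) τ1 ∧ TIredCoherent S W W1 W2 τ1 :=
  Pf.FTtypeP_coherence hS h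

/-- (13.6) -/
theorem FTtypeP_sum_Ind_Fitting_lb (hS : IsCoatom S) (h : OfTypeP S U W W1 W2)
    {τ1 : (G → ℂ) →+ (G → ℂ)} (hτ : CoherentWith S ⊤ (calSH S ⊥) (sharp S) (FTDade0 S) τ1)
    {lam : G → ℂ} (hl : lam ∈ calSH S ⊥) (hirr : IsIrr S lam) (hind : lam ∈ seqIndT (Fit S) S) :
    (♯S : ℝ) - ‖lam 1‖ ^ 2 ≤ ∑ x ∈ elts (sharp (Fit S)), ‖τ1 lam x‖ ^ 2 :=
  Pf.FTtypeP_sum_Ind_Fitting_lb hS h hτ hl hirr hind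

/-- (13.7) -/
theorem FTtypeP_sum_cycTIiso10_lb (hS : IsCoatom S) (h : OfTypeP S U W W1 W2) {i : G → ℂ}
    (hi : IsIrr W1 i) (hi0 : i ≠ cf1 W1) :
    (♯(Fit S) : ℝ) - 1 ≤ ∑ x ∈ elts (sharp (Fit S)), ‖cycTIeta ⊤ W W1 W2 i (cf1 W2) x‖ ^ 2 :=
  Pf.FTtypeP_sum_cycTIiso10_lb hS h hi hi0

/-- (13.8) -/
theorem FTtypeP_sum_cycTIiso01_lb (hS : IsCoatom S) (h : OfTypeP S U W W1 W2) {j : G → ℂ}
    (hj : IsIrr W2 j) (hj0 : j ≠ cf1 W2) :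
    (♯(der S) : ℝ) - ((U ⊓ 𝐂(Fcore S)).relIndex U : ℝ) ^ 2 ≤
      ∑ x ∈ elts (sharp (Fit S)), ‖cycTIeta ⊤ W W1 W2 (cf1 W1) j x‖ ^ 2 :=
  Pf.FTtypeP_sum_cycTIiso01_lb hS h hj hj0

/-- (13.10), whose proof includes (13.4) and (13.9) -/
theorem FTtypeP_compl_ker_ratio_lb (hS : IsCoatom S) (h : OfTypeP S U W W1 W2) {lam : G → ℂ}
    (hl : lam ∈ calSH S ⊥) (hirr : IsIrr S lam) (hind : lam ∈ seqIndT (Fit S) S) :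
    (1 - 1 / ((♯W1 : ℝ) - 1) - ((♯W1 : ℝ) - 1) / (♯W1 : ℝ) ^ ♯W2 +
        1 / (((♯W1 : ℝ) - 1) * (♯W1 : ℝ) ^ ♯W2)) * (♯W2 : ℝ) ^ (♯W1 - 1) / ♯W1 <
      ((U ⊓ 𝐂(Fcore S)).relIndex U : ℝ) / ♯(U ⊓ 𝐂(Fcore S)) :=
  Pf.FTtypeP_compl_ker_ratio_lb hS h hl hirr hind

/-- (13.12) -/
theorem FTtypeP_reg_Fcore (hS : IsCoatom S) (h : OfTypeP S U W W1 W2) : U ⊓ 𝐂(Fcore S) = ⊥ :=
  Pf.FTtypeP_reg_Fcore hS h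

/-- (13.13) -/
theorem FTtypeP_nonGalois_facts (hS : IsCoatom S) (h : OfTypeP S U W W1 W2) (hn : ¬ PGalois S U ⊥) :
    ♯W1 = 3 ∧ ♯U = ((♯W2 - 1) / 2) ^ 2 :=
  Pf.FTtypeP_nonGalois_facts hS h hn

/-- (13.14) -/
theorem FTtypeP_primes_mod_cases {p q : ℕ} (hp : p.Prime) (hq : q.Prime) (op : Odd p) (oq : Odd q) :
    Odd ((p ^ q - 1) / (p - 1)) ∧ (p ≡ 1 [MOD q] → q ∣ (p ^ q - 1) / (p - 1)) ∧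
    (¬ p ≡ 1 [MOD q] → ((p ^ q - 1) / (p - 1)).Coprime (p - 1) ∧
      ∀ b, b ∣ (p ^ q - 1) / (p - 1) → b ≡ 1 [MOD q]) :=
  Pf.FTtypeP_primes_mod_cases hp hq op oq

/-- (13.15) -/
theorem card_FTtypeP_Galois_compl (hS : IsCoatom S) (h : OfTypeP S U W W1 W2) (hg : PGalois S U ⊥) :
    ♯U = if ♯W2 ≡ 1 [MOD ♯W1] then (♯W2 ^ ♯W1 - 1) / (♯W2 - 1) / ♯W1
      else (♯W2 ^ ♯W1 - 1) / (♯W2 - 1) :=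
  Pf.card_FTtypeP_Galois_compl hS h hg

/-- (13.16), transposed -/
theorem FTtypeP_norm_cent_compl (hS : IsCoatom S) (h : OfTypeP S U W W1 W2) :
    IsSdprod (Fcore S) W1 𝐍(W2) ∧ IsSdprod (Fcore S) W1 𝐂(W2) :=
  Pf.FTtypeP_norm_cent_compl hS h

/-- (13.17) -/
theorem FTtypeII_support_facts (hS : IsCoatom S) (h : OfTypeP S U W W1 W2) {T L : Subgroup G}
    (h2 : FTtype S = 2) (hST : TypePPair S T W W1 W2) (hL : IsCoatom L) (hUL : 𝐍(U) ≤ L) :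
    IsFrobKer L (Fcore L) ∧ U ≤ Fcore L ∧
    (IsSdprod (Fcore L) W1 L ∨ ∃ y ∈ Fcore T, IsSdprod (Fcore L) (W1 ⊔ y •ᶜ W2) L) :=
  Pf.FTtypeII_support_facts hS h h2 hST hL hUL

/-- (13.18) -/
theorem FTtypeP_bridge_facts (hS : IsCoatom S) (h : OfTypeP S U W W1 W2) {j : G → ℂ} (hj : IsIrr W2 j)
    (hj0 : j ≠ cf1 W2) :
    (Pbridge S W W1 W2 j ∈ CFon S (FTsupp0 S) ∧
      Pbridge S W W1 W2 j ∈ CFon S (sharp (Fcore S) ∪ classSupp (cycTIset W1 W2) S)) ∧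
    cfnorm S (Pbridge S W W1 W2 j) = ((♯U - 1) / ♯W1 + 2 : ℕ) ∧
    ((∀ k ∈ Irr W2, k ≠ cf1 W2 → PbridgeGap S W W1 W2 k = PbridgeGap S W W1 W2 j) ∧
      ⟪PbridgeGap S W W1 W2 j, cf1 ⊤⟫[⊤] = 0 ∧ star (PbridgeGap S W W1 W2 j) = PbridgeGap S W W1 W2 j) ∧
    (∀ X Y : G → ℂ, PbridgeGap S W W1 W2 j = X + Y → ⟪X, Y⟫[⊤] = 0 →
      (∀ k ∈ Irr W1, ∀ l ∈ Irr W2, ⟪Y, cycTIeta ⊤ W W1 W2 k l⟫[⊤] = 0) →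
      cfnorm ⊤ Y ≤ ((♯U - 1) / ♯W1 : ℕ)) ∧
    ♯W1 ∣ ♯U - 1 :=
  Pf.FTtypeP_bridge_facts hS h hj hj0

theorem FTtype1_coherence {L : Subgroup G} (hL : IsCoatom L) (h1 : FTtype L = 1) :
    Coherent L ⊤ (calSF L) (sharp L) (FTDadeF L) :=
  Pf.FTtype1_coherence hL h1

theorem FTtype1_Ind_irr {L : Subgroup G} (hL : IsCoatom L) (h1 : FTtype L = 1) :
    ∀ χ ∈ calSF L, IsIrr L χ :=
  Pf.FTtype1_Ind_irr hL h1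

/-- (13.19) -/
theorem FTtypeI_bridge_facts (hS : IsCoatom S) (h : OfTypeP S U W W1 W2) {L : Subgroup G}
    (hL : IsCoatom L) (h1 : FTtype L = 1) {τ1 : (G → ℂ) →+ (G → ℂ)} {φ j : G → ℂ}
    (hτ : CoherentWith L ⊤ (calSF L) (sharp L) (FTDadeF L) τ1) (hφ : φ ∈ calSF L)
    (hφ1 : φ 1 = (Fcore L).relIndex L) (hj : IsIrr W2 j) (hj0 : j ≠ cf1 W2) :
    Disjoint (Atil L) (classSupp (Fcore S) ⊤ ∪ classSupp W ⊤) ∧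
    (∀ ψ ∈ calSF L, ∀ k ∈ Irr W1, ∀ l ∈ Irr W2, ⟪τ1 ψ, cycTIeta ⊤ W W1 W2 k l⟫[⊤] = 0) ∧
    (∀ l ∈ Irr W2, l ≠ cf1 W2 → ⟪FTDadeF L (Ibridge L φ), cycTIeta ⊤ W W1 W2 (cf1 W1) l⟫[⊤] =
      ⟪FTDadeF L (Ibridge L φ), cycTIeta ⊤ W W1 W2 (cf1 W1) j⟫[⊤]) ∧
    ((EqCmod 2 ⟪FTDade0 S (Pbridge S W W1 W2 j), τ1 φ⟫[⊤] 1 ∧
        ((♯(Fcore L) : ℝ) - 1) / (Fcore L).relIndex L ≤ ((♯U - 1) / ♯W1 : ℕ)) ∨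
      (EqCmod 2 ⟪FTDadeF L (Ibridge L φ), cycTIeta ⊤ W W1 W2 (cf1 W1) j⟫[⊤] 1 ∧
        ♯W2 ≤ (Fcore L).relIndex L)) :=
  Pf.FTtypeI_bridge_facts hS h hL h1 hτ hφ hφ1 hj hj0

end Cfsg.Agent.OO
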