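import Cfsg.Agent.Lib.OO.PF12

/-! # Definitions for Peterfalvi section 13 -/

set_option autoImplicit false
set_option linter.unusedSectionVars false
set_option linter.unusedVariables false

namespace Cfsg.Agent.OO

open Subgroup Cfsg.Agent.Coprime
open scoped Pointwise

universe u

variable {G : Type u} [Group G] [Finite G] [MinOdd G]

/-- the alternative of (13.3)(c) -/
def TIredCoherent (S W W1 W2 : Subgroup G) (τ1 : (G → ℂ) →+ (G → ℂ)) : Prop :=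
  (∀ j ∈ Irr W2, j ≠ cf1 W2 → τ1 (prTIred S W W1 W2 j) = ∑ i ∈ Irr W1, cycTIeta ⊤ W W1 W2 i j) ∨
  (♯W2 = 3 ∧ ∀ j ∈ Irr W2, j ≠ cf1 W2 →
    τ1 (prTIred S W W1 W2 j) = -∑ i ∈ Irr W1, cycTIeta ⊤ W W1 W2 i (star j))

/-- `β_j = Ind_{P W₁}^S 1 - μ_{0j}` -/
noncomputable def Pbridge (S W W1 W2 : Subgroup G) (j : G → ℂ) : G → ℂ :=
  cfInd S (Fcore S ⊔ W1) (cf1 (Fcore S ⊔ W1)) - prTIirr S W W1 W2 (cf1 W1) j

/-- `Γ = β_j^τ - 1_G + η_{0j}` (independent of `j ≠ 0`) -/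
noncomputable def PbridgeGap (S W W1 W2 : Subgroup G) (j : G → ℂ) : G → ℂ :=
  FTDade0 S (Pbridge S W W1 W2 j) - cf1 ⊤ + cycTIeta ⊤ W W1 W2 (cf1 W1) j

/-- `β_L = Ind_H^L 1 - φ` -/
noncomputable def Ibridge (L : Subgroup G) (φ : G → ℂ) : G → ℂ := cfInd L (Fcore L) (cf1 (Fcore L)) - φ

end Cfsg.Agent.OO
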