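import Cfsg.Agent.Lib.OO.PF14Defs
import Cfsg.Agent.Lib.OO.Pf.PF14_C

/-! # Interface: Peterfalvi section 14 -/

set_option autoImplicit false
set_option linter.unusedSectionVars false
set_option linter.unusedVariables false

namespace Cfsg.Agent.OO

open Subgroup Cfsg.Agent.Coprime
open scoped Pointwise

universe u

variable {G : Type u} [Group G] [Finite G] [MinOdd G]

/- `Hyp14` is defined in `PF14Defs`. -/

variable {S T U V W W1 W2 L M : Subgroup G}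

theorem FTtypeP_max_typeII (h : Hyp14 S T U V W W1 W2) : FTtype S = 2 :=
  Pf.FTtypeP_max_typeII h

/-- (14.4) -/
theorem FTtypeP_min_Galois (h : Hyp14 S T U V W W1 W2) :
    PGalois T V ⊥ ∧ ♯V = (♯W1 ^ ♯W2 - 1) / (♯W1 - 1) :=
  Pf.FTtypeP_min_Galois h

/-- (14.5) -/
theorem FTtype2_support_sdprod (h : Hyp14 S T U V W W1 W2) (hL : IsCoatom L) (hUL : 𝐍(U) ≤ L) :
    ∃ y ∈ Fcore T, IsSdprod (Fcore L) (W1 ⊔ y •ᶜ W2) L :=
  Pf.FTtype2_support_sdprod h hL hUL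

/-- (14.6) -/
theorem FTtypeP_max_Galois (h : Hyp14 S T U V W W1 W2) : PGalois S U ⊥ :=
  Pf.FTtypeP_max_Galois h

/-- (14.7) together with (14.2) and B&G Theorem C -/
theorem FTtype2_compl_not_normal (h : Hyp14 S T U V W W1 W2) (hL : IsCoatom L) (hUL : 𝐍(U) ≤ L) :
    ¬ L ≤ 𝐍(U) :=
  Pf.FTtype2_compl_not_normal h hL hUL

/-- (14.8)(a) -/
theorem lt_expn_swap {p q : ℕ} (hq : 3 ≤ q) (op : Odd p) (oq : Odd q) (h : q < p) :
    p ^ (q + 1) < q ^ (p + 1) :=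
  Pf.lt_expn_swap hq op oq h

/-- (14.8)(b) -/
theorem FTtypeP_complV_ltr (h : Hyp14 S T U V W W1 W2) : (♯U - 1) / ♯W1 < (♯V - 1) / ♯W2 :=
  Pf.FTtypeP_complV_ltr h

/-- (14.9) -/
theorem FTtypeP_min_typeII (h : Hyp14 S T U V W W1 W2) : FTtype T = 2 :=
  Pf.FTtypeP_min_typeII h

/-- (14.11) -/
theorem FTtype2_min_support (h : Hyp14 S T U V W W1 W2) (hM : IsCoatom M) (hVM : 𝐍(V) ≤ M) :
    Fcore M = V ∧ (Fcore M).relIndex M = ♯W2 * ♯W1 :=
  Pf.FTtype2_min_support h hM hVM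

/-- (14.12)-(14.17) -/
theorem FTtype2_exclusion (h : Hyp14 S T U V W W1 W2) : False :=
  Pf.FTtype2_exclusion h

include G in
theorem no_minSimple_odd_group : False :=
  Pf.no_minSimple_odd_group (G := G)

end Cfsg.Agent.OO
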