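import Cfsg.Agent.Lib.OO.PF13
import Cfsg.Agent.Lib.OO.BGC

/-! # Definitions for Peterfalvi section 14 -/

set_option autoImplicit false
set_option linter.unusedSectionVars false
set_option linter.unusedVariables false

namespace Cfsg.Agent.OO

open Subgroup Cfsg.Agent.Coprime
open scoped Pointwise

universe u

variable {G : Type u} [Group G] [Finite G] [MinOdd G]

/-- Hypothesis (14.1): `q = |W₁| < p = |W₂|` -/
structure Hyp14 (S T U V W W1 W2 : Subgroup G) : Prop where
  maxS : IsCoatom S
  maxT : IsCoatom T
  typeS : OfTypeP S U W W1 W2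
  typeT : OfTypeP T V W W2 W1
  lt : ♯W1 < ♯W2

end Cfsg.Agent.OO
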