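import Cfsg.Agent.Lib.OO.PF1
import Cfsg.Agent.Lib.OO.Pf.PF2_B

/-! # Interface: Peterfalvi section 2 (Dade isometry) -/

set_option autoImplicit false
set_option linter.unusedSectionVars false
set_option linter.unusedVariables false

namespace Cfsg.Agent.OO

open Subgroup Cfsg.Agent.Coprime
open scoped Pointwise commutatorElement ComplexConjugate

universe u v w

variable {G : Type u} [Group G] [Finite G]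

variable {Γ H L : Subgroup G} {A A1 : Set G} {a b u x : G} {α β φ ψ : G → ℂ}

/-- (2.1), existence part -/
theorem cent_rcoset_conj {g : G} (hg : g ∈ 𝐍(H)) (hc : (♯H).Coprime (orderOf g)) (hx : x ∈ H) :
    ∃ h ∈ H, ∃ c ∈ H ⊓ 𝐂[g], x * g = h * (c * g) * h⁻¹ :=
  Pf.cent_rcoset_conj hg hc hx
/-- (2.1), as a summation formula -/
theorem sum_cent_rcoset {g : G} (hg : g ∈ 𝐍(H)) (hc : (♯H).Coprime (orderOf g)) {f : G → ℂ}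
    (hf : ∀ h ∈ H, ∀ y, f (h * y * h⁻¹) = f y) :
    (♯H : ℂ)⁻¹ * ∑ x ∈ elts (H : Set G), f (x * g) =
      (♯(H ⊓ 𝐂[g]) : ℂ)⁻¹ * ∑ x ∈ elts ((H ⊓ 𝐂[g] : Subgroup G) : Set G), f (x * g) :=
  Pf.sum_cent_rcoset hg hc hf

theorem Dade_sdprod (h : DadeHyp Γ L A) (ha : a ∈ A) :
    IsSdprod (DadeSig Γ L a) (L ⊓ 𝐂[a]) (Γ ⊓ 𝐂[a]) :=
  Pf.Dade_sdprod h ha
theorem Dade_coprime (h : DadeHyp Γ L A) (ha : a ∈ A) (hb : b ∈ A) :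
    (♯(DadeSig Γ L a)).Coprime ♯(L ⊓ 𝐂[b]) :=
  Pf.Dade_coprime h ha hb
theorem def_Dade_signalizer {K : Subgroup G} (hK : IsSdprod K (L ⊓ 𝐂[a]) (Γ ⊓ 𝐂[a]))
    (hc : (♯K).Coprime ♯(L ⊓ 𝐂[a])) : DadeSig Γ L a = K :=
  Pf.def_Dade_signalizer hK hc
theorem Dade_signalizer_sub (Γ L : Subgroup G) (a : G) : DadeSig Γ L a ≤ Γ :=
  Pf.Dade_signalizer_sub Γ L a
theorem Dade_signalizer_cent (Γ L : Subgroup G) (a : G) : DadeSig Γ L a ≤ 𝐂[a] :=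
  Pf.Dade_signalizer_cent Γ L a
/-- (2.3) -/
theorem normedTI_Dade (h : NormedTI A Γ L) (hA : A ⊆ sharp Γ) :
    DadeHyp Γ L A ∧ ∀ a ∈ A, DadeSig Γ L a = ⊥ :=
  Pf.normedTI_Dade h hA
theorem Dade_normedTI_P (h : DadeHyp Γ L A) :
    NormedTI A Γ L ↔ A.Nonempty ∧ ∀ a ∈ A, DadeSig Γ L a = ⊥ :=
  Pf.Dade_normedTI_P h
/-- (2.4)(a) -/
theorem DadeJ (hL : L ≤ Γ) (a : G) (hx : x ∈ L) : DadeSig Γ L (x * a * x⁻¹) = x •ᶜ DadeSig Γ L a :=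
  Pf.DadeJ hL a hx
theorem Dade_support1_id (Γ L : Subgroup G) (a : G) : a ∈ DadeSupp1 Γ L a :=
  Pf.Dade_support1_id Γ L a
theorem mem_Dade_support1 (hu : u ∈ DadeSig Γ L a) : u * a ∈ DadeSupp1 Γ L a :=
  Pf.mem_Dade_support1 hu
theorem Dade_support1J (hL : L ≤ Γ) (a : G) (hx : x ∈ L) :
    DadeSupp1 Γ L (x * a * x⁻¹) = DadeSupp1 Γ L a :=
  Pf.Dade_support1J hL a hx
/-- (2.4)(b) -/
theorem Dade_support1_TI (h : DadeHyp Γ L A) (ha : a ∈ A) (hb : b ∈ A)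
    (hd : ¬ Disjoint (DadeSupp1 Γ L a) (DadeSupp1 Γ L b)) : ∃ x ∈ L, b = x * a * x⁻¹ :=
  Pf.Dade_support1_TI h ha hb hd
/-- (2.4)(c) -/
theorem Dade_cover_TI (h : DadeHyp Γ L A) (ha : a ∈ A) :
    NormedTI {y | y * a⁻¹ ∈ DadeSig Γ L a} Γ (Γ ⊓ 𝐂[a]) :=
  Pf.Dade_cover_TI h ha
theorem Dade_support_norm {g : G} (hg : g ∈ Γ) : g * u * g⁻¹ ∈ DadeSupp Γ L A ↔ u ∈ DadeSupp Γ L A :=
  Pf.Dade_support_norm hg
theorem Dade_support_subD1 (h : DadeHyp Γ L A) : DadeSupp Γ L A ⊆ sharp Γ :=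
  Pf.Dade_support_subD1 h
theorem subset_Dade_support (Γ L : Subgroup G) (A : Set G) : A ⊆ DadeSupp Γ L A :=
  Pf.subset_Dade_support Γ L A
theorem DadeHyp.subset_sharp (h : DadeHyp Γ L A) : A ⊆ sharp L :=
  Pf.DadeHyp.subset_sharp h
theorem Dade_signalizer_coprime_orderOf (h : DadeHyp Γ L A) (ha : a ∈ A) (hb : b ∈ A) :
    (♯(DadeSig Γ L a)).Coprime (orderOf b) :=
  Pf.Dade_signalizer_coprime_orderOf h ha hb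
theorem Dade_support1_conj {g : G} (hg : g ∈ Γ) :
    g * u * g⁻¹ ∈ DadeSupp1 Γ L a ↔ u ∈ DadeSupp1 Γ L a :=
  Pf.Dade_support1_conj hg
theorem mem_DadeSupp : u ∈ DadeSupp Γ L A ↔ ∃ a ∈ A, u ∈ DadeSupp1 Γ L a :=
  Pf.mem_DadeSupp
theorem not_support_Dade_1 (h : DadeHyp Γ L A) : (1 : G) ∉ DadeSupp Γ L A :=
  Pf.not_support_Dade_1 h
theorem mem_Dade_support (ha : a ∈ A) (hx : x ∈ DadeSig Γ L a) : x * a ∈ DadeSupp Γ L A :=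
  Pf.mem_Dade_support ha hx
theorem Dade_support_mono (Γ L : Subgroup G) (h : A1 ⊆ A) : DadeSupp Γ L A1 ⊆ DadeSupp Γ L A :=
  Pf.Dade_support_mono Γ L h
theorem Dade_support_sub (h : DadeHyp Γ L A) : DadeSupp Γ L A ⊆ Γ :=
  Pf.Dade_support_sub h
theorem Dade_support_normedTI (h : DadeHyp Γ L A) (hTI : NormedTI A Γ L) :
    DadeSupp Γ L A = classSupp A Γ :=
  Pf.Dade_support_normedTI h hTI
/-- summation over the support of the Dade isometry -/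
theorem sum_Dade_support (h : DadeHyp Γ L A) {f : G → ℂ} (hf : ∀ g ∈ Γ, ∀ x, f (g * x * g⁻¹) = f x) :
    (♯Γ : ℂ)⁻¹ * ∑ u ∈ elts (DadeSupp Γ L A), f u = (♯L : ℂ)⁻¹ * ∑ a ∈ elts A,
      (♯(DadeSig Γ L a) : ℂ)⁻¹ * ∑ x ∈ elts (DadeSig Γ L a : Set G), f (x * a) :=
  Pf.sum_Dade_support h hf
theorem card_Dade_support (h : DadeHyp Γ L A) : (DadeSupp Γ L A).ncard * ♯L = ♯Γ * A.ncard :=
  Pf.card_Dade_support h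

/-- (2.5) -/
theorem DadeE (h : DadeHyp Γ L A) (hα : α ∈ CF L) (ha : a ∈ A) (hu : u ∈ DadeSupp1 Γ L a) :
    Dade Γ L A α u = α a :=
  Pf.DadeE h hα ha hu
theorem Dade_id (h : DadeHyp Γ L A) (hα : α ∈ CF L) (ha : a ∈ A) : Dade Γ L A α a = α a :=
  Pf.Dade_id h hα ha
theorem Dade_cfunS (h : DadeHyp Γ L A) (hα : α ∈ CF L) : Dade Γ L A α ∈ CFon Γ (DadeSupp Γ L A) :=
  Pf.Dade_cfunS h hα
theorem Dade_mem_CF (h : DadeHyp Γ L A) (hα : α ∈ CF L) : Dade Γ L A α ∈ CF Γ :=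
  Pf.Dade_mem_CF h hα
theorem Dade_cfun (h : DadeHyp Γ L A) (hα : α ∈ CF L) : Dade Γ L A α ∈ CFon Γ (sharp Γ) :=
  Pf.Dade_cfun h hα
theorem Dade_mul (h : DadeHyp Γ L A) (hα : α ∈ CF L) (ha : a ∈ A) (hx : x ∈ DadeSig Γ L a) :
    Dade Γ L A α (x * a) = α a :=
  Pf.Dade_mul h hα ha hx
theorem Dade_suppOn (Γ L : Subgroup G) (A : Set G) (α : G → ℂ) :
    Dade Γ L A α ∈ suppOn (DadeSupp Γ L A) :=
  Pf.Dade_suppOn Γ L A α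
theorem Dade_mem_CF' (h : DadeHyp Γ L A) (α : G → ℂ) : Dade Γ L A α ∈ CF Γ :=
  Pf.Dade_mem_CF' h α
theorem Dade_congr (e : ∀ a ∈ A, α a = β a) : Dade Γ L A α = Dade Γ L A β :=
  Pf.Dade_congr e
theorem Dade1 (h : DadeHyp Γ L A) (α : G → ℂ) : Dade Γ L A α 1 = 0 :=
  Pf.Dade1 h α
theorem Dade_id1 (h : DadeHyp Γ L A) (hα : α ∈ CFon L A) (ha : a ∈ insert 1 A) :
    Dade Γ L A α a = α a :=
  Pf.Dade_id1 h hα ha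
theorem Dade_aut (Γ L : Subgroup G) (A : Set G) (v : ℂ ≃+* ℂ) (α : G → ℂ) :
    Dade Γ L A (cfAut v α) = cfAut v (Dade Γ L A α) :=
  Pf.Dade_aut Γ L A v α
theorem Dade_conjC (Γ L : Subgroup G) (A : Set G) (α : G → ℂ) :
    Dade Γ L A (star α) = star (Dade Γ L A α) :=
  Pf.Dade_conjC Γ L A α

/-- (2.7) -/
theorem general_Dade_reciprocity (h : DadeHyp Γ L A) (hα : α ∈ CFon L A) (hφ : φ ∈ CF Γ)
    (hψ : ∀ a ∈ A, ψ a = (♯(DadeSig Γ L a) : ℂ)⁻¹ * ∑ x ∈ elts (DadeSig Γ L a : Set G), φ (x * a)) :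
    ⟪Dade Γ L A α, φ⟫[Γ] = ⟪α, ψ⟫[L] :=
  Pf.general_Dade_reciprocity h hα hφ hψ
theorem Dade_reciprocity (h : DadeHyp Γ L A) (hα : α ∈ CFon L A) (hφ : φ ∈ CF Γ)
    (hc : ∀ a ∈ A, ∀ u ∈ DadeSig Γ L a, φ (u * a) = φ a) :
    ⟪Dade Γ L A α, φ⟫[Γ] = ⟪α, cfRes L φ⟫[L] :=
  Pf.Dade_reciprocity h hα hφ hc
/-- (2.6)(a) -/
theorem Dade_isometry (h : DadeHyp Γ L A) (hα : α ∈ CFon L A) (hβ : β ∈ CFon L A) :
    ⟪Dade Γ L A α, Dade Γ L A β⟫[Γ] = ⟪α, β⟫[L] :=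
  Pf.Dade_isometry h hα hβ
theorem cfnorm_Dade (h : DadeHyp Γ L A) (hα : α ∈ CFon L A) :
    cfnorm Γ (Dade Γ L A α) = cfnorm L α :=
  Pf.cfnorm_Dade h hα
theorem Dade_cf1 (h : DadeHyp Γ L A) (hα : α ∈ CFon L A) : ⟪Dade Γ L A α, cf1 Γ⟫[Γ] = ⟪α, cf1 L⟫[L] :=
  Pf.Dade_cf1 h hα
theorem Dade_Ind (h : NormedTI A Γ L) (hA : A ⊆ sharp Γ) (hα : α ∈ CFon L A) :
    Dade Γ L A α = cfInd Γ L α :=
  Pf.Dade_Ind h hA hα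
/-- (2.6)(b) -/
theorem Dade_vchar (h : DadeHyp Γ L A) (hα : α ∈ ZIrrOn L A) : Dade Γ L A α ∈ ZIrr Γ :=
  Pf.Dade_vchar h hα
theorem Dade_Zisometry (h : DadeHyp Γ L A) :
    IsometryTo L Γ (ZIrrOn L A) (ZIrrOn Γ (sharp Γ)) (Dade Γ L A) :=
  Pf.Dade_Zisometry h

theorem restr_Dade_hyp (h : DadeHyp Γ L A) (h1 : A1 ⊆ A) (hn : ∀ x ∈ L, ∀ a ∈ A1, x * a * x⁻¹ ∈ A1) :
    DadeHyp Γ L A1 :=
  Pf.restr_Dade_hyp h h1 hn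
/-- (2.11) -/
theorem restr_DadeE (h : DadeHyp Γ L A) (h1 : A1 ⊆ A) (hn : ∀ x ∈ L, ∀ a ∈ A1, x * a * x⁻¹ ∈ A1)
    (hα : α ∈ CFon L A1) : Dade Γ L A1 α = Dade Γ L A α :=
  Pf.restr_DadeE h h1 hn hα

theorem normedTI_Ind_id1 (hTI : NormedTI A Γ L) (hA : A ⊆ sharp Γ) (hα : α ∈ CFon L A)
    (ha : a ∈ insert 1 A) : cfInd Γ L α a = α a :=
  Pf.normedTI_Ind_id1 hTI hA hα ha
theorem normedTI_Zisometry (hTI : NormedTI A Γ L) (hA : A ⊆ sharp Γ) :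
    IsometryTo L Γ (ZIrrOn L A) (ZIrrOn Γ (sharp Γ)) (cfInd Γ L) :=
  Pf.normedTI_Zisometry hTI hA

end Cfsg.Agent.OO
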