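import Cfsg.Agent.Lib.OO.PF3Defs
import Cfsg.Agent.Lib.OO.Pf.PF3_D

/-! # Interface: Peterfalvi section 3 (cyclic TI isometry) -/

set_option autoImplicit false
set_option linter.unusedSectionVars false
set_option linter.unusedVariables false

namespace Cfsg.Agent.OO

open Subgroup Cfsg.Agent.Coprime
open scoped Pointwise commutatorElement ComplexConjugate

universe u v w

variable {G : Type u} [Group G] [Finite G]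

variable {Γ W W1 W2 : Subgroup G} {i j k l i' j' φ ψ ω : G → ℂ}

theorem cycTIset_comm (W1 W2 : Subgroup G) : cycTIset W2 W1 = cycTIset W1 W2 :=
  Pf.cycTIset_comm W1 W2
theorem CycTIHyp.symm (h : CycTIHyp Γ W W1 W2) : CycTIHyp Γ W W2 W1 :=
  Pf.CycTIHyp.symm h
theorem CycTIHyp.le (h : CycTIHyp Γ W W1 W2) : W ≤ Γ :=
  Pf.CycTIHyp.le h
theorem CycTIHyp.coprime (h : CycTIHyp Γ W W1 W2) : (♯W1).Coprime ♯W2 :=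
  Pf.CycTIHyp.coprime h
theorem CycTIHyp.two_lt (h : CycTIHyp Γ W W1 W2) : 2 < ♯W1 ∧ 2 < ♯W2 :=
  Pf.CycTIHyp.two_lt h
theorem CycTIHyp.card_Irr (h : CycTIHyp Γ W W1 W2) : (Irr W1).card = ♯W1 ∧ (Irr W2).card = ♯W2 :=
  Pf.CycTIHyp.card_Irr h
theorem CycTIHyp.of_le (h : CycTIHyp Γ W W1 W2) {L : Subgroup G} (h1 : W ≤ L) (h2 : L ≤ Γ) :
    CycTIHyp L W W1 W2 :=
  Pf.CycTIHyp.of_le h h1 h2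
theorem CycTIHyp.ab (h : CycTIHyp Γ W W1 W2) : Ab W :=
  Pf.CycTIHyp.ab h
theorem CycTIHyp.W1_ne_bot (h : CycTIHyp Γ W W1 W2) : W1 ≠ ⊥ :=
  Pf.CycTIHyp.W1_ne_bot h
theorem CycTIHyp.W2_ne_bot (h : CycTIHyp Γ W W1 W2) : W2 ≠ ⊥ :=
  Pf.CycTIHyp.W2_ne_bot h
theorem CycTIHyp.cyc1 (h : CycTIHyp Γ W W1 W2) : IsCyclic W1 :=
  Pf.CycTIHyp.cyc1 h
theorem CycTIHyp.cyc2 (h : CycTIHyp Γ W W1 W2) : IsCyclic W2 :=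
  Pf.CycTIHyp.cyc2 h
theorem CycTIHyp.odd1 (h : CycTIHyp Γ W W1 W2) : Odd ♯W1 :=
  Pf.CycTIHyp.odd1 h
theorem CycTIHyp.odd2 (h : CycTIHyp Γ W W1 W2) : Odd ♯W2 :=
  Pf.CycTIHyp.odd2 h
theorem CycTIHyp.lin (h : CycTIHyp Γ W W1 W2) (hω : IsIrr W ω) : IsLinChar W ω :=
  Pf.CycTIHyp.lin h hω
theorem CycTIHyp.lin1 (h : CycTIHyp Γ W W1 W2) (hi : IsIrr W1 i) : IsLinChar W1 i :=
  Pf.CycTIHyp.lin1 h hi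
theorem CycTIHyp.lin2 (h : CycTIHyp Γ W W1 W2) (hj : IsIrr W2 j) : IsLinChar W2 j :=
  Pf.CycTIHyp.lin2 h hj
theorem CycTIHyp.star_ne1 (h : CycTIHyp Γ W W1 W2) (hi : IsIrr W1 i) (h0 : i ≠ cf1 W1) :
    star i ≠ i :=
  Pf.CycTIHyp.star_ne1 h hi h0
theorem CycTIHyp.star_ne2 (h : CycTIHyp Γ W W1 W2) (hj : IsIrr W2 j) (h0 : j ≠ cf1 W2) :
    star j ≠ j :=
  Pf.CycTIHyp.star_ne2 h hj h0
theorem CycTIHyp.cent_eq (h : CycTIHyp Γ W W1 W2) {x : G} (hx : x ∈ cycTIset W1 W2) :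
    Γ ⊓ 𝐂[x] = W :=
  Pf.CycTIHyp.cent_eq h hx
theorem mem_cycTIset' (h : IsDprod W1 W2 W) {x : G} :
    x ∈ cycTIset W1 W2 ↔ x ∈ W ∧ x ∉ W1 ∧ x ∉ W2 :=
  Pf.mem_cycTIset' h
theorem mul_mem_cycTIset (h : IsDprod W1 W2 W) {x y : G} (hx : x ∈ W1) (hy : y ∈ W2) :
    x * y ∈ cycTIset W1 W2 ↔ x ≠ 1 ∧ y ≠ 1 :=
  Pf.mul_mem_cycTIset h hx hy
theorem cycTIset_subset (h : IsDprod W1 W2 W) : cycTIset W1 W2 ⊆ sharp W :=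
  Pf.cycTIset_subset h
theorem card_cycTIset (h : IsDprod W1 W2 W) : (cycTIset W1 W2).ncard = (♯W1 - 1) * (♯W2 - 1) :=
  Pf.card_cycTIset h
theorem mem_cycTIset (h : IsDprod W1 W2 W) {x : G} :
    x ∈ cycTIset W1 W2 ↔ ∃ a ∈ W1, a ≠ 1 ∧ ∃ b ∈ W2, b ≠ 1 ∧ x = a * b :=
  Pf.mem_cycTIset h

/-! ### the characters `ω_{ij}` -/

theorem cycTIirrE (h : IsDprod W1 W2 W) (i j : G → ℂ) {x y : G} (hx : x ∈ W1) (hy : y ∈ W2) :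
    cycTIirr W1 W2 i j (x * y) = i x * j y :=
  Pf.cycTIirrE h i j hx hy
theorem cycTIirrP (h : IsDprod W1 W2 W) :
    IsIrr W ω ↔ ∃ i j, IsIrr W1 i ∧ IsIrr W2 j ∧ ω = cycTIirr W1 W2 i j :=
  Pf.cycTIirrP h
theorem isIrr_cycTIirr (h : IsDprod W1 W2 W) (hi : IsIrr W1 i) (hj : IsIrr W2 j) :
    IsIrr W (cycTIirr W1 W2 i j) :=
  Pf.isIrr_cycTIirr h hi hj
theorem cycTIirr_inj (h : IsDprod W1 W2 W) (hi : IsIrr W1 i) (hj : IsIrr W2 j) (hi' : IsIrr W1 i')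
    (hj' : IsIrr W2 j') : cycTIirr W1 W2 i j = cycTIirr W1 W2 i' j' ↔ i = i' ∧ j = j' :=
  Pf.cycTIirr_inj h hi hj hi' hj'
theorem cycTIirrC (h : IsDprod W1 W2 W) (i j : G → ℂ) : cycTIirr W2 W1 j i = cycTIirr W1 W2 i j :=
  Pf.cycTIirrC h i j
theorem cycTIirr00 (h : IsDprod W1 W2 W) : cycTIirr W1 W2 (cf1 W1) (cf1 W2) = cf1 W :=
  Pf.cycTIirr00 h
theorem cycTIirr_split (h : IsDprod W1 W2 W) (i j : G → ℂ) :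
    cycTIirr W1 W2 i j = cycTIirr W1 W2 i (cf1 W2) * cycTIirr W1 W2 (cf1 W1) j :=
  Pf.cycTIirr_split h i j
theorem cycTIirr_aut (u : ℂ ≃+* ℂ) (i j : G → ℂ) :
    cycTIirr W1 W2 (cfAut u i) (cfAut u j) = cfAut u (cycTIirr W1 W2 i j) :=
  Pf.cycTIirr_aut u i j
theorem cycTIirr_star (i j : G → ℂ) :
    cycTIirr W1 W2 (star i) (star j) = star (cycTIirr W1 W2 i j) :=
  Pf.cycTIirr_star i j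
theorem cycTIirr_lin (h : CycTIHyp Γ W W1 W2) (hi : IsIrr W1 i) (hj : IsIrr W2 j) :
    IsLinChar W (cycTIirr W1 W2 i j) :=
  Pf.cycTIirr_lin h hi hj
theorem sum_Irr_cycTI {M : Type v} [AddCommMonoid M] (h : IsDprod W1 W2 W) (f : (G → ℂ) → M) :
    ∑ ω ∈ Irr W, f ω = ∑ i ∈ Irr W1, ∑ j ∈ Irr W2, f (cycTIirr W1 W2 i j) :=
  Pf.sum_Irr_cycTI h f
theorem cfker_cycTIl (h : IsDprod W1 W2 W) (j : G → ℂ) :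
    W1 ≤ cfker W (cycTIirr W1 W2 (cf1 W1) j) :=
  Pf.cfker_cycTIl h j
theorem cfker_cycTIr (h : IsDprod W1 W2 W) (i : G → ℂ) :
    W2 ≤ cfker W (cycTIirr W1 W2 i (cf1 W2)) :=
  Pf.cfker_cycTIr h i
theorem cfdot_cycTIirr (h : IsDprod W1 W2 W) (i j i' j' : G → ℂ) :
    ⟪cycTIirr W1 W2 i j, cycTIirr W1 W2 i' j'⟫[W] = ⟪i, i'⟫[W1] * ⟪j, j'⟫[W2] :=
  Pf.cfdot_cycTIirr h i j i' j'

theorem cfCycTI_vchar (h : IsDprod W1 W2 W) (hi : IsIrr W1 i) (hj : IsIrr W2 j) :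
    cfCycTI W W1 W2 i j ∈ ZIrr W :=
  Pf.cfCycTI_vchar h hi hj
theorem cfCycTI_on (h : CycTIHyp Γ W W1 W2) (hi : IsIrr W1 i) (hj : IsIrr W2 j) :
    cfCycTI W W1 W2 i j ∈ CFon W (cycTIset W1 W2) :=
  Pf.cfCycTI_on h hi hj
/-- (3.4) -/
theorem span_cfCycTI (h : CycTIHyp Γ W W1 W2) :
    Submodule.span ℂ {α | ∃ i j, IsIrr W1 i ∧ IsIrr W2 j ∧ i ≠ cf1 W1 ∧ j ≠ cf1 W2 ∧
      α = cfCycTI W W1 W2 i j} = CFon W (cycTIset W1 W2) :=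
  Pf.span_cfCycTI h

/-! ### the isometry `σ` -/

/-- Theorem (3.2) -/
theorem cycTIiso_spec (h : CycTIHyp Γ W W1 W2) : IsCycTIiso Γ W W1 W2 (cycTIiso Γ W W1 W2) :=
  Pf.cycTIiso_spec h

theorem cycTIiso_mem_CF (h : CycTIHyp Γ W W1 W2) (hφ : φ ∈ CF W) : cycTIiso Γ W W1 W2 φ ∈ CF Γ :=
  Pf.cycTIiso_mem_CF h hφ
theorem cycTI_Zisometry (h : CycTIHyp Γ W W1 W2) :
    IsometryTo W Γ (ZIrr W) (ZIrr Γ) (cycTIiso Γ W W1 W2) :=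
  Pf.cycTI_Zisometry h
theorem cycTIisometry (h : CycTIHyp Γ W W1 W2) (hφ : φ ∈ CF W) (hψ : ψ ∈ CF W) :
    ⟪cycTIiso Γ W W1 W2 φ, cycTIiso Γ W W1 W2 ψ⟫[Γ] = ⟪φ, ψ⟫[W] :=
  Pf.cycTIisometry h hφ hψ
theorem cycTIiso_irr_dirr (h : CycTIHyp Γ W W1 W2) (hω : IsIrr W ω) :
    IsDirr Γ (cycTIiso Γ W W1 W2 ω) :=
  Pf.cycTIiso_irr_dirr h hω
theorem cycTIeta_mem_CF (h : CycTIHyp Γ W W1 W2) (hi : IsIrr W1 i) (hj : IsIrr W2 j) :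
    cycTIeta Γ W W1 W2 i j ∈ CF Γ :=
  Pf.cycTIeta_mem_CF h hi hj
theorem cfdot_cycTIiso_self (h : CycTIHyp Γ W W1 W2) (hi : IsIrr W1 i) (hj : IsIrr W2 j) :
    ⟪cycTIeta Γ W W1 W2 i j, cycTIeta Γ W W1 W2 i j⟫[Γ] = 1 :=
  Pf.cfdot_cycTIiso_self h hi hj
theorem cfdot_cycTIiso_ne (h : CycTIHyp Γ W W1 W2) (hi : IsIrr W1 i) (hj : IsIrr W2 j)
    (hi' : IsIrr W1 i') (hj' : IsIrr W2 j') (hne : i ≠ i' ∨ j ≠ j') :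
    ⟪cycTIeta Γ W W1 W2 i j, cycTIeta Γ W W1 W2 i' j'⟫[Γ] = 0 :=
  Pf.cfdot_cycTIiso_ne h hi hj hi' hj' hne
theorem cfnorm_cycTIiso (h : CycTIHyp Γ W W1 W2) (hi : IsIrr W1 i) (hj : IsIrr W2 j) :
    cfnorm Γ (cycTIeta Γ W W1 W2 i j) = 1 :=
  Pf.cfnorm_cycTIiso h hi hj
theorem cycTIiso_eqE (h : CycTIHyp Γ W W1 W2) (hi : IsIrr W1 i) (hj : IsIrr W2 j) (hi' : IsIrr W1 i')
    (hj' : IsIrr W2 j') : cycTIeta Γ W W1 W2 i j = cycTIeta Γ W W1 W2 i' j' ↔ i = i' ∧ j = j' :=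
  Pf.cycTIiso_eqE h hi hj hi' hj'
theorem cycTIiso_neqN (h : CycTIHyp Γ W W1 W2) (hi : IsIrr W1 i) (hj : IsIrr W2 j) (hi' : IsIrr W1 i')
    (hj' : IsIrr W2 j') : cycTIeta Γ W W1 W2 i j ≠ -cycTIeta Γ W W1 W2 i' j' :=
  Pf.cycTIiso_neqN h hi hj hi' hj'
theorem mem_etaSet : φ ∈ etaSet Γ W W1 W2 ↔
    ∃ i j, IsIrr W1 i ∧ IsIrr W2 j ∧ φ = cycTIeta Γ W W1 W2 i j :=
  Pf.mem_etaSet
theorem cycTIiso_orthonormal (h : CycTIHyp Γ W W1 W2) : Orthonormal' Γ (etaSet Γ W W1 W2) :=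
  Pf.cycTIiso_orthonormal h
theorem sum_etaSet {M : Type v} [AddCommMonoid M] (h : CycTIHyp Γ W W1 W2) (f : (G → ℂ) → M) :
    ∑ φ ∈ etaSet Γ W W1 W2, f φ = ∑ i ∈ Irr W1, ∑ j ∈ Irr W2, f (cycTIeta Γ W W1 W2 i j) :=
  Pf.sum_etaSet h f
theorem cycTIiso_vchar (h : CycTIHyp Γ W W1 W2) (hi : IsIrr W1 i) (hj : IsIrr W2 j) :
    cycTIeta Γ W W1 W2 i j ∈ ZIrr Γ :=
  Pf.cycTIiso_vchar h hi hj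
theorem cycTIiso_dirr (h : CycTIHyp Γ W W1 W2) (hi : IsIrr W1 i) (hj : IsIrr W2 j) :
    IsDirr Γ (cycTIeta Γ W W1 W2 i j) :=
  Pf.cycTIiso_dirr h hi hj
open Classical in
theorem cfdot_cycTIiso (h : CycTIHyp Γ W W1 W2) (hi : IsIrr W1 i) (hj : IsIrr W2 j) (hi' : IsIrr W1 i')
    (hj' : IsIrr W2 j') :
    ⟪cycTIeta Γ W W1 W2 i j, cycTIeta Γ W W1 W2 i' j'⟫[Γ] = if i = i' ∧ j = j' then 1 else 0 :=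
  Pf.cfdot_cycTIiso h hi hj hi' hj'
theorem cycTIiso00 (h : CycTIHyp Γ W W1 W2) : cycTIeta Γ W W1 W2 (cf1 W1) (cf1 W2) = cf1 Γ :=
  Pf.cycTIiso00 h
theorem cycTIeta_restrict (h : CycTIHyp Γ W W1 W2) (hi : IsIrr W1 i) (hj : IsIrr W2 j) {x : G}
    (hx : x ∈ cycTIset W1 W2) : cycTIeta Γ W W1 W2 i j x = cycTIirr W1 W2 i j x :=
  Pf.cycTIeta_restrict h hi hj hx
/-- (3.5): `Ind α_{ij} = 1 - η_{i0} - η_{0j} + η_{ij}` -/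
theorem cfInd_cycTI_alpha (h : CycTIHyp Γ W W1 W2) (hi : IsIrr W1 i) (hj : IsIrr W2 j) :
    cfInd Γ W (cf1 W - cycTIirr W1 W2 i (cf1 W2) - cycTIirr W1 W2 (cf1 W1) j + cycTIirr W1 W2 i j) =
      cf1 Γ - cycTIeta Γ W W1 W2 i (cf1 W2) - cycTIeta Γ W W1 W2 (cf1 W1) j +
        cycTIeta Γ W W1 W2 i j :=
  Pf.cfInd_cycTI_alpha h hi hj
/-- (3.2)(d) -/
theorem ortho_cycTIiso_vanish (h : CycTIHyp Γ W W1 W2) (hψ : ψ ∈ CF Γ)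
    (ho : ∀ i ∈ Irr W1, ∀ j ∈ Irr W2, ⟪ψ, cycTIeta Γ W W1 W2 i j⟫[Γ] = 0) :
    ∀ x ∈ cycTIset W1 W2, ψ x = 0 :=
  Pf.ortho_cycTIiso_vanish h hψ ho
/-- `σ` does not depend on the order of `W₁`, `W₂` -/
theorem cycTIisoC (h : CycTIHyp Γ W W1 W2) (hφ : φ ∈ CF W) :
    cycTIiso Γ W W2 W1 φ = cycTIiso Γ W W1 W2 φ :=
  Pf.cycTIisoC h hφ
theorem cycTIetaC (h : CycTIHyp Γ W W1 W2) (hi : IsIrr W1 i) (hj : IsIrr W2 j) :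
    cycTIeta Γ W W2 W1 j i = cycTIeta Γ W W1 W2 i j :=
  Pf.cycTIetaC h hi hj

/-- (3.7) -/
theorem cycTIiso_cfdot_exchange (h : CycTIHyp Γ W W1 W2) (hψ : ψ ∈ CF Γ)
    (h0 : ∀ x ∈ cycTIset W1 W2, ψ x = 0) (hi : IsIrr W1 i) (hj : IsIrr W2 j) (hi' : IsIrr W1 i')
    (hj' : IsIrr W2 j') :
    ⟪ψ, cycTIeta Γ W W1 W2 i j⟫[Γ] + ⟪ψ, cycTIeta Γ W W1 W2 i' j'⟫[Γ] =
      ⟪ψ, cycTIeta Γ W W1 W2 i j'⟫[Γ] + ⟪ψ, cycTIeta Γ W W1 W2 i' j⟫[Γ] :=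
  Pf.cycTIiso_cfdot_exchange h hψ h0 hi hj hi' hj'

theorem cycTI_NC_0 : cycTI_NC Γ W W1 W2 0 = 0 :=
  Pf.cycTI_NC_0
theorem cycTI_NC_scale_nz {c : ℂ} (hc : c ≠ 0) (φ : G → ℂ) :
    cycTI_NC Γ W W1 W2 (c • φ) = cycTI_NC Γ W W1 W2 φ :=
  Pf.cycTI_NC_scale_nz hc φ
theorem cycTI_NC_iso (h : CycTIHyp Γ W W1 W2) (hi : IsIrr W1 i) (hj : IsIrr W2 j) :
    cycTI_NC Γ W W1 W2 (cycTIeta Γ W W1 W2 i j) = 1 :=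
  Pf.cycTI_NC_iso h hi hj
theorem cycTI_NC_opp (φ : G → ℂ) : cycTI_NC Γ W W1 W2 (-φ) = cycTI_NC Γ W W1 W2 φ :=
  Pf.cycTI_NC_opp φ
theorem cycTI_NC_smul (c : ℂ) (φ : G → ℂ) : cycTI_NC Γ W W1 W2 (c • φ) ≤ cycTI_NC Γ W W1 W2 φ :=
  Pf.cycTI_NC_smul c φ
theorem cycTI_NC_add (φ ψ : G → ℂ) :
    cycTI_NC Γ W W1 W2 (φ + ψ) ≤ cycTI_NC Γ W W1 W2 φ + cycTI_NC Γ W W1 W2 ψ :=
  Pf.cycTI_NC_add φ ψ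
theorem cycTI_NC_sub (φ ψ : G → ℂ) :
    cycTI_NC Γ W W1 W2 (φ - ψ) ≤ cycTI_NC Γ W W1 W2 φ + cycTI_NC Γ W W1 W2 ψ :=
  Pf.cycTI_NC_sub φ ψ
theorem cycTI_NC_eq_zero : cycTI_NC Γ W W1 W2 φ = 0 ↔
    ∀ i ∈ Irr W1, ∀ j ∈ Irr W2, ⟪φ, cycTIeta Γ W W1 W2 i j⟫[Γ] = 0 :=
  Pf.cycTI_NC_eq_zero
theorem cycTI_NC_dirr (h : CycTIHyp Γ W W1 W2) (hφ : IsDirr Γ φ) : cycTI_NC Γ W W1 W2 φ ≤ 1 :=
  Pf.cycTI_NC_dirr h hφ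
theorem cycTI_NC_norm (h : CycTIHyp Γ W W1 W2) (hφ : φ ∈ ZIrr Γ) :
    (cycTI_NC Γ W W1 W2 φ : ℝ) ≤ cfnorm Γ φ :=
  Pf.cycTI_NC_norm h hφ

open Classical in
/-- (3.8) -/
theorem small_cycTI_NC (h : CycTIHyp Γ W W1 W2) (hφ : φ ∈ CF Γ) (h0 : ∀ x ∈ cycTIset W1 W2, φ x = 0)
    (hn : cycTI_NC Γ W W1 W2 φ < 2 * min ♯W1 ♯W2) (hi : IsIrr W1 i) (hj : IsIrr W2 j)
    (ha : ⟪φ, cycTIeta Γ W W1 W2 i j⟫[Γ] ≠ 0) :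
    (∀ k ∈ Irr W1, ∀ l ∈ Irr W2, ⟪φ, cycTIeta Γ W W1 W2 k l⟫[Γ] =
      if l = j then ⟪φ, cycTIeta Γ W W1 W2 i j⟫[Γ] else 0) ∨
    (∀ k ∈ Irr W1, ∀ l ∈ Irr W2, ⟪φ, cycTIeta Γ W W1 W2 k l⟫[Γ] =
      if k = i then ⟪φ, cycTIeta Γ W W1 W2 i j⟫[Γ] else 0) :=
  Pf.small_cycTI_NC h hφ h0 hn hi hj ha
theorem cycTI_NC_minn (h : CycTIHyp Γ W W1 W2) (hφ : φ ∈ CF Γ) (h0 : ∀ x ∈ cycTIset W1 W2, φ x = 0)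
    (hp : 0 < cycTI_NC Γ W W1 W2 φ) (hn : cycTI_NC Γ W W1 W2 φ < 2 * min ♯W1 ♯W2) :
    min ♯W1 ♯W2 ≤ cycTI_NC Γ W W1 W2 φ :=
  Pf.cycTI_NC_minn h hφ h0 hp hn
/-- the most frequent use of (3.8) -/
theorem cycTI_NC_eq_zero_of_lt (h : CycTIHyp Γ W W1 W2) (hφ : φ ∈ CF Γ)
    (h0 : ∀ x ∈ cycTIset W1 W2, φ x = 0) (hn : cycTI_NC Γ W W1 W2 φ < min ♯W1 ♯W2) :
    ∀ i ∈ Irr W1, ∀ j ∈ Irr W2, ⟪φ, cycTIeta Γ W W1 W2 i j⟫[Γ] = 0 :=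
  Pf.cycTI_NC_eq_zero_of_lt h hφ h0 hn
theorem eq_signed_sub_cTIiso (h : CycTIHyp Γ W W1 W2) {e : ℂ} (he : e = 1 ∨ e = -1) (hφ : φ ∈ ZIrr Γ)
    (h2 : cfnorm Γ φ = 2) (hi : IsIrr W1 i) (hj : IsIrr W2 j) (hj' : IsIrr W2 j') (hne : j ≠ j')
    (hV : ∀ x ∈ cycTIset W1 W2, φ x = (e • (cycTIeta Γ W W1 W2 i j - cycTIeta Γ W W1 W2 i j')) x) :
    φ = e • (cycTIeta Γ W W1 W2 i j - cycTIeta Γ W W1 W2 i j') :=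
  Pf.eq_signed_sub_cTIiso h he hφ h2 hi hj hj' hne hV

/-- (3.9)(a) -/
theorem eq_in_cycTIiso (h : CycTIHyp Γ W W1 W2) (hω : IsIrr W ω) (hφ : IsDirr Γ φ)
    (hV : ∀ x ∈ cycTIset W1 W2, φ x = ω x) : φ = cycTIiso Γ W W1 W2 ω :=
  Pf.eq_in_cycTIiso h hω hφ hV
theorem cfAut_cycTIeta (h : CycTIHyp Γ W W1 W2) (u : ℂ ≃+* ℂ) (hi : IsIrr W1 i) (hj : IsIrr W2 j) :
    cfAut u (cycTIeta Γ W W1 W2 i j) = cycTIeta Γ W W1 W2 (cfAut u i) (cfAut u j) :=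
  Pf.cfAut_cycTIeta h u hi hj
theorem cfAut_cycTIiso (h : CycTIHyp Γ W W1 W2) (u : ℂ ≃+* ℂ) (hφ : φ ∈ CF W) :
    cfAut u (cycTIiso Γ W W1 W2 φ) = cycTIiso Γ W W1 W2 (cfAut u φ) :=
  Pf.cfAut_cycTIiso h u hφ
theorem star_cycTIiso (h : CycTIHyp Γ W W1 W2) (hφ : φ ∈ CF W) :
    star (cycTIiso Γ W W1 W2 φ) = cycTIiso Γ W W1 W2 (star φ) :=
  Pf.star_cycTIiso h hφ
theorem star_cycTIeta (h : CycTIHyp Γ W W1 W2) (hi : IsIrr W1 i) (hj : IsIrr W2 j) :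
    star (cycTIeta Γ W W1 W2 i j) = cycTIeta Γ W W1 W2 (star i) (star j) :=
  Pf.star_cycTIeta h hi hj
/-- (3.9)(b) -/
theorem cycTIiso_aut_exists (h : CycTIHyp Γ W W1 W2) (hω : IsIrr W ω) {k : ℕ} (hk0 : k ≠ 0)
    (hk : k.Coprime (cforder W ω)) :
    (∃ u : ℂ ≃+* ℂ, cycTIiso Γ W W1 W2 (ω ^ k) = cfAut u (cycTIiso Γ W W1 W2 ω)) ∧
    ∀ x : G, (orderOf x).Coprime (cforder W ω) →
      cycTIiso Γ W W1 W2 (ω ^ k) x = cycTIiso Γ W W1 W2 ω x :=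
  Pf.cycTIiso_aut_exists h hω hk0 hk
/-- (3.9)(c) -/
theorem Cint_cycTIiso_coprime (h : CycTIHyp Γ W W1 W2) (hω : IsIrr W ω) {x : G}
    (hx : (orderOf x).Coprime (cforder W ω)) : IsCint (cycTIiso Γ W W1 W2 ω x) :=
  Pf.Cint_cycTIiso_coprime h hω hx

end Cfsg.Agent.OO
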