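import Cfsg.Agent.Lib.OO.PF2

/-! # Definitions for Peterfalvi section 3 -/

set_option autoImplicit false

namespace Cfsg.Agent.OO

universe u

variable {G : Type u} [Group G] [Finite G]

/-- `α_{ij} = 1 - ω_{i0} - ω_{0j} + ω_{ij} = (1 - ω_{i0}) (1 - ω_{0j})` -/
noncomputable abbrev cfCycTI (W W1 W2 : Subgroup G) (i j : G → ℂ) : G → ℂ :=
  cf1 W - cycTIirr W1 W2 i (cf1 W2) - cycTIirr W1 W2 (cf1 W1) j + cycTIirr W1 W2 i j

open Classical in
/-- the set of all `η_{ij}` -/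
noncomputable def etaSet (Γ W W1 W2 : Subgroup G) : Finset (G → ℂ) :=
  (Irr W1 ×ˢ Irr W2).image fun ij => cycTIeta Γ W W1 W2 ij.1 ij.2

end Cfsg.Agent.OO
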