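import Cfsg.Agent.Lib.OO.PF3
import Cfsg.Agent.Lib.OO.Pf.PF4_B

/-! # Interface: Peterfalvi section 4 (prime TI and prime Dade hypotheses) -/

set_option autoImplicit false
set_option linter.unusedSectionVars false
set_option linter.unusedVariables false

namespace Cfsg.Agent.OO

open Subgroup Cfsg.Agent.Coprime
open scoped Pointwise ComplexConjugate

universe u

variable {G : Type u} [Group G] [Finite G] {Γ L K H M W W1 W2 : Subgroup G} {A A0 : Set G}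
  {i j k i1 i2 j1 j2 φ ψ χ θ : G → ℂ} {x : G}

/-- (4.1) -/
theorem vchar_pairs_orthonormal {a b c d : G → ℂ} {u v : ℝ} (ha : IsDirr H a) (hb : IsDirr H b)
    (hc : IsDirr H c) (hd : IsDirr H d) (hab : ⟪a, b⟫[H] = 0) (hcd : ⟪c, d⟫[H] = 0) (hu : u ≠ 0)
    (hv : v ≠ 0) (h0 : ⟪a - b, (u : ℂ) • c - (v : ℂ) • d⟫[H] = 0) (h1 : a 1 = b 1)
    (h2 : u * c 1 = v * d 1) :
    ⟪a, c⟫[H] = 0 ∧ ⟪a, d⟫[H] = 0 ∧ ⟪b, c⟫[H] = 0 ∧ ⟪b, d⟫[H] = 0 :=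
  Pf.vchar_pairs_orthonormal ha hb hc hd hab hcd hu hv h0 h1 h2

theorem orthonormal_vchar_diff_ortho {a b c d : G → ℂ} (ha : IsDirr H a) (hb : IsDirr H b)
    (hc : IsDirr H c) (hd : IsDirr H d) (hab : ⟪a, b⟫[H] = 0) (hcd : ⟪c, d⟫[H] = 0)
    (h0 : ⟪a - b, c - d⟫[H] = 0) (h1 : a 1 = b 1) (h2 : c 1 = d 1) :
    ⟪a, c⟫[H] = 0 ∧ ⟪a, d⟫[H] = 0 ∧ ⟪b, c⟫[H] = 0 ∧ ⟪b, d⟫[H] = 0 :=
  Pf.orthonormal_vchar_diff_ortho ha hb hc hd hab hcd h0 h1 h2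

local notation "ω" => cycTIirr W1 W2
local notation "η" => cycTIeta Γ W W1 W2
local notation "V" => cycTIset W1 W2
local notation "μ₂" => prTIirr L W W1 W2
local notation "δ" => prTIsign L W W1 W2
local notation "μ" => prTIred L W W1 W2
local notation "χₖ" => prTIres L K W W1 W2

/-! ### (4.2) to (4.5) -/

-- the `PrimeTIHyp` API (`K_le`, `normalK`, `W1_le`, `W_le`, `relIndex`, `coprime`, `cycW`, `inf_eq`,
-- `cent_W1`, `exists_conj`) is in `Pf/PF4_A.lean`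

/-- (4.3)(a), first part -/
theorem normedTI_prTIset (h : PrimeTIHyp L K W W1 W2) : NormedTI ((W : Set G) \ W2) L W :=
  Pf.normedTI_prTIset h

/-- (4.3)(a), second part -/
theorem prime_cycTIhyp (h : PrimeTIHyp L K W W1 W2) : CycTIHyp L W W1 W2 :=
  Pf.prime_cycTIhyp h

theorem prTIsign_eq (L W W1 W2 : Subgroup G) (j : G → ℂ) :
    prTIsign L W W1 W2 j = 1 ∨ prTIsign L W W1 W2 j = -1 :=
  Pf.prTIsign_eq L W W1 W2 j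

theorem prTIsign_mul_self (L W W1 W2 : Subgroup G) (j : G → ℂ) :
    prTIsign L W W1 W2 j * prTIsign L W W1 W2 j = 1 :=
  Pf.prTIsign_mul_self L W W1 W2 j

theorem prTIsign_ne_zero (L W W1 W2 : Subgroup G) (j : G → ℂ) : prTIsign L W W1 W2 j ≠ 0 :=
  Pf.prTIsign_ne_zero L W W1 W2 j

theorem conj_prTIsign (L W W1 W2 : Subgroup G) (j : G → ℂ) :
    conj (prTIsign L W W1 W2 j) = prTIsign L W W1 W2 j :=
  Pf.conj_prTIsign L W W1 W2 j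

/-- (4.3)(b) -/
theorem prTIirr_irr (h : PrimeTIHyp L K W W1 W2) (hi : IsIrr W1 i) (hj : IsIrr W2 j) :
    IsIrr L (μ₂ i j) :=
  Pf.prTIirr_irr h hi hj

theorem prTIirr_inj (h : PrimeTIHyp L K W W1 W2) (hi1 : IsIrr W1 i1) (hj1 : IsIrr W2 j1)
    (hi2 : IsIrr W1 i2) (hj2 : IsIrr W2 j2) : μ₂ i1 j1 = μ₂ i2 j2 ↔ i1 = i2 ∧ j1 = j2 :=
  Pf.prTIirr_inj h hi1 hj1 hi2 hj2

open Classical in
theorem cfdot_prTIirr (h : PrimeTIHyp L K W W1 W2) (hi1 : IsIrr W1 i1) (hj1 : IsIrr W2 j1)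
    (hi2 : IsIrr W1 i2) (hj2 : IsIrr W2 j2) :
    ⟪μ₂ i1 j1, μ₂ i2 j2⟫[L] = if i1 = i2 ∧ j1 = j2 then 1 else 0 :=
  Pf.cfdot_prTIirr h hi1 hj1 hi2 hj2

theorem cfInd_sub_prTIirr (h : PrimeTIHyp L K W W1 W2) (hi : IsIrr W1 i) (hj : IsIrr W2 j) :
    cfInd L W (ω i j - ω (cf1 W1) j) = δ j • (μ₂ i j - μ₂ (cf1 W1) j) :=
  Pf.cfInd_sub_prTIirr h hi hj

theorem cycTIiso_prTIirr (L W W1 W2 : Subgroup G) (i j : G → ℂ) :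
    cycTIeta L W W1 W2 i j = prTIsign L W W1 W2 j • prTIirr L W W1 W2 i j :=
  Pf.cycTIiso_prTIirr L W W1 W2 i j

/-- (4.3)(c) -/
theorem prTIirr_id (h : PrimeTIHyp L K W W1 W2) (hi : IsIrr W1 i) (hj : IsIrr W2 j) (hx : x ∈ W)
    (hx2 : x ∉ W2) : μ₂ i j x = δ j * ω i j x :=
  Pf.prTIirr_id h hi hj hx hx2

theorem not_prTIirr_vanish (h : PrimeTIHyp L K W W1 W2) (hχ : IsIrr L χ)
    (hn : ∀ i ∈ Irr W1, ∀ j ∈ Irr W2, χ ≠ μ₂ i j) (hx : x ∈ W) (hx2 : x ∉ W2) : χ x = 0 :=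
  Pf.not_prTIirr_vanish h hχ hn hx hx2

/-- (4.3)(d) -/
theorem prTIirr1_mod (h : PrimeTIHyp L K W W1 W2) (hi : IsIrr W1 i) (hj : IsIrr W2 j) :
    EqCmod ♯W1 (μ₂ i j 1) (δ j) :=
  Pf.prTIirr1_mod h hi hj

theorem prTIsign_aut (h : PrimeTIHyp L K W W1 W2) (u : ℂ ≃+* ℂ) (hj : IsIrr W2 j) :
    δ (cfAut u j) = δ j :=
  Pf.prTIsign_aut h u hj

theorem prTIsign_star (h : PrimeTIHyp L K W W1 W2) (hj : IsIrr W2 j) : δ (star j) = δ j :=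
  Pf.prTIsign_star h hj

theorem prTIirr_aut (h : PrimeTIHyp L K W W1 W2) (u : ℂ ≃+* ℂ) (hi : IsIrr W1 i) (hj : IsIrr W2 j) :
    μ₂ (cfAut u i) (cfAut u j) = cfAut u (μ₂ i j) :=
  Pf.prTIirr_aut h u hi hj

theorem prTIirr_star (h : PrimeTIHyp L K W W1 W2) (hi : IsIrr W1 i) (hj : IsIrr W2 j) :
    μ₂ (star i) (star j) = star (μ₂ i j) :=
  Pf.prTIirr_star h hi hj

theorem prTIred_char (h : PrimeTIHyp L K W W1 W2) (hj : IsIrr W2 j) : IsChar L (μ j) :=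
  Pf.prTIred_char h hj

theorem prTIred_neq0 (h : PrimeTIHyp L K W W1 W2) (hj : IsIrr W2 j) : μ j ≠ 0 :=
  Pf.prTIred_neq0 h hj

theorem prTIred_1_gt0 (h : PrimeTIHyp L K W W1 W2) (hj : IsIrr W2 j) : 0 < (μ j 1).re :=
  Pf.prTIred_1_gt0 h hj

theorem prTIred_1_neq0 (h : PrimeTIHyp L K W W1 W2) (hj : IsIrr W2 j) : μ j 1 ≠ 0 :=
  Pf.prTIred_1_neq0 h hj

theorem prTIred_aut (h : PrimeTIHyp L K W W1 W2) (u : ℂ ≃+* ℂ) (hj : IsIrr W2 j) :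
    μ (cfAut u j) = cfAut u (μ j) :=
  Pf.prTIred_aut h u hj

theorem prTIred_star (h : PrimeTIHyp L K W W1 W2) (hj : IsIrr W2 j) : μ (star j) = star (μ j) :=
  Pf.prTIred_star h hj

open Classical in
theorem cfdot_prTIirr_red (h : PrimeTIHyp L K W W1 W2) (hi : IsIrr W1 i) (hj : IsIrr W2 j)
    (hk : IsIrr W2 k) : ⟪μ₂ i j, μ k⟫[L] = if j = k then 1 else 0 :=
  Pf.cfdot_prTIirr_red h hi hj hk

open Classical in
theorem cfdot_prTIred (h : PrimeTIHyp L K W W1 W2) (hj : IsIrr W2 j) (hk : IsIrr W2 k) :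
    ⟪μ j, μ k⟫[L] = if j = k then (♯W1 : ℂ) else 0 :=
  Pf.cfdot_prTIred h hj hk

theorem cfnorm_prTIred (h : PrimeTIHyp L K W W1 W2) (hj : IsIrr W2 j) : cfnorm L (μ j) = ♯W1 :=
  Pf.cfnorm_prTIred h hj

theorem prTIred_inj (h : PrimeTIHyp L K W W1 W2) (hj : IsIrr W2 j) (hk : IsIrr W2 k) :
    μ j = μ k ↔ j = k :=
  Pf.prTIred_inj h hj hk

theorem prTIred_not_real (h : PrimeTIHyp L K W W1 W2) (hj : IsIrr W2 j) (hj0 : j ≠ cf1 W2) :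
    star (μ j) ≠ μ j :=
  Pf.prTIred_not_real h hj hj0

theorem prTIred_not_irr (h : PrimeTIHyp L K W W1 W2) (hj : IsIrr W2 j) : ¬ IsIrr L (μ j) :=
  Pf.prTIred_not_irr h hj

theorem prTIsign0 (h : PrimeTIHyp L K W W1 W2) : δ (cf1 W2) = 1 :=
  Pf.prTIsign0 h

theorem prTIirr00 (h : PrimeTIHyp L K W W1 W2) : μ₂ (cf1 W1) (cf1 W2) = cf1 L :=
  Pf.prTIirr00 h

/-- the characters `μ_{i0}` are inflated from `W₁ ≅ L / K` -/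
theorem prTIirr0_eq (h : PrimeTIHyp L K W W1 W2) (hi : IsIrr W1 i) :
    μ₂ i (cf1 W2) = cfSdprod K W1 i :=
  Pf.prTIirr0_eq h hi

/-- (4.4) -/
theorem prTIirr0P (h : PrimeTIHyp L K W W1 W2) (hχ : IsIrr L χ) :
    K ≤ cfker L χ ↔ ∃ i, IsIrr W1 i ∧ χ = μ₂ i (cf1 W2) :=
  Pf.prTIirr0P h hχ

theorem prTIirr_split (h : PrimeTIHyp L K W W1 W2) (hi : IsIrr W1 i) (hj : IsIrr W2 j) :
    μ₂ i j = μ₂ i (cf1 W2) * μ₂ (cf1 W1) j :=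
  Pf.prTIirr_split h hi hj

/-- (4.5)(a) -/
theorem cfRes_prTIirr (h : PrimeTIHyp L K W W1 W2) (hi : IsIrr W1 i) (hj : IsIrr W2 j) :
    cfRes K (μ₂ i j) = χₖ j :=
  Pf.cfRes_prTIirr h hi hj

theorem prTIres_irr (h : PrimeTIHyp L K W W1 W2) (hj : IsIrr W2 j) : IsIrr K (χₖ j) :=
  Pf.prTIres_irr h hj

theorem cfInd_prTIres (h : PrimeTIHyp L K W W1 W2) (hj : IsIrr W2 j) : cfInd L K (χₖ j) = μ j :=
  Pf.cfInd_prTIres h hj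

theorem prTIirr_1 (h : PrimeTIHyp L K W W1 W2) (hi : IsIrr W1 i) (hj : IsIrr W2 j) :
    μ₂ i j 1 = μ₂ (cf1 W1) j 1 :=
  Pf.prTIirr_1 h hi hj

theorem prTIres_1 (h : PrimeTIHyp L K W W1 W2) (hi : IsIrr W1 i) (hj : IsIrr W2 j) :
    χₖ j 1 = μ₂ i j 1 :=
  Pf.prTIres_1 h hi hj

theorem prTIirr0_1 (h : PrimeTIHyp L K W W1 W2) (hi : IsIrr W1 i) : μ₂ i (cf1 W2) 1 = 1 :=
  Pf.prTIirr0_1 h hi

theorem prTIirr0_linear (h : PrimeTIHyp L K W W1 W2) (hi : IsIrr W1 i) :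
    IsLinChar L (μ₂ i (cf1 W2)) :=
  Pf.prTIirr0_linear h hi

theorem prTIred_1 (h : PrimeTIHyp L K W W1 W2) (hi : IsIrr W1 i) (hj : IsIrr W2 j) :
    μ j 1 = ♯W1 * μ₂ i j 1 :=
  Pf.prTIred_1 h hi hj

theorem prTIred_on (h : PrimeTIHyp L K W W1 W2) (hj : IsIrr W2 j) : μ j ∈ CFon L K :=
  Pf.prTIred_on h hj

theorem cfRes_prTIred (h : PrimeTIHyp L K W W1 W2) (hj : IsIrr W2 j) :
    cfRes K (μ j) = (♯W1 : ℂ) • χₖ j :=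
  Pf.cfRes_prTIred h hj

theorem prTIres_aut (h : PrimeTIHyp L K W W1 W2) (u : ℂ ≃+* ℂ) (hj : IsIrr W2 j) :
    χₖ (cfAut u j) = cfAut u (χₖ j) :=
  Pf.prTIres_aut h u hj

theorem prTIres_star (h : PrimeTIHyp L K W W1 W2) (hj : IsIrr W2 j) :
    χₖ (star j) = star (χₖ j) :=
  Pf.prTIres_star h hj

theorem prTIres0 (h : PrimeTIHyp L K W W1 W2) : χₖ (cf1 W2) = cf1 K :=
  Pf.prTIres0 h

theorem prTIred0 (h : PrimeTIHyp L K W W1 W2) : μ (cf1 W2) = (♯W1 : ℂ) • cf1 K :=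
  Pf.prTIred0 h

theorem prTIres_inj (h : PrimeTIHyp L K W W1 W2) (hj : IsIrr W2 j) (hk : IsIrr W2 k) :
    χₖ j = χₖ k ↔ j = k :=
  Pf.prTIres_inj h hj hk

theorem inertia_prTIres (h : PrimeTIHyp L K W W1 W2) (hj : IsIrr W2 j) : inertia L (χₖ j) = L :=
  Pf.inertia_prTIres h hj

/-- (4.5)(b), first assertion -/
theorem prTIres_irr_cases (h : PrimeTIHyp L K W W1 W2) (hθ : IsIrr K θ) :
    (∃ j, IsIrr W2 j ∧ θ = χₖ j) ∨ (inertia L θ = K ∧ IsIrr L (cfInd L K θ) ∧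
      ∀ i ∈ Irr W1, ∀ j ∈ Irr W2, cfInd L K θ ≠ μ₂ i j) :=
  Pf.prTIres_irr_cases h hθ

/-- (4.5)(b), second assertion -/
theorem prTIind_irr_cases (h : PrimeTIHyp L K W W1 W2) (hχ : IsIrr L χ) :
    (∃ i j, IsIrr W1 i ∧ IsIrr W2 j ∧ χ = μ₂ i j) ∨
      ∃ θ, IsIrr K θ ∧ (∀ j ∈ Irr W2, θ ≠ χₖ j) ∧ χ = cfInd L K θ :=
  Pf.prTIind_irr_cases h hχ

/-- a reducible character induced from `K` is one of the `μ_j` -/
theorem prTIred_of_not_irr (h : PrimeTIHyp L K W W1 W2) (hθ : IsIrr K θ)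
    (hn : ¬ IsIrr L (cfInd L K θ)) : ∃ j, IsIrr W2 j ∧ θ = χₖ j ∧ cfInd L K θ = μ j :=
  Pf.prTIred_of_not_irr h hθ hn

/-- the kernels of the `χ_j`; this replaces the passage to the quotient `L / M`
(`primeTIhyp_quotient`) when counting the `μ_j` with `M` in their kernel -/
theorem le_cfker_prTIres_iff (h : PrimeTIHyp L K W W1 W2) (hM : M ⊴ L) (hMK : M ≤ K)
    (hj : IsIrr W2 j) : M ≤ cfker K (χₖ j) ↔ M ⊓ W2 ≤ cfker W2 j :=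
  Pf.le_cfker_prTIres_iff h hM hMK hj

open Classical in
theorem card_prTIres_cfker (h : PrimeTIHyp L K W W1 W2) (hM : M ⊴ L) (hMK : M ≤ K) :
    ((Irr W2).filter fun j => M ≤ cfker K (χₖ j)).card = M.relIndex W2 :=
  Pf.card_prTIres_cfker h hM hMK

theorem primeTIhyp_quotient (h : PrimeTIHyp L K W W1 W2) (hM : M ⊴ L) (hMK : M ≤ K) (hW : ¬ W2 ≤ M) :
    PrimeTIHyp (L ⁒ M) (K ⁒ M) (W ⁒ M) (W1 ⁒ M) (W2 ⁒ M) :=
  Pf.primeTIhyp_quotient h hM hMK hW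

/-! ### (4.6) to (4.10) -/

local notation "τ" => Dade Γ L A0

-- the `PrimeDadeHyp` API (`A_subset`, `V_subset`, `sharp_subset`, `dadeA`, `Dade_V`, `mem_CFon`)
-- and `uniformTIred` are in `Pf/PF4_B.lean`

theorem prDade_supp_disjoint (h : PrimeTIHyp L K W W1 W2) (hx : x ∈ V) : x ∉ K :=
  Pf.prDade_supp_disjoint h hx

/-- (4.7), first part -/
theorem prDade_irr_on (h : PrimeDadeHyp Γ L K H A A0 W W1 W2) (hθ : IsIrr K θ)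
    (hk : ¬ H ≤ cfker K θ) : θ ∈ CFon K (insert 1 A) :=
  Pf.prDade_irr_on h hθ hk

/-- (4.7), second part -/
theorem prDade_Ind_irr_on (h : PrimeDadeHyp Γ L K H A A0 W W1 W2) (hθ : IsIrr K θ)
    (hk : ¬ H ≤ cfker K θ) : cfInd L K θ ∈ CFon L (insert 1 A) :=
  Pf.prDade_Ind_irr_on h hθ hk

/-- (4.7), third part -/
theorem cfker_prTIres (h : PrimeDadeHyp Γ L K H A A0 W W1 W2) (hj : IsIrr W2 j) (hj0 : j ≠ cf1 W2) :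
    ¬ H ≤ cfker K (χₖ j) :=
  Pf.cfker_prTIres h hj hj0

/-- (4.7), fourth part -/
theorem prDade_TIres_on (h : PrimeDadeHyp Γ L K H A A0 W W1 W2) (hj : IsIrr W2 j) (hj0 : j ≠ cf1 W2) :
    χₖ j ∈ CFon K (insert 1 A) :=
  Pf.prDade_TIres_on h hj hj0

/-- (4.7), last part -/
theorem prDade_TIred_on (h : PrimeDadeHyp Γ L K H A A0 W W1 W2) (hj : IsIrr W2 j) (hj0 : j ≠ cf1 W2) :
    μ j ∈ CFon L (insert 1 A) :=
  Pf.prDade_TIred_on h hj hj0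

theorem prTIred_mem_seqIndD (h : PrimeDadeHyp Γ L K H A A0 W W1 W2) (hj : IsIrr W2 j)
    (hj0 : j ≠ cf1 W2) : μ j ∈ seqIndD K L H ⊥ :=
  Pf.prTIred_mem_seqIndD h hj hj0

/-- (4.8), second part -/
theorem prDade_TIsign_eq (h : PrimeTIHyp L K W W1 W2) (hi : IsIrr W1 i) (hj : IsIrr W2 j)
    (hk : IsIrr W2 k) (e : μ₂ i j 1 = μ₂ i k 1) : δ j = δ k :=
  Pf.prDade_TIsign_eq h hi hj hk e

/-- (4.8), first part -/
theorem prDade_sub_TIirr_on (h : PrimeDadeHyp Γ L K H A A0 W W1 W2) (hi : IsIrr W1 i)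
    (hj : IsIrr W2 j) (hk : IsIrr W2 k) (hj0 : j ≠ cf1 W2) (hk0 : k ≠ cf1 W2)
    (e : μ₂ i j 1 = μ₂ i k 1) : μ₂ i j - μ₂ i k ∈ CFon L A0 :=
  Pf.prDade_sub_TIirr_on h hi hj hk hj0 hk0 e

/-- (4.8), last part -/
theorem prDade_sub_TIirr (h : PrimeDadeHyp Γ L K H A A0 W W1 W2) (hi : IsIrr W1 i)
    (hj : IsIrr W2 j) (hk : IsIrr W2 k) (hj0 : j ≠ cf1 W2) (hk0 : k ≠ cf1 W2)
    (e : μ₂ i j 1 = μ₂ i k 1) : τ (μ₂ i j - μ₂ i k) = δ j • (η i j - η i k) :=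
  Pf.prDade_sub_TIirr h hi hj hk hj0 hk0 e

theorem prDade_sub_TIred (h : PrimeDadeHyp Γ L K H A A0 W W1 W2) (hj : IsIrr W2 j) (hk : IsIrr W2 k)
    (hj0 : j ≠ cf1 W2) (hk0 : k ≠ cf1 W2) (e : μ j 1 = μ k 1) :
    τ (μ j - μ k) = δ j • (∑ i ∈ Irr W1, η i j - ∑ i ∈ Irr W1, η i k) :=
  Pf.prDade_sub_TIred h hj hk hj0 hk0 e

theorem mem_uniformTIred : φ ∈ uniformTIred L W W1 W2 k ↔
    ∃ j, IsIrr W2 j ∧ j ≠ cf1 W2 ∧ μ j 1 = μ k 1 ∧ φ = μ j :=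
  Pf.mem_uniformTIred

/-- (4.9) -/
theorem uniform_prTIred_coherent (h : PrimeDadeHyp Γ L K H A A0 W W1 W2) (hk : IsIrr W2 k)
    (hk0 : k ≠ cf1 W2) :
    (PairwiseOrth L (uniformTIred L W W1 W2 k) ∧
      (∀ φ ∈ uniformTIred L W W1 W2 k, star φ ≠ φ ∧ star φ ∈ uniformTIred L W W1 W2 k) ∧
      ZspanOn (uniformTIred L W W1 W2 k) (sharp L) = ZspanOn (uniformTIred L W W1 W2 k) A) ∧
    ∃ τ1 : (G → ℂ) →+ (G → ℂ), (∀ j ∈ Irr W2, τ1 (μ j) = δ k • ∑ i ∈ Irr W1, η i j) ∧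
      CoherentWith L Γ (uniformTIred L W W1 W2 k) (sharp L) τ τ1 :=
  Pf.uniform_prTIred_coherent h hk hk0

/-- (4.10) -/
theorem prDade_sub2_TIirr (h : PrimeDadeHyp Γ L K H A A0 W W1 W2) (hi : IsIrr W1 i) (hj : IsIrr W2 j) :
    δ j • μ₂ i j - δ j • μ₂ (cf1 W1) j - μ₂ i (cf1 W2) + μ₂ (cf1 W1) (cf1 W2) ∈ CFon L A0 ∧
    τ (δ j • μ₂ i j - δ j • μ₂ (cf1 W1) j - μ₂ i (cf1 W2) + μ₂ (cf1 W1) (cf1 W2)) =
      η i j - η (cf1 W1) j - η i (cf1 W2) + η (cf1 W1) (cf1 W2) :=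
  Pf.prDade_sub2_TIirr h hi hj

end Cfsg.Agent.OO
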