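import Cfsg.Agent.Lib.OO.PF4
import Cfsg.Agent.Lib.OO.Pf.PF5_C

/-! # Interface: Peterfalvi section 5 (coherence) -/

set_option autoImplicit false
set_option linter.unusedSectionVars false
set_option linter.unusedVariables false

namespace Cfsg.Agent.OO

open Subgroup Cfsg.Agent.Coprime
open scoped Pointwise ComplexConjugate

universe u

variable {G : Type u} [Group G] [Finite G] {Γ L K H H0 M W W1 W2 : Subgroup G} {A A0 : Set G}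
  {φ ψ χ θ ξ β : G → ℂ} {S S1 S2 X Y : Finset (G → ℂ)}

/-! ### Sets of induced characters -/

theorem mem_IrrKerD : θ ∈ IrrKerD K H M ↔ IsIrr K θ ∧ M ≤ cfker K θ ∧ ¬ H ≤ cfker K θ :=
  Pf.mem_IrrKerD

theorem IrrKerD_irr (h : θ ∈ IrrKerD K H M) : IsIrr K θ :=
  Pf.IrrKerD_irr h

theorem IrrKerD_subset (K H M : Subgroup G) : IrrKerD K H M ⊆ Irr K :=
  Pf.IrrKerD_subset K H M

theorem Iirr_kerDS (K : Subgroup G) {H1 H2 M1 M2 : Subgroup G} (hM : M2 ≤ M1) (hH : H1 ≤ H2) :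
    IrrKerD K H1 M1 ⊆ IrrKerD K H2 M2 :=
  Pf.Iirr_kerDS K hM hH

theorem Iirr_kerDY (K H M : Subgroup G) : IrrKerD K (M ⊔ H) M = IrrKerD K H M :=
  Pf.Iirr_kerDY K H M

theorem mem_Iirr_ker1 : θ ∈ IrrKerD K K ⊥ ↔ IsIrr K θ ∧ θ ≠ cf1 K :=
  Pf.mem_Iirr_ker1

theorem IrrKerD_ne_cf1 (hH : H ≤ K) (h : θ ∈ IrrKerD K H M) : θ ≠ cf1 K :=
  Pf.IrrKerD_ne_cf1 hH h

theorem cfAut_mem_IrrKerD (u : ℂ ≃+* ℂ) (h : θ ∈ IrrKerD K H M) : cfAut u θ ∈ IrrKerD K H M :=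
  Pf.cfAut_mem_IrrKerD u h

theorem star_mem_IrrKerD (h : θ ∈ IrrKerD K H M) : star θ ∈ IrrKerD K H M :=
  Pf.star_mem_IrrKerD h

theorem cfConjg_mem_IrrKerD {g : G} (hK : g ∈ 𝐍(K)) (hH : g ∈ 𝐍(H)) (hM : g ∈ 𝐍(M))
    (h : θ ∈ IrrKerD K H M) : cfConjg g θ ∈ IrrKerD K H M :=
  Pf.cfConjg_mem_IrrKerD hK hH hM h

theorem sum_Iirr_kerD_square (hH : H ⊴ K) (hM : M ⊴ K) (hMH : M ≤ H) :
    ∑ θ ∈ IrrKerD K H M, θ 1 ^ 2 = H.relIndex K * ((M.relIndex H : ℂ) - 1) :=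
  Pf.sum_Iirr_kerD_square hH hM hMH

theorem seqIndP : φ ∈ seqInd K L X ↔ ∃ θ ∈ X, φ = cfInd L K θ :=
  Pf.seqIndP

theorem mem_seqIndD :
    φ ∈ seqIndD K L H M ↔ ∃ θ, IsIrr K θ ∧ M ≤ cfker K θ ∧ ¬ H ≤ cfker K θ ∧ φ = cfInd L K θ :=
  Pf.mem_seqIndD

theorem mem_seqIndT : φ ∈ seqIndT K L ↔ ∃ θ, IsIrr K θ ∧ φ = cfInd L K θ :=
  Pf.mem_seqIndT

theorem seqIndC1P : φ ∈ seqIndD K L K ⊥ ↔ ∃ θ, IsIrr K θ ∧ θ ≠ cf1 K ∧ φ = cfInd L K θ :=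
  Pf.seqIndC1P

theorem seqIndS (K L : Subgroup G) (h : X ⊆ Y) : seqInd K L X ⊆ seqInd K L Y :=
  Pf.seqIndS K L h

theorem seqIndDS (K L : Subgroup G) {H1 H2 M1 M2 : Subgroup G} (hM : M2 ≤ M1) (hH : H1 ≤ H2) :
    seqIndD K L H1 M1 ⊆ seqIndD K L H2 M2 :=
  Pf.seqIndDS K L hM hH

theorem seqInd_subT (K L H M : Subgroup G) : seqIndD K L H M ⊆ seqIndT K L :=
  Pf.seqInd_subT K L H M

theorem seqIndT_Ind1 (K L : Subgroup G) : cfInd L K (cf1 K) ∈ seqIndT K L :=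
  Pf.seqIndT_Ind1 K L

theorem seqIndDY (K L H M : Subgroup G) : seqIndD K L (M ⊔ H) M = seqIndD K L H M :=
  Pf.seqIndDY K L H M

theorem mem_seqInd (hK : K ⊴ L) (hH : H ⊴ L) (hM : M ⊴ L) (hθ : IsIrr K θ) :
    cfInd L K θ ∈ seqIndD K L H M ↔ θ ∈ IrrKerD K H M :=
  Pf.mem_seqInd hK hH hM hθ

/-- membership in terms of the kernel in `L` -/
theorem mem_seqIndD_iff_cfker (hK : K ⊴ L) (hH : H ⊴ L) (hM : M ⊴ L) (hHK : H ≤ K) (hMK : M ≤ K) :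
    φ ∈ seqIndD K L H M ↔ φ ∈ seqIndT K L ∧ M ≤ cfker L φ ∧ ¬ H ≤ cfker L φ :=
  Pf.mem_seqIndD_iff_cfker hK hH hM hHK hMK

open Classical in
theorem seqIndC1_rem (hK : K ⊴ L) : seqIndD K L K ⊥ = (seqIndT K L).erase (cfInd L K (cf1 K)) :=
  Pf.seqIndC1_rem hK

theorem cfAut_seqIndT (u : ℂ ≃+* ℂ) (h : φ ∈ seqIndT K L) : cfAut u φ ∈ seqIndT K L :=
  Pf.cfAut_seqIndT u h

theorem cfAut_seqInd (u : ℂ ≃+* ℂ) (h : φ ∈ seqIndD K L H M) : cfAut u φ ∈ seqIndD K L H M :=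
  Pf.cfAut_seqInd u h

theorem star_seqIndT (h : φ ∈ seqIndT K L) : star φ ∈ seqIndT K L :=
  Pf.star_seqIndT h

theorem star_seqInd (h : φ ∈ seqIndD K L H M) : star φ ∈ seqIndD K L H M :=
  Pf.star_seqInd h

theorem seqInd_conjC_subset (K L : Subgroup G) {H1 H2 M1 M2 : Subgroup G} (hM : M2 ≤ M1)
    (hH : H1 ≤ H2) : ConjSubset (seqIndD K L H1 M1) (seqIndD K L H2 M2) :=
  Pf.seqInd_conjC_subset K L hM hH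

theorem seqInd_conjC_subset1 (K L M : Subgroup G) (h : H ≤ H0) :
    ConjSubset (seqIndD K L H M) (seqIndD K L H0 ⊥) :=
  Pf.seqInd_conjC_subset1 K L M h

/- The next lemmas are stated for members and subsets of `seqIndT K L`; use `seqInd_subT`. -/

theorem seqInd_on (hK : K ⊴ L) (h : φ ∈ seqIndT K L) : φ ∈ CFon L K :=
  Pf.seqInd_on hK h

theorem seqInd_mem_CF (h : φ ∈ seqIndT K L) : φ ∈ CF L :=
  Pf.seqInd_mem_CF h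

theorem seqInd_char (hK : K ≤ L) (h : φ ∈ seqIndT K L) : IsChar L φ :=
  Pf.seqInd_char hK h

theorem seqInd_vcharW (hK : K ≤ L) (h : φ ∈ seqIndT K L) : φ ∈ ZIrr L :=
  Pf.seqInd_vcharW hK h

theorem seqInd_neq0 (hK : K ≤ L) (h : φ ∈ seqIndT K L) : φ ≠ 0 :=
  Pf.seqInd_neq0 hK h

theorem seqInd1_neq0 (hK : K ≤ L) (h : φ ∈ seqIndT K L) : φ 1 ≠ 0 :=
  Pf.seqInd1_neq0 hK h

theorem seqInd1_gt0 (hK : K ≤ L) (h : φ ∈ seqIndT K L) : 0 < (φ 1).re :=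
  Pf.seqInd1_gt0 hK h

theorem cfnorm_seqInd_gt0 (hK : K ≤ L) (h : φ ∈ seqIndT K L) : 0 < cfnorm L φ :=
  Pf.cfnorm_seqInd_gt0 hK h

theorem dvd_index_seqInd1 (hK : K ≤ L) (h : φ ∈ seqIndT K L) :
    ∃ a : ℕ, 0 < a ∧ φ 1 = a * K.relIndex L :=
  Pf.dvd_index_seqInd1 hK h

theorem seqInd_ortho (hK : K ⊴ L) (hφ : φ ∈ seqIndT K L) (hψ : ψ ∈ seqIndT K L) (h : φ ≠ ψ) :
    ⟪φ, ψ⟫[L] = 0 :=
  Pf.seqInd_ortho hK hφ hψ h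

theorem seqInd_orthogonal (hK : K ⊴ L) (hS : S ⊆ seqIndT K L) : PairwiseOrth L S :=
  Pf.seqInd_orthogonal hK hS

theorem zchar_seqInd_vchar (hK : K ≤ L) (hS : S ⊆ seqIndT K L) : Zspan S ≤ ZIrr L :=
  Pf.zchar_seqInd_vchar hK hS

theorem zcharD1_seqInd (hK : K ⊴ L) (hS : S ⊆ seqIndT K L) :
    ZspanOn S (sharp L) = ZspanOn S (sharp K) :=
  Pf.zcharD1_seqInd hK hS

theorem zcharD1_seqInd_on (hK : K ⊴ L) (hS : S ⊆ seqIndT K L) (h : φ ∈ ZspanOn S (sharp L)) :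
    φ ∈ CFon L (sharp K) :=
  Pf.zcharD1_seqInd_on hK hS h

theorem zcharD1_seqInd_Dade (h1 : (1 : G) ∉ A) (hS : ∀ φ ∈ S, φ ∈ CFon L (insert 1 A)) :
    ZspanOn S (sharp L) = ZspanOn S A :=
  Pf.zcharD1_seqInd_Dade h1 hS

/-- the Dade isometry on `ℤ[S, L^#]` when the elements of `S` have support in `A ∪ {1}` -/
theorem Dade_isometryTo_zchar (h : DadeHyp Γ L A) (hS : ∀ φ ∈ S, φ ∈ ZIrr L)
    (hA : ∀ φ ∈ S, φ ∈ suppOn (insert 1 A)) :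
    IsometryTo L Γ (ZspanOn S (sharp L)) (ZIrrOn Γ (sharp Γ)) (Dade Γ L A) :=
  Pf.Dade_isometryTo_zchar h hS hA

theorem sub_seqInd_zchar (hS : ∀ φ ∈ S, φ ∈ CF L) (hφ : φ ∈ S) (hψ : ψ ∈ S) {a : ℂ} (ha : IsCint a)
    (h1 : φ 1 = a * ψ 1) : φ - a • ψ ∈ ZspanOn S (sharp L) :=
  Pf.sub_seqInd_zchar hS hφ hψ ha h1

theorem sub_seqInd_on (hK : K ⊴ L) (hφ : φ ∈ seqIndT K L) (hψ : ψ ∈ seqIndT K L) {a : ℂ}
    (h1 : φ 1 = a * ψ 1) : φ - a • ψ ∈ CFon L (sharp K) :=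
  Pf.sub_seqInd_on hK hφ hψ h1

theorem cfInd1_sub_lin_on (hK : K ⊴ L) (hξ : ξ ∈ seqIndT K L) (h1 : ξ 1 = K.relIndex L) :
    cfInd L K (cf1 K) - ξ ∈ CFon L (sharp K) :=
  Pf.cfInd1_sub_lin_on hK hξ h1

theorem cfInd1_sub_lin_vchar (hK : K ⊴ L) (hξ : ξ ∈ seqIndT K L) (h1 : ξ 1 = K.relIndex L) :
    cfInd L K (cf1 K) - ξ ∈ ZIrrOn L (sharp K) :=
  Pf.cfInd1_sub_lin_vchar hK hξ h1

theorem seqInd_sub_lin_vchar (hK : K ⊴ L) (hS : S ⊆ seqIndT K L) (hξ : ξ ∈ S)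
    (h1 : ξ 1 = K.relIndex L) (hφ : φ ∈ S) :
    φ - (φ 1 / K.relIndex L) • ξ ∈ ZspanOn S (sharp K) :=
  Pf.seqInd_sub_lin_vchar hK hS hξ h1 hφ

theorem seqInd_sub_aut_zchar (hK : K ⊴ L) (u : ℂ ≃+* ℂ) (hφ : φ ∈ seqIndD K L H M) :
    φ - cfAut u φ ∈ ZspanOn (seqIndD K L H M) (sharp K) :=
  Pf.seqInd_sub_aut_zchar hK u hφ

theorem seqInd_sub_conjC_on (hK : K ⊴ L) (hφ : φ ∈ seqIndT K L) : φ - star φ ∈ CFon L (sharp K) :=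
  Pf.seqInd_sub_conjC_on hK hφ

/-- class functions of `L` with support in `K` are spanned by the induced characters -/
theorem span_seqIndT (hK : K ⊴ L) :
    Submodule.span ℂ (seqIndT K L : Set (G → ℂ)) = CFon L K :=
  Pf.span_seqIndT hK

open Classical in
theorem size_irr_subseq_seqInd (hK : K ⊴ L) (hS : S ⊆ seqIndT K L) (hirr : ∀ φ ∈ S, IsIrr L φ) :
    K.relIndex L * S.card = ((Irr K).filter fun θ => cfInd L K θ ∈ S).card :=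
  Pf.size_irr_subseq_seqInd hK hS hirr

open Classical in
/-- summation over a set of induced characters, cf. (1.5)(d) -/
theorem sum_seqInd_smul (hK : K ⊴ L) (hS : S ⊆ seqIndT K L) :
    cfRes K (∑ φ ∈ S, (φ 1 / ⟪φ, φ⟫[L]) • φ) =
      (K.relIndex L : ℂ) • ∑ θ ∈ (Irr K).filter fun θ => cfInd L K θ ∈ S, θ 1 • θ :=
  Pf.sum_seqInd_smul hK hS

open Classical in
theorem sum_seqInd_square (hK : K ⊴ L) (hS : S ⊆ seqIndT K L) :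
    ∑ φ ∈ S, φ 1 ^ 2 / ⟪φ, φ⟫[L] =
      K.relIndex L * ∑ θ ∈ (Irr K).filter fun θ => cfInd L K θ ∈ S, θ 1 ^ 2 :=
  Pf.sum_seqInd_square hK hS

theorem seqInd_sub (K L M : Subgroup G) (hH : H ≤ K) : seqIndD K L H M ⊆ seqIndD K L K ⊥ :=
  Pf.seqInd_sub K L M hH

theorem seqInd_ortho_Ind1 (hK : K ⊴ L) (hH : H ≤ K) (hφ : φ ∈ seqIndD K L H M) :
    ⟪φ, cfInd L K (cf1 K)⟫[L] = 0 :=
  Pf.seqInd_ortho_Ind1 hK hH hφ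

theorem seqInd_ortho_cfuni (hK : K ⊴ L) (hH : H ≤ K) (hφ : φ ∈ seqIndD K L H M) :
    ⟪φ, cf1 K⟫[L] = 0 :=
  Pf.seqInd_ortho_cfuni hK hH hφ

theorem seqInd_ortho_1 (hK : K ≤ L) (hH : H ≤ K) (hφ : φ ∈ seqIndD K L H M) :
    ⟪φ, cf1 L⟫[L] = 0 :=
  Pf.seqInd_ortho_1 hK hH hφ

theorem sum_seqIndD_square (hK : K ⊴ L) (hHK : H ≤ K) (hH : H ⊴ L) (hM : M ⊴ L) (hMH : M ≤ H) :
    ∑ φ ∈ seqIndD K L H M, φ 1 ^ 2 / ⟪φ, φ⟫[L] = H.relIndex L * ((M.relIndex H : ℂ) - 1) :=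
  Pf.sum_seqIndD_square hK hHK hH hM hMH

/-- real form of `sum_seqIndD_square` -/
theorem sum_seqIndD_square_re (hK : K ⊴ L) (hHK : H ≤ K) (hH : H ⊴ L) (hM : M ⊴ L) (hMH : M ≤ H) :
    ∑ φ ∈ seqIndD K L H M, (φ 1).re ^ 2 / cfnorm L φ = H.relIndex L * ((M.relIndex H : ℝ) - 1) :=
  Pf.sum_seqIndD_square_re hK hHK hH hM hMH

theorem sum_seqIndD (hK : K ⊴ L) (hHK : H ≤ K) (hH : H ⊴ L) (hM : M ⊴ L) (hMH : M ≤ H) :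
    ∑ φ ∈ seqIndD K L H M, (φ 1 / ⟪φ, φ⟫[L]) • φ =
      (M.relIndex L : ℂ) • cf1 M - (H.relIndex L : ℂ) • cf1 H :=
  Pf.sum_seqIndD hK hHK hH hM hMH

theorem sum_seqIndC1 (hK : K ⊴ L) : ∑ φ ∈ seqIndD K L K ⊥, (φ 1 / ⟪φ, φ⟫[L]) • φ =
    cfReg L - (K.relIndex L : ℂ) • cf1 K :=
  Pf.sum_seqIndC1 hK

theorem sum_seqIndC1_square (hK : K ⊴ L) :
    ∑ φ ∈ seqIndD K L K ⊥, φ 1 ^ 2 / ⟪φ, φ⟫[L] = K.relIndex L * ((♯K : ℂ) - 1) :=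
  Pf.sum_seqIndC1_square hK

theorem seqIndD_nonempty (L : Subgroup G) (hM : M ⊴ K) (h : ¬ H ≤ M) :
    (seqIndD K L H M).Nonempty :=
  Pf.seqIndD_nonempty L hM h

theorem seqInd_conjC_ortho (hodd : Odd ♯L) (hK : K ⊴ L) (hH : H ≤ K) (hφ : φ ∈ seqIndD K L H M) :
    ⟪φ, star φ⟫[L] = 0 :=
  Pf.seqInd_conjC_ortho hodd hK hH hφ

theorem seqInd_conjC_neq (hodd : Odd ♯L) (hK : K ⊴ L) (hH : H ≤ K) (hφ : φ ∈ seqIndD K L H M) :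
    star φ ≠ φ :=
  Pf.seqInd_conjC_neq hodd hK hH hφ

theorem seqInd_nontrivial (hodd : Odd ♯L) (hK : K ⊴ L) (hH : H ≤ K) (hφ : φ ∈ seqIndD K L H M) :
    1 < (seqIndD K L H M).card :=
  Pf.seqInd_nontrivial hodd hK hH hφ

/-! ### Coherence -/

variable {τ : (G → ℂ) →ₗ[ℂ] (G → ℂ)} {ν τ1 τ2 : (G → ℂ) →+ (G → ℂ)} {R : (G → ℂ) → Finset (G → ℂ)}

-- `ConjSubset.refl/trans/union/sdiff/filter/insert_pair`, `CoherentWith.*`, `Coherent.congr`,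
-- `Subcoherent.*` and `dualIso` are in `Pf/PF5_B`

open Classical in
theorem conjC_pair_subset (h : ∀ φ ∈ S, star φ ∈ S) (hχ : χ ∈ S) : ConjSubset {χ, star χ} S :=
  Pf.conjC_pair_subset h hχ

/-- additive maps commute with integral scalars -/
theorem map_Cint_smul (ν : (G → ℂ) →+ (G → ℂ)) {a : ℂ} (ha : IsCint a) (φ : G → ℂ) :
    ν (a • φ) = a • ν φ := Pf.map_Cint_smul ν ha φ

theorem subgen_coherent_with (hS : ∀ φ ∈ S1, φ ∈ Zspan S2) (h : CoherentWith L Γ S2 A τ ν) :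
    CoherentWith L Γ S1 A τ ν :=
  Pf.subgen_coherent_with hS h

theorem subgen_coherent (hS : ∀ φ ∈ S1, φ ∈ Zspan S2) (h : Coherent L Γ S2 A τ) :
    Coherent L Γ S1 A τ :=
  Pf.subgen_coherent hS h

theorem subset_coherent_with (hS : S1 ⊆ S2) (h : CoherentWith L Γ S2 A τ ν) :
    CoherentWith L Γ S1 A τ ν :=
  Pf.subset_coherent_with hS h

theorem subset_coherent (hS : S1 ⊆ S2) (h : Coherent L Γ S2 A τ) : Coherent L Γ S1 A τ :=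
  Pf.subset_coherent hS h

theorem nil_coherent (L Γ : Subgroup G) (A : Set G) (τ : (G → ℂ) →ₗ[ℂ] (G → ℂ)) :
    Coherent L Γ ∅ A τ :=
  Pf.nil_coherent L Γ A τ

theorem subset_subcoherent (h : Subcoherent L Γ S τ R) (hS : ConjSubset S1 S) :
    Subcoherent L Γ S1 τ R :=
  Pf.subset_subcoherent h hS

theorem subset_ortho_subcoherent (h : Subcoherent L Γ S τ R) (hS : S1 ⊆ S) (hχ : χ ∈ S) (hn : χ ∉ S1)
    (hφ : φ ∈ Zspan S1) : ⟪φ, χ⟫[L] = 0 :=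
  Pf.subset_ortho_subcoherent h hS hχ hn hφ

theorem dual_coherence (h : Subcoherent L Γ S τ R) (hν : CoherentWith L Γ S (sharp L) τ ν)
    (h2 : S.card ≤ 2) : CoherentWith L Γ S (sharp L) τ (dualIso ν) :=
  Pf.dual_coherence h hν h2

theorem coherent_seqInd_conjCirr (h : Subcoherent L Γ S τ R) (hν : CoherentWith L Γ S (sharp L) τ ν)
    (hχ : χ ∈ S) (hirr : IsIrr L χ) :
    IsDirr Γ (ν χ) ∧ IsDirr Γ (ν (star χ)) ∧ ⟪ν χ, ν (star χ)⟫[Γ] = 0 ∧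
      χ - star χ ∈ ZspanOn S (sharp L) ∧ ν χ 1 = ν (star χ) 1 :=
  Pf.coherent_seqInd_conjCirr h hν hχ hirr

theorem pivot_coherence (h : Subcoherent L Γ S τ R) {η1 ζ1 : G → ℂ} (hη : η1 ∈ S) (hζ : ζ1 ∈ ZIrr Γ)
    (ha : ∀ η ∈ S, η ≠ η1 → ∃ a : ℂ, IsCint a ∧ η 1 = a * η1 1 ∧
      ⟪τ (η - a • η1), ζ1⟫[Γ] = -a * ⟪η1, η1⟫[L]) (hn : ⟪ζ1, ζ1⟫[Γ] = ⟪η1, η1⟫[L]) :
    Coherent L Γ S (sharp L) τ :=
  Pf.pivot_coherence h hη hζ ha hn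

/-- (5.3)(a) -/
theorem irr_subcoherent (hirr : ∀ χ ∈ S, IsIrr L χ) (hc : ∀ χ ∈ S, star χ ∈ S)
    (hr : ∀ χ ∈ S, star χ ≠ χ) (hτ : IsometryTo L Γ (ZspanOn S (sharp L)) (ZIrrOn Γ (sharp Γ)) τ) :
    ∃ R, Subcoherent L Γ S τ R ∧ ∀ χ ∈ S, (R χ).card = 2 :=
  Pf.irr_subcoherent hirr hc hr hτ

open Classical in
/-- (5.3)(b) -/
theorem prDade_subcoherent (h : PrimeDadeHyp Γ L K H A A0 W W1 W2)
    (hS : ConjSubset S (seqIndD K L H ⊥)) (hr : ∀ χ ∈ S, star χ ≠ χ) :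
    ∃ R, Subcoherent L Γ S (Dade Γ L A0) R ∧
      (∀ φ ∈ S, IsIrr L φ → ∀ α ∈ R φ, ∀ i ∈ Irr W1, ∀ j ∈ Irr W2,
        ⟪α, cycTIeta Γ W W1 W2 i j⟫[Γ] = 0) ∧
      ∀ j ∈ Irr W2, j ≠ cf1 W2 → R (prTIred L W W1 W2 j) =
        (Irr W1).image (fun i => prTIsign L W W1 W2 j • cycTIeta Γ W W1 W2 i j) ∪
        (Irr W1).image (fun i => -(prTIsign L W W1 W2 j • cycTIeta Γ W W1 W2 i (star j))) :=
  Pf.prDade_subcoherent h hS hr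

theorem subcoherent_split (h : Subcoherent L Γ S τ R) (hχ : χ ∈ S) (hβ : β ∈ ZIrr Γ) :
    ∃ X ∈ Zspan (R χ), ∃ Y ∈ ZIrr Γ, β = X - Y ∧ ⟪X, Y⟫[Γ] = 0 ∧ ∀ α ∈ R χ, ⟪Y, α⟫[Γ] = 0 :=
  Pf.subcoherent_split h hχ hβ

/-- (5.4); `β = X - Y` stands for `τ₁ (χ - ψ)` -/
theorem subcoherent_norm (h : Subcoherent L Γ S τ R) (hχ : χ ∈ S) {X Y : G → ℂ}
    (hβ : X - Y ∈ ZIrr Γ) (hX : X ∈ CF Γ) (hβn : cfnorm Γ (X - Y) = cfnorm L χ + cfnorm L ψ)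
    (hβχ : ⟪X - Y, τ (χ - star χ)⟫[Γ] = ⟪χ, χ⟫[L]) (hXY : ⟪X, Y⟫[Γ] = 0)
    (hY : ∀ α ∈ R χ, ⟪Y, α⟫[Γ] = 0) :
    cfnorm L χ ≤ cfnorm Γ X ∧ (cfnorm L ψ ≤ cfnorm Γ Y →
      cfnorm Γ X = cfnorm L χ ∧ cfnorm Γ Y = cfnorm L ψ ∧ ∃ E ⊆ R χ, X = ∑ α ∈ E, α) :=
  Pf.subcoherent_norm h hχ hβ hX hβn hβχ hXY hY

/-- (5.4) when `χ - ψ ∈ ℤ[S, L^#]` -/
theorem subcoherent_norm_tau (h : Subcoherent L Γ S τ R) (hχ : χ ∈ S)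
    (hψ : χ - ψ ∈ ZspanOn S (sharp L)) (h1 : ⟪χ, ψ⟫[L] = 0) (h2 : ⟪star χ, ψ⟫[L] = 0) {X Y : G → ℂ}
    (hβ : τ (χ - ψ) = X - Y) (hX : X ∈ CF Γ) (hXY : ⟪X, Y⟫[Γ] = 0) (hY : ∀ α ∈ R χ, ⟪Y, α⟫[Γ] = 0) :
    cfnorm L χ ≤ cfnorm Γ X ∧ (cfnorm L ψ ≤ cfnorm Γ Y →
      cfnorm Γ X = cfnorm L χ ∧ cfnorm Γ Y = cfnorm L ψ ∧ ∃ E ⊆ R χ, X = ∑ α ∈ E, α) :=
  Pf.subcoherent_norm_tau h hχ hψ h1 h2 hβ hX hXY hY

/-- (5.5); `β` stands for `τ₁ χ` -/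
theorem coherent_sum_subseq (h : Subcoherent L Γ S τ R) (hχ : χ ∈ S) (hβ : β ∈ ZIrr Γ)
    (hβn : cfnorm Γ β = cfnorm L χ) (hβχ : ⟪β, τ (χ - star χ)⟫[Γ] = ⟪χ, χ⟫[L]) :
    ∃ E ⊆ R χ, β = ∑ α ∈ E, α :=
  Pf.coherent_sum_subseq h hχ hβ hβn hβχ

theorem mem_coherent_sum_subseq (h : Subcoherent L Γ S τ R) (hS : ConjSubset S1 S)
    (h1 : CoherentWith L Γ S1 (sharp L) τ τ1) (hχ : χ ∈ S1) : ∃ E ⊆ R χ, τ1 χ = ∑ α ∈ E, α :=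
  Pf.mem_coherent_sum_subseq h hS h1 hχ

theorem coherent_ortho_supp (h : Subcoherent L Γ S τ R) (hS : ConjSubset S1 S)
    (h1 : CoherentWith L Γ S1 (sharp L) τ τ1) (hχ : χ ∈ S) (hn : χ ∉ S1) (hφ : φ ∈ Zspan S1)
    {α : G → ℂ} (hα : α ∈ R χ) : ⟪τ1 φ, α⟫[Γ] = 0 :=
  Pf.coherent_ortho_supp h hS h1 hχ hn hφ hα

theorem coherent_ortho (h : Subcoherent L Γ S τ R) (hS1 : ConjSubset S1 S)
    (h1 : CoherentWith L Γ S1 (sharp L) τ τ1) (hS2 : ConjSubset S2 S)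
    (h2 : CoherentWith L Γ S2 (sharp L) τ τ2) (hd : Disjoint S1 S2) (hφ : φ ∈ Zspan S1)
    (hψ : ψ ∈ Zspan S2) : ⟪τ1 φ, τ2 ψ⟫[Γ] = 0 :=
  Pf.coherent_ortho h hS1 h1 hS2 h2 hd hφ hψ

open Classical in
theorem bridge_coherent (h : Subcoherent L Γ S τ R) (hS1 : ConjSubset S1 S)
    (h1 : CoherentWith L Γ S1 (sharp L) τ τ1) (hS2 : ConjSubset S2 S)
    (h2 : CoherentWith L Γ S2 (sharp L) τ τ2) (hd : Disjoint S1 S2) (hχ : χ ∈ S1) (hφ : φ ∈ Zspan S2)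
    (e1 : χ 1 = φ 1) (e : τ (χ - φ) = τ1 χ - τ2 φ) : Coherent L Γ (S1 ∪ S2) (sharp L) τ :=
  Pf.bridge_coherent h hS1 h1 hS2 h2 hd hχ hφ e1 e

open Classical in
/-- essentially (5.6.3), reused in (9.11.8) -/
theorem extend_coherent_with (h : Subcoherent L Γ S τ R) (hS : ConjSubset S1 S)
    (h1 : CoherentWith L Γ S1 (sharp L) τ τ1) (hφ : φ ∈ S1) (hχ : χ ∈ S) (hn : χ ∉ S1) {a : ℂ}
    {X : G → ℂ} (ha : IsCint a) (e1 : χ 1 = a * φ 1) (hX : ⟪X, a • τ1 φ⟫[Γ] = 0)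
    (e : τ (χ - a • φ) = X - a • τ1 φ) :
    Coherent L Γ (insert χ (insert (star χ) S1)) (sharp L) τ :=
  Pf.extend_coherent_with h hS h1 hφ hχ hn ha e1 hX e

open Classical in
/-- (5.6) -/
theorem extend_coherent (h : Subcoherent L Γ S τ R) (hS : ConjSubset S1 S) (hξ : ξ ∈ S1) (hχ : χ ∈ S)
    (hn : χ ∉ S1) (ha : Coherent L Γ S1 (sharp L) τ) (hb : ∃ a : ℂ, IsCint a ∧ χ 1 = a * ξ 1)
    (hc : 2 * (χ 1).re * (ξ 1).re < ∑ φ ∈ S1, (φ 1).re ^ 2 / cfnorm L φ) :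
    Coherent L Γ (insert χ (insert (star χ) S1)) (sharp L) τ :=
  Pf.extend_coherent h hS hξ hχ hn ha hb hc

/-- (5.7) -/
theorem uniform_degree_coherence (h : Subcoherent L Γ S τ R) (h1 : ∀ φ ∈ S, ∀ ψ ∈ S, φ 1 = ψ 1) :
    Coherent L Γ S (sharp L) τ :=
  Pf.uniform_degree_coherence h h1

theorem pair_degree_coherence (h : Subcoherent L Γ S τ R) (hφ : φ ∈ S) (hψ : ψ ∈ S) (h1 : φ 1 = ψ 1) :
    ∃ S1, φ ∈ S1 ∧ ψ ∈ S1 ∧ ConjSubset S1 S ∧ Coherent L Γ S1 (sharp L) τ :=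
  Pf.pair_degree_coherence h hφ hψ h1

/-- the images of the irreducible members of a coherent set are orthogonal to the `η_{ij}` -/
theorem coherent_prDade_ortho_cycTIiso (h : PrimeDadeHyp Γ L K H A A0 W W1 W2)
    (hS : ConjSubset S (seqIndD K L H ⊥)) (hr : ∀ χ ∈ S, star χ ≠ χ)
    (h1 : CoherentWith L Γ S (sharp L) (Dade Γ L A0) τ1) (hχ : χ ∈ S) (hirr : IsIrr L χ) {i j : G → ℂ}
    (hi : IsIrr W1 i) (hj : IsIrr W2 j) : ⟪τ1 χ, cycTIeta Γ W W1 W2 i j⟫[Γ] = 0 :=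
  Pf.coherent_prDade_ortho_cycTIiso h hS hr h1 hχ hirr hi hj

/-- (5.8) -/
theorem coherent_prDade_TIred (h : PrimeDadeHyp Γ L K H A A0 W W1 W2)
    (hS : ConjSubset S (seqIndD K L H ⊥)) (hr : ∀ χ ∈ S, star χ ≠ χ) (hχ : χ ∈ S) (hirr : IsIrr L χ)
    {k : G → ℂ} (hk : IsIrr W2 k) (hμ : prTIred L W W1 W2 k ∈ S)
    (h1 : CoherentWith L Γ S (sharp L) (Dade Γ L A0) τ1) :
    τ1 (prTIred L W W1 W2 k) = prTIsign L W W1 W2 k • ∑ i ∈ Irr W1, cycTIeta Γ W W1 W2 i k ∨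
    (τ1 (prTIred L W W1 W2 k) = -prTIsign L W W1 W2 k • ∑ i ∈ Irr W1, cycTIeta Γ W W1 W2 i (star k) ∧
      ∀ l, IsIrr W2 l → prTIred L W W1 W2 l ∈ S →
        prTIred L W W1 W2 l 1 = prTIred L W W1 W2 k 1 → l = k ∨ l = star k) :=
  Pf.coherent_prDade_TIred h hS hr hχ hirr hk hμ h1

/-- (5.9)(a) -/
theorem cfAut_Dade_coherent (u : ℂ ≃+* ℂ) (h : DadeHyp Γ L A)
    (h1 : CoherentWith L Γ S (sharp L) (Dade Γ L A) τ1) (hS : ∀ φ ∈ S, φ ∈ CF L)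
    (hu : ∀ φ ∈ S, cfAut u φ ∈ S) (hχ : χ ∈ S) (hirr : IsIrr L χ) (hψ : ψ ∈ S) (hirr' : IsIrr L ψ)
    (hne : ψ ≠ χ) : cfAut u (τ1 χ) = τ1 (cfAut u χ) :=
  Pf.cfAut_Dade_coherent u h h1 hS hu hχ hirr hψ hirr' hne

theorem star_Dade_coherent (h : DadeHyp Γ L A) (h1 : CoherentWith L Γ S (sharp L) (Dade Γ L A) τ1)
    (hS : ∀ φ ∈ S, φ ∈ CF L) (hu : ∀ φ ∈ S, star φ ∈ S) (hχ : χ ∈ S) (hirr : IsIrr L χ)
    (hne : star χ ≠ χ) : star (τ1 χ) = τ1 (star χ) :=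
  Pf.star_Dade_coherent h h1 hS hu hχ hirr hne

theorem cfConjC_Dade_coherent (h : DadeHyp Γ L A)
    (h1 : CoherentWith L Γ (seqIndD K L H M) (sharp L) (Dade Γ L A) τ1) (hodd : Odd ♯L) (hK : K ⊴ L)
    (hH : H ≤ K) (hirr : IsIrr L χ) (hχ : χ ∈ seqIndD K L H M) : star (τ1 χ) = τ1 (star χ) :=
  Pf.cfConjC_Dade_coherent h h1 hodd hK hH hirr hχ

/-- (5.9)(b) -/
theorem Dade_irr_sub_conjC (h : DadeHyp Γ L A) (hirr : IsIrr L χ) (hA : χ ∈ suppOn (insert 1 A)) :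
    ∃ ξ, IsIrr Γ ξ ∧ Dade Γ L A (χ - star χ) = ξ - star ξ :=
  Pf.Dade_irr_sub_conjC h hirr hA

end Cfsg.Agent.OO
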