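import Cfsg.Agent.Lib.OO.PF6Defs
import Cfsg.Agent.Lib.OO.Pf.PF6_C
import Cfsg.Agent.Lib.OO.Pf.PF6_T

/-! # Interface: Peterfalvi section 6 (coherence theorems) -/

set_option autoImplicit false
set_option linter.unusedSectionVars false
set_option linter.unusedVariables false

namespace Cfsg.Agent.OO

open Subgroup Cfsg.Agent.Coprime
open scoped Pointwise ComplexConjugate

universe u

variable {G : Type u} [Group G] [Finite G] {Γ K L M : Subgroup G}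
  {τ : (G → ℂ) →ₗ[ℂ] (G → ℂ)} {R : (G → ℂ) → Finset (G → ℂ)}

theorem exists_linInd (hK : K ≤ L) (hs : Sol K) (hM : M ⊴ K) (hlt : M ≠ K) :
    ∃ φ ∈ seqIndD K L K M, φ 1 = K.relIndex L :=
  Pf.exists_linInd hK hs hM hlt

/-- (6.2); the hypothesis `D / B ≤ Z(C / B)` is `⁅D, C⁆ ≤ B` -/
theorem coherent_seqIndD_bound (h : CohHyp Γ K L τ R) {A B C D : Subgroup G} (hA : A ⊴ L)
    (hAK : A < K) (hDC : D ≤ C) (hCK : C ≤ K) (hZ : ⁅D, C⁆ ≤ B)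
    (hc : Coherent L Γ (seqIndD K L K A) (sharp L) τ) :
    Coherent L Γ (seqIndD K L K B) (sharp L) τ ∨
      (A.relIndex K : ℝ) - 1 ≤ 2 * C.relIndex L * √(D.relIndex C) :=
  Pf.coherent_seqIndD_bound h hA hAK hDC hCK hZ hc

/-- (6.3) -/
theorem bounded_seqIndD_coherence (h : CohHyp Γ K L τ R) {H H1 : Subgroup G} (hM : M ⊴ L) (hH : H ⊴ L)
    (hH1 : H1 ⊴ L) (hMH1 : M ≤ H1) (hH1H : H1 ≤ H) (hHK : H ≤ K) (ha : Nil (H ⁒ M))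
    (hb : Coherent L Γ (seqIndD K L K H1) (sharp L) τ) (hc : 4 * K.relIndex L ^ 2 + 1 < H1.relIndex H) :
    Coherent L Γ (seqIndD K L K M) (sharp L) τ :=
  Pf.bounded_seqIndD_coherence h hM hH hH1 hMH1 hH1H hHK ha hb hc

/-- (6.5) -/
theorem non_coherent_chief (h : CohHyp Γ K L τ R) (hF : OddFrobQuo K L M) :
    Coherent L Γ (seqIndD K L K M) (sharp L) τ ∨
      ((IsChiefIn L (der K ⊔ M) K ∧ (der K ⊔ M).relIndex K ≤ 4 * K.relIndex L ^ 2 + 1) ∧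
        ∃ p : ℕ, p.Prime ∧ IsPGroup p (K ⁒ M) ∧ ¬ der K ≤ M ∧ ¬ K.relIndex L ∣ p - 1) :=
  Pf.non_coherent_chief h hF

/-- (6.6) -/
theorem seqIndD_irr_coherence (h : CohHyp Γ K L τ R) (hF : OddFrobQuo K L ⊥) {Z : Subgroup G}
    (hZ : Z ⊴ L) (hZ1 : Z ≠ ⊥) (hZK : Z ≤ Zc K) (hirr : ∀ χ ∈ seqIndD K L Z ⊥, IsIrr L χ) :
    (∀ χ, χ ∈ seqIndD K L Z ⊥ ↔ IsIrr L χ ∧ ¬ Z ≤ cfker L χ) ∧
      Coherent L Γ (seqIndD K L Z ⊥) (sharp L) τ :=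
  Pf.seqIndD_irr_coherence h hF hZ hZ1 hZK hirr

/-- (6.7) -/
theorem constant_irr_mod_TI_Sylow {Z P : Subgroup G} {p : ℕ} (hp : p.Prime) (hP : Syl p P Γ)
    (hodd : Odd ♯L) (hTI : NormedTI (sharp P) Γ L) (hZ : Z ⊴ L) (hZ1 : Z ≠ ⊥) (hZP : Z ≤ Zc P)
    (hC : ∀ x ∈ sharp Z, ∀ y ∈ sharp Z, ♯(L ⊓ 𝐂[x]) = ♯(L ⊓ 𝐂[y])) {φ : G → ℂ} (hφ : IsIrr Γ φ)
    (hc : ∀ x ∈ sharp Z, ∀ y ∈ sharp Z, φ x = φ y) {x : G} (hx : x ∈ sharp Z) :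
    IsCint (φ x) ∧ EqCmod ♯P (φ x) (φ 1) :=
  Pf.constant_irr_mod_TI_Sylow hp hP hodd hTI hZ hZ1 hZP hC hφ hc hx

/-- (6.8) -/
theorem Sibley_coherence {H W1 : Subgroup G} (hodd : Odd ♯L) (hnil : Nil H)
    (hTI : NormedTI (sharp H) Γ L)
    (hc : IsFrob L H W1 ∨ ∃ W2 : Subgroup G, (♯W2).Prime ∧ W2 ≤ der H ∧
      ∃ (A0 : Set G) (W : Subgroup G), PrimeDadeHyp Γ L H H (sharp H) A0 W W1 W2) :
    Coherent L Γ (seqIndD H L H ⊥) (sharp L) (cfInd Γ L) :=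
  Pf.Sibley_coherence hodd hnil hTI hc

end Cfsg.Agent.OO
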