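import Cfsg.Agent.Lib.OO.PF5

/-! # Definitions for Peterfalvi section 6 -/

set_option autoImplicit false

namespace Cfsg.Agent.OO

open Subgroup Cfsg.Agent.Coprime

universe u

variable {G : Type u} [Group G] [Finite G]

/-- Hypothesis (6.1); `𝒮(M) = seqIndD K L K M` -/
structure CohHyp (Γ K L : Subgroup G) (τ : (G → ℂ) →ₗ[ℂ] (G → ℂ)) (R : (G → ℂ) → Finset (G → ℂ)) :
    Prop where
  normal : K ⊴ L
  sol : Sol K
  subcoh : Subcoherent L Γ (seqIndD K L K ⊥) τ R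

/-- Hypothesis (6.4), with `H₁ = K' M` -/
structure OddFrobQuo (K L M : Subgroup G) : Prop where
  odd : Odd ♯L
  normal : M ⊴ L
  le : M ≤ K
  nil : Nil (K ⁒ M)
  frob : IsFrobKer (L ⁒ (der K ⊔ M)) (K ⁒ (der K ⊔ M))

end Cfsg.Agent.OO
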