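import Cfsg.Agent.Lib.OO.PF6

/-! # Definitions for Peterfalvi section 7 -/

set_option autoImplicit false

namespace Cfsg.Agent.OO

open Subgroup Cfsg.Agent.Coprime

universe u

variable {G : Type u} [Group G] [Finite G]

/-- the hypotheses common to (7.10) and (7.11) -/
structure FrobPartitionHyp {ι : Type*} (Γ : Subgroup G) (I : Finset ι) (L H : ι → Subgroup G) : Prop where
  odd : Odd ♯Γ
  sol : ∀ i ∈ I, Sol (L i)
  frob : ∀ i ∈ I, IsFrobKer (L i) (H i)
  ti : ∀ i ∈ I, NormedTI (sharp (H i)) Γ (L i)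
  coprime : ∀ i ∈ I, ∀ j ∈ I, i ≠ j → (♯(H i)).Coprime ♯(H j)
  two_le : 2 ≤ I.card

end Cfsg.Agent.OO
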