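import Cfsg.Agent.Lib.OO.PF7Defs
import Cfsg.Agent.Lib.OO.Pf.PF7_A
import Cfsg.Agent.Lib.OO.Pf.PF7_B
import Cfsg.Agent.Lib.OO.Pf.PF7_C

/-! # Interface: Peterfalvi section 7 (non-existence of a certain type of group of odd order) -/

set_option autoImplicit false
set_option linter.unusedSectionVars false
set_option linter.unusedVariables false

namespace Cfsg.Agent.OO

open Subgroup Cfsg.Agent.Coprime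
open scoped Pointwise ComplexConjugate

universe u

variable {G : Type u} [Group G] [Finite G] {Γ L H : Subgroup G} {A : Set G} {χ α φ ψ ζ : G → ℂ} {a : G}

theorem invDadeE (Γ L : Subgroup G) (χ : G → ℂ) (ha : a ∈ A) : invDade Γ L A χ a =
    (♯(DadeSig Γ L a) : ℂ)⁻¹ * ∑ x ∈ elts (DadeSig Γ L a : Set G), χ (x * a) :=
  Pf.invDadeE Γ L χ ha

theorem invDade_suppOn (Γ L : Subgroup G) (A : Set G) (χ : G → ℂ) : invDade Γ L A χ ∈ suppOn A :=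
  Pf.invDade_suppOn Γ L A χ

theorem invDade_on (h : DadeHyp Γ L A) (hχ : χ ∈ CF Γ) : invDade Γ L A χ ∈ CFon L A :=
  Pf.invDade_on h hχ

theorem invDade_cfun1 (h : DadeHyp Γ L A) : invDade Γ L A (cf1 Γ) = A.indicator 1 :=
  Pf.invDade_cfun1 h

/-- value of `χ^ρ` when `χ` is constant on the cosets `H(a) a` -/
theorem invDade_eq_of_const (Γ L : Subgroup G) (ha : a ∈ A)
    (hc : ∀ x ∈ DadeSig Γ L a, χ (x * a) = χ a) : invDade Γ L A χ a = χ a :=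
  Pf.invDade_eq_of_const Γ L ha hc

theorem invDade_normedTI (h : DadeHyp Γ L A) (hTI : NormedTI A Γ L) (χ : G → ℂ) (ha : a ∈ A) :
    invDade Γ L A χ a = χ a :=
  Pf.invDade_normedTI h hTI χ ha

theorem invDade_restr {A1 : Set G} (Γ L : Subgroup G) (h : A1 ⊆ A) (χ : G → ℂ) (ha : a ∈ A1) :
    invDade Γ L A1 χ a = invDade Γ L A χ a :=
  Pf.invDade_restr Γ L h χ ha

/-- (2.7), restated -/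
theorem invDade_reciprocity (h : DadeHyp Γ L A) (hχ : χ ∈ CF Γ) (hα : α ∈ CFon L A) :
    ⟪Dade Γ L A α, χ⟫[Γ] = ⟪α, invDade Γ L A χ⟫[L] :=
  Pf.invDade_reciprocity h hχ hα

/-- (7.2)(a) -/
theorem DadeK (h : DadeHyp Γ L A) (hα : α ∈ CFon L A) : invDade Γ L A (Dade Γ L A α) = α :=
  Pf.DadeK h hα

/-- (7.2)(b) -/
theorem leC_norm_invDade (h : DadeHyp Γ L A) (hχ : χ ∈ CF Γ) :
    cfnorm L (invDade Γ L A χ) ≤ cfnorm Γ χ ∧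
      (cfnorm L (invDade Γ L A χ) = cfnorm Γ χ ↔ χ = Dade Γ L A (invDade Γ L A χ)) :=
  Pf.leC_norm_invDade h hχ

/-- (7.3) -/
theorem leC_cfnorm_invDade_support (h : DadeHyp Γ L A) (hχ : χ ∈ CF Γ) :
    cfnorm L (invDade Γ L A χ) ≤ (♯Γ : ℝ)⁻¹ * ∑ g ∈ elts (DadeSupp Γ L A), ‖χ g‖ ^ 2 ∧
      (cfnorm L (invDade Γ L A χ) = (♯Γ : ℝ)⁻¹ * ∑ g ∈ elts (DadeSupp Γ L A), ‖χ g‖ ^ 2 ↔
        ∀ a ∈ A, ∀ u ∈ DadeSig Γ L a, χ (u * a) = χ a) :=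
  Pf.leC_cfnorm_invDade_support h hχ

theorem cfnormE_invDade (h : DadeHyp Γ L A) (χ : G → ℂ) :
    cfnorm L (invDade Γ L A χ) = (♯L : ℝ)⁻¹ * ∑ a ∈ elts A, ‖invDade Γ L A χ a‖ ^ 2 :=
  Pf.cfnormE_invDade h χ

/-- (7.5), for all class functions of norm 1 -/
theorem Dade_cover_inequality {ι : Type*} (I : Finset ι) (L : ι → Subgroup G) (A : ι → Set G)
    (h : ∀ i ∈ I, DadeHyp Γ (L i) (A i))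
    (hd : ∀ i ∈ I, ∀ j ∈ I, i ≠ j → Disjoint (DadeSupp Γ (L i) (A i)) (DadeSupp Γ (L j) (A j)))
    {G0 : Set G} (hG0 : G0 = (Γ : Set G) \ ⋃ i ∈ I, DadeSupp Γ (L i) (A i)) (hχ : χ ∈ CF Γ)
    (h1 : cfnorm Γ χ = 1) :
    (♯Γ : ℝ)⁻¹ * (∑ g ∈ elts G0, ‖χ g‖ ^ 2 - G0.ncard) +
      ∑ i ∈ I, (cfnorm (L i) (invDade Γ (L i) (A i) χ) - (A i).ncard / ♯(L i)) ≤ 0 :=
  Pf.Dade_cover_inequality I L A h hd hG0 hχ h1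

theorem DadeHyp.normal_of_sharp (h : DadeHyp Γ L (sharp H)) : H ⊴ L :=
  Pf.DadeHyp.normal_of_sharp h

/-- (7.7); `c ξ = ((ξ - d_ξ ξ₀)^τ, χ)` -/
theorem invDade_seqInd_sum (h : DadeHyp Γ L (sharp H)) {ξ0 : G → ℂ} (h0 : ξ0 ∈ seqIndT H L)
    (hχ : χ ∈ CF Γ) {c : (G → ℂ) → ℂ}
    (hc : ∀ ξ ∈ seqIndT H L, c ξ = ⟪Dade Γ L (sharp H) (ξ - (ξ 1 / ξ0 1) • ξ0), χ⟫[Γ]) :
    (∀ a ∈ sharp H, invDade Γ L (sharp H) χ a = ∑ ξ ∈ seqIndT H L, conj (c ξ) / ⟪ξ, ξ⟫[L] * ξ a) ∧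
    cfnorm L (invDade Γ L (sharp H) χ) = ∑ ξ ∈ seqIndT H L, ‖c ξ‖ ^ 2 / cfnorm L ξ -
      ‖∑ ξ ∈ seqIndT H L, conj (c ξ) / ⟪ξ, ξ⟫[L] * ξ 1‖ ^ 2 / ♯L :=
  Pf.invDade_seqInd_sum h h0 hχ hc

/-- (7.8), with `e = |L : H|`, `h = |H|`, `β = (Ind_H^L 1 - ζ)^τ` -/
theorem Dade_Ind1_sub_lin (h : DadeHyp Γ L (sharp H)) {ν : (G → ℂ) →+ (G → ℂ)}
    (hν : CoherentWith L Γ (seqIndD H L H ⊥) (sharp L) (Dade Γ L (sharp H)) ν)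
    (h2 : 1 < (seqIndD H L H ⊥).card) (hirr : IsIrr L ζ) (hζ : ζ ∈ seqIndD H L H ⊥)
    (h1 : ζ 1 = H.relIndex L) {β : G → ℂ} (hβ : β = Dade Γ L (sharp H) (cfInd L H (cf1 H) - ζ)) :
    ((∀ ξ ∈ seqIndD H L H ⊥, ⟪ν ξ, cf1 Γ⟫[Γ] = 0) ∧ ⟪β, cf1 Γ⟫[Γ] = 1 ∧ β ∈ ZIrr Γ ∧
      cfnorm Γ β = H.relIndex L + 1) ∧
    (∃ Δ ∈ CF Γ, (∀ ξ ∈ seqIndD H L H ⊥, ⟪Δ, ν ξ⟫[Γ] = 0) ∧ ⟪Δ, cf1 Γ⟫[Γ] = 0 ∧
      (∃ a : ℤ, ⟪β, ν ζ⟫[Γ] = a - 1 ∧ β = cf1 Γ - ν ζ +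
          (a : ℂ) • ∑ ξ ∈ seqIndD H L H ⊥, (ξ 1 / H.relIndex L / ⟪ξ, ξ⟫[L]) • ν ξ + Δ ∧
        cfnorm L (invDade Γ L (sharp H) (ν ζ)) =
          (1 - 1 / (♯H : ℝ)) / H.relIndex L * a ^ 2 - 2 / (♯H : ℝ) * a + (1 - H.relIndex L / (♯H : ℝ)) ∧
        cfnorm Γ Δ = H.relIndex L - 1 - ((♯H - 1 : ℝ) / H.relIndex L * a ^ 2 - 2 * a)) ∧
      (2 * H.relIndex L + 1 ≤ ♯H → 1 - H.relIndex L / (♯H : ℝ) ≤ cfnorm L (invDade Γ L (sharp H) (ν ζ)) ∧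
        cfnorm Γ Δ ≤ H.relIndex L - 1)) ∧
    ∀ χ ∈ ZIrr Γ, (∀ ξ ∈ seqIndD H L H ⊥, ⟪χ, ν ξ⟫[Γ] = 0) →
      (∀ x ∈ sharp H, invDade Γ L (sharp H) χ x = ⟪β, χ⟫[Γ]) ∧
      cfnorm L (invDade Γ L (sharp H) χ) = (♯H - 1 : ℝ) / ♯L * ‖⟪β, χ⟫[Γ]‖ ^ 2 :=
  Pf.Dade_Ind1_sub_lin h hν h2 hirr hζ h1 hβ

theorem cfdot_real_vchar_even (hodd : Odd ♯Γ) (hφ : φ ∈ ZIrr Γ) (hφr : star φ = φ) (hψ : ψ ∈ ZIrr Γ)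
    (hψr : star ψ = ψ) : EqCmod 2 ⟪φ, ψ⟫[Γ] (⟪φ, cf1 Γ⟫[Γ] * ⟪ψ, cf1 Γ⟫[Γ]) :=
  Pf.cfdot_real_vchar_even hodd hφ hφr hψ hψr

theorem disjoint_Dade_ortho {L1 L2 : Subgroup G} {A1 A2 : Set G}
    (hd : Disjoint (DadeSupp Γ L1 A1) (DadeSupp Γ L2 A2)) (φ ψ : G → ℂ) :
    ⟪Dade Γ L1 A1 φ, Dade Γ L2 A2 ψ⟫[Γ] = 0 :=
  Pf.disjoint_Dade_ortho hd φ ψ

section Disjoint

variable {L1 L2 H1 H2 : Subgroup G} {ν1 ν2 : (G → ℂ) →+ (G → ℂ)}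

theorem disjoint_coherent_ortho (hodd : Odd ♯Γ) (h1 : DadeHyp Γ L1 (sharp H1))
    (h2 : DadeHyp Γ L2 (sharp H2)) (hd : Disjoint (DadeSupp Γ L1 (sharp H1)) (DadeSupp Γ L2 (sharp H2)))
    (c1 : CoherentWith L1 Γ (seqIndD H1 L1 H1 ⊥) (sharp L1) (Dade Γ L1 (sharp H1)) ν1)
    (c2 : CoherentWith L2 Γ (seqIndD H2 L2 H2 ⊥) (sharp L2) (Dade Γ L2 (sharp H2)) ν2) {χ1 χ2 : G → ℂ}
    (i1 : IsIrr L1 χ1) (m1 : χ1 ∈ seqIndD H1 L1 H1 ⊥) (i2 : IsIrr L2 χ2) (m2 : χ2 ∈ seqIndD H2 L2 H2 ⊥) :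
    ⟪ν1 χ1, ν2 χ2⟫[Γ] = 0 :=
  Pf.disjoint_coherent_ortho hodd h1 h2 hd c1 c2 i1 m1 i2 m2

/-- (7.9) -/
theorem Dade_sub_lin_nonorthogonal (hodd : Odd ♯Γ) (h1 : DadeHyp Γ L1 (sharp H1))
    (h2 : DadeHyp Γ L2 (sharp H2)) (hd : Disjoint (DadeSupp Γ L1 (sharp H1)) (DadeSupp Γ L2 (sharp H2)))
    (c1 : CoherentWith L1 Γ (seqIndD H1 L1 H1 ⊥) (sharp L1) (Dade Γ L1 (sharp H1)) ν1)
    (c2 : CoherentWith L2 Γ (seqIndD H2 L2 H2 ⊥) (sharp L2) (Dade Γ L2 (sharp H2)) ν2) {ζ1 ζ2 : G → ℂ}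
    (i1 : IsIrr L1 ζ1) (m1 : ζ1 ∈ seqIndD H1 L1 H1 ⊥) (d1 : ζ1 1 = H1.relIndex L1)
    (i2 : IsIrr L2 ζ2) (m2 : ζ2 ∈ seqIndD H2 L2 H2 ⊥) (d2 : ζ2 1 = H2.relIndex L2) :
    ⟪Dade Γ L1 (sharp H1) (cfInd L1 H1 (cf1 H1) - ζ1), ν2 ζ2⟫[Γ] ≠ 0 ∨
      ⟪Dade Γ L2 (sharp H2) (cfInd L2 H2 (cf1 H2) - ζ2), ν1 ζ1⟫[Γ] ≠ 0 :=
  Pf.Dade_sub_lin_nonorthogonal hodd h1 h2 hd c1 c2 i1 m1 d1 i2 m2 d2

end Disjoint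

theorem odd_Frobenius_index_ler (hodd : Odd ♯L) (hF : IsFrobKer L H) : 2 * H.relIndex L + 1 ≤ ♯H :=
  Pf.odd_Frobenius_index_ler hodd hF

/-- (7.10) -/
theorem coherent_Frobenius_bound {ι : Type*} {I : Finset ι} {L H : ι → Subgroup G}
    (h : FrobPartitionHyp Γ I L H) :
    ∃ i ∈ I, ∃ e k : ℝ, e = (H i).relIndex (L i) ∧ k = ♯(H i) ∧
      (e - 1) * ((k - 2 * e - 1) / (e * k) + 2 / (k * (k + 2))) ≤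
        ((((Γ : Set G) \ ⋃ i ∈ I, classSupp (sharp (H i)) Γ).ncard : ℝ) - 1) / ♯Γ :=
  Pf.coherent_Frobenius_bound h

/-- (7.11) -/
theorem no_coherent_Frobenius_partition {ι : Type*} {I : Finset ι} {L H : ι → Subgroup G}
    (h : FrobPartitionHyp Γ I L H) : (Γ : Set G) \ ⋃ i ∈ I, classSupp (sharp (H i)) Γ ≠ {1} :=
  Pf.no_coherent_Frobenius_partition h

end Cfsg.Agent.OO
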