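import Cfsg.Agent.Lib.OO.PF8Defs
import Cfsg.Agent.Lib.OO.Pf.PF8_A
import Cfsg.Agent.Lib.OO.Pf.PF8_B

/-! # Interface: Peterfalvi section 8 -/

set_option autoImplicit false
set_option linter.unusedSectionVars false
set_option linter.unusedVariables false

namespace Cfsg.Agent.OO

open Subgroup Cfsg.Agent.Coprime
open scoped Pointwise

universe u

variable {G : Type u} [Group G] [Finite G] [MinOdd G]

/-! ### Types `𝓕` and `𝓟` -/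

omit [MinOdd G] in
theorem compl_of_typeF {M U V : Subgroup G} (hV : IsSdprod (Fcore M) V M) (h : OfTypeF M U) :
    OfTypeF M V :=
  Pf.compl_of_typeF hV h

omit [MinOdd G] in
theorem Frobenius_of_typeF {M U : Subgroup G} (h : IsFrob M (Fcore M) U) :
    OfTypeF M U :=
  Pf.Frobenius_of_typeF h

omit [MinOdd G] in
/-- (8.2) -/
theorem typeF_context {M U : Subgroup G} (hodd : Odd ♯M) (h : OfTypeF M U) :
    (∀ U0, TypeFCompl M U U0 → ♯U0 = expo U) ∧ (IsFrob M (Fcore M) U ↔ IsZGroup U) ∧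
    ∀ U1 χ, TypeFInertia M U U1 → IsIrr (Fcore M) χ → χ ≠ cf1 (Fcore M) → inertia U χ ≤ U1 :=
  Pf.typeF_context hodd h

section TypeP
variable {M U W W1 W2 : Subgroup G}

omit [MinOdd G] in
theorem of_typeP_sol (h : OfTypeP M U W W1 W2) : Sol M :=
  Pf.of_typeP_sol h
omit [MinOdd G] in
theorem typeP_cent_compl (h : OfTypeP M U W W1 W2) : der M ⊓ 𝐂(W1) = W2 :=
  Pf.typeP_cent_compl h
omit [MinOdd G] in
theorem typeP_cent_core_compl (h : OfTypeP M U W W1 W2) : Fcore M ⊓ 𝐂(W1) = W2 :=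
  Pf.typeP_cent_core_compl h
theorem typePF_exclusion (h : OfTypeP M U W W1 W2) (K : Subgroup G) : ¬ OfTypeF M K :=
  Pf.typePF_exclusion h K
omit [MinOdd G] in
theorem of_typeP_compl_conj (h : OfTypeP M U W W1 W2) {W1x : Subgroup G} (hx : IsSdprod (der M) W1x M) :
    ∃ x ∈ M, W1x = x •ᶜ W1 :=
  Pf.of_typeP_compl_conj h hx
omit [MinOdd G] in
theorem conj_of_typeP (h : OfTypeP M U W W1 W2) (x : G) :
    OfTypeP (x •ᶜ M) (x •ᶜ U) (x •ᶜ W) (x •ᶜ W1) (x •ᶜ W2) :=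
  Pf.conj_of_typeP h x

/-- (8.5) -/
theorem typeP_context (h : OfTypeP M U W W1 W2) :
    IsDprod (Fcore M) (U ⊓ 𝐂(Fcore M)) (Fit M) ∧ (der U ≤ 𝐂(Fcore M) ∧ (U ≠ ⊥ → ¬ U ≤ 𝐂(Fcore M))) ∧
    NormedTI (cycTIset W1 W2) ⊤ W ∧ CycTIHyp ⊤ W W1 W2 :=
  Pf.typeP_context h

omit [MinOdd G] in
theorem of_typeP_conj (h : OfTypeP M U W W1 W2) {Ux Wx W1x W2x : Subgroup G}
    (hx : OfTypeP M Ux Wx W1x W2x) :
    ∃ x ∈ M, x •ᶜ U = Ux ∧ x •ᶜ W1 = W1x ∧ x •ᶜ W2 = W2x ∧ x •ᶜ W = Wx :=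
  Pf.of_typeP_conj h hx

theorem FTtypeP_neq1 (hM : IsCoatom M) (h : OfTypeP M U W W1 W2) : FTtype M ≠ 1 :=
  Pf.FTtypeP_neq1 hM h
theorem compl_of_typeII_IV (hM : IsCoatom M) (h : OfTypeP M U W W1 W2) (ht : FTtype M ≠ 5) :
    OfTypeII_IV M U W W1 W2 :=
  Pf.compl_of_typeII_IV hM h ht
theorem compl_of_typeII (hM : IsCoatom M) (h : OfTypeP M U W W1 W2) (ht : FTtype M = 2) :
    OfTypeII M U W W1 W2 :=
  Pf.compl_of_typeII hM h ht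
theorem compl_of_typeIII (hM : IsCoatom M) (h : OfTypeP M U W W1 W2) (ht : FTtype M = 3) :
    OfTypeIII M U W W1 W2 :=
  Pf.compl_of_typeIII hM h ht
theorem compl_of_typeIV (hM : IsCoatom M) (h : OfTypeP M U W W1 W2) (ht : FTtype M = 4) :
    OfTypeIV M U W W1 W2 :=
  Pf.compl_of_typeIV hM h ht
theorem compl_of_typeV (hM : IsCoatom M) (h : OfTypeP M U W W1 W2) (ht : FTtype M = 5) :
    OfTypeV M U W W1 W2 :=
  Pf.compl_of_typeV hM h ht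

end TypeP

theorem FTtypeP_witness {M : Subgroup G} (hM : IsCoatom M) (ht : FTtype M ≠ 1) :
    ∃ U W W1 W2, OfTypeP M U W W1 W2 :=
  Pf.FTtypeP_witness hM ht

omit [MinOdd G] in
theorem typeP_pair_sym {S T W W1 W2 : Subgroup G} (h : TypePPair S T W W1 W2) :
    TypePPair T S W W2 W1 :=
  Pf.typeP_pair_sym h

/-- (8.8) -/
theorem FTtypeP_pair_cases : (∀ M : Subgroup G, IsCoatom M → FTtype M = 1) ∨
    ∃ S T W W1 W2 : Subgroup G, TypePPair S T W W1 W2 :=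
  Pf.FTtypeP_pair_cases

/-- (8.9) -/
theorem typeP_pairW {S T W W1 W2 : Subgroup G} (h : TypePPair S T W W1 W2) :
    ∃ U, OfTypeP S U W W1 W2 :=
  Pf.typeP_pairW h

/-! ### One maximal subgroup -/

section OneMaximal
variable {M : Subgroup G}

/-- (8.11) -/
theorem FTcore_facts (hM : IsCoatom M) : IsHallIn (Fcore M) ⊤ ∧ IsHallIn (FTcore M) ⊤ ∧
    ∀ p : ℕ, p.Prime → ∀ S, Syl p S (FTcore M) → S ≠ ⊥ → 𝐍(S) ≤ M :=
  Pf.FTcore_facts hM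

/-- (8.12) -/
theorem FTtypeI_II_facts {U : Subgroup G} (hM : IsCoatom M) (ht : FTtype M ≤ 2)
    (hU : IsSdprod (Fcore M) U (FTder M)) :
    (∀ p : ℕ, p.Prime → ∀ S, Syl p S U → Ab S ∧ rank S ≤ 2) ∧
    (∀ X : Set G, X.Nonempty → X ⊆ sharp U → Fcore M ⊓ centralizer X ≠ ⊥ →
      UniqMax (centralizer X) M) ∧
    ((FTsupp M \ FTsupp1 M).Nonempty → NormedTI (FTsupp M \ FTsupp1 M) ⊤ M) :=
  Pf.FTtypeI_II_facts hM ht hU

/-- (8.13) -/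
theorem FTsupport_facts (hM : IsCoatom M) :
    (∀ x ∈ FTsupp0 M, ∀ a : G, a * x * a⁻¹ ∈ FTsupp0 M → ∃ y ∈ M, a * x * a⁻¹ = y * x * y⁻¹) ∧
    (∀ x ∈ FTsupp0 M, ¬ 𝐂[x] ≤ M → x ∈ FTsupp1 M ∧ UniqMax 𝐂[x] (Nx x)) ∧
    ∀ x ∈ FTsupp0 M, ¬ 𝐂[x] ≤ M →
      (IsSdprod (Fcore (Nx x)) (M ⊓ Nx x) (Nx x) ∧
        IsSdprod (Fcore (Nx x) ⊓ 𝐂[x]) (M ⊓ 𝐂[x]) 𝐂[x]) ∧
      (∀ y ∈ FTsupp0 M, (♯(Fcore (Nx x))).Coprime ♯(M ⊓ 𝐂[y])) ∧
      x ∈ FTsupp (Nx x) \ FTsupp1 (Nx x) ∧ FTtype (Nx x) ≤ 2 ∧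
      (FTtype (Nx x) = 2 → IsFrobKer M (Fcore M)) :=
  Pf.FTsupport_facts hM

/-- (8.15), first assertion -/
theorem norm_FTsuppX (hM : IsCoatom M) {A : Set G} (hA : ∀ x ∈ M, ∀ a ∈ A, x * a * x⁻¹ ∈ A)
    (h1 : FTsupp1 M ⊆ A) (h0 : A ⊆ FTsupp0 M) {g : G} (hg : ∀ a ∈ A, g * a * g⁻¹ ∈ A) : g ∈ M :=
  Pf.norm_FTsuppX hM hA h1 h0 hg

theorem FTsignalizerJ (hM : IsCoatom M) (x : G) {y : G} (hy : y ∈ FTsupp0 M) :
    FTsignalizer (x •ᶜ M) (x * y * x⁻¹) = x •ᶜ FTsignalizer M y :=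
  Pf.FTsignalizerJ hM x hy

/-- (8.15), second assertion -/
theorem FT_Dade0_hyp (hM : IsCoatom M) : DadeHyp ⊤ M (FTsupp0 M) :=
  Pf.FT_Dade0_hyp hM
theorem FT_Dade_hyp (hM : IsCoatom M) : DadeHyp ⊤ M (FTsupp M) :=
  Pf.FT_Dade_hyp hM
theorem FT_Dade1_hyp (hM : IsCoatom M) : DadeHyp ⊤ M (FTsupp1 M) :=
  Pf.FT_Dade1_hyp hM
theorem FT_DadeF_hyp (hM : IsCoatom M) : DadeHyp ⊤ M (sharp (Fcore M)) :=
  Pf.FT_DadeF_hyp hM
theorem def_FTsignalizer0 (hM : IsCoatom M) {x : G} (hx : x ∈ FTsupp0 M) :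
    DadeSig ⊤ M x = FTsignalizer M x :=
  Pf.def_FTsignalizer0 hM hx
theorem FT_Dade_supportE (hM : IsCoatom M) {A : Set G} (hA : A ⊆ FTsupp0 M) :
    DadeSupp ⊤ M A = FTDadeSupp M A :=
  Pf.FT_Dade_supportE hM hA
theorem FT_DadeE (hM : IsCoatom M) {φ : G → ℂ} (h : φ ∈ CFon M (FTsupp M)) :
    FTDade M φ = FTDade0 M φ :=
  Pf.FT_DadeE hM h
theorem FT_Dade1E (hM : IsCoatom M) {φ : G → ℂ} (h : φ ∈ CFon M (FTsupp1 M)) :
    FTDade1 M φ = FTDade0 M φ :=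
  Pf.FT_Dade1E hM h
theorem FT_DadeF_E (hM : IsCoatom M) {φ : G → ℂ} (h : φ ∈ CFon M (sharp (Fcore M))) :
    FTDadeF M φ = FTDade0 M φ :=
  Pf.FT_DadeF_E hM h
omit [MinOdd G] in
theorem FT_Dade_supportS (M : Subgroup G) {A B : Set G} (h : A ⊆ B) :
    FTDadeSupp M A ⊆ FTDadeSupp M B :=
  Pf.FT_Dade_supportS M h
omit [MinOdd G] in
theorem FT_Dade_support_norm (M : Subgroup G) (A : Set G) (g : G) {x : G} :
    g * x * g⁻¹ ∈ FTDadeSupp M A ↔ x ∈ FTDadeSupp M A :=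
  Pf.FT_Dade_support_norm M A g
theorem FT_Dade1_supportJ (hM : IsCoatom M) (g : G) :
    FTDadeSupp (g •ᶜ M) (FTsupp1 (g •ᶜ M)) = FTDadeSupp M (FTsupp1 M) :=
  Pf.FT_Dade1_supportJ hM g
theorem FT_Dade_supportJ (hM : IsCoatom M) (g : G) :
    FTDadeSupp (g •ᶜ M) (FTsupp (g •ᶜ M)) = FTDadeSupp M (FTsupp M) :=
  Pf.FT_Dade_supportJ hM g
theorem FT_Dade0_supportJ (hM : IsCoatom M) (g : G) :
    FTDadeSupp (g •ᶜ M) (FTsupp0 (g •ᶜ M)) = FTDadeSupp M (FTsupp0 M) :=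
  Pf.FT_Dade0_supportJ hM g

variable {U W W1 W2 : Subgroup G}

theorem FT_cyclicTI_hyp (h : OfTypeP M U W W1 W2) : CycTIHyp ⊤ W W1 W2 :=
  Pf.FT_cyclicTI_hyp h

theorem FTtypeP_pair_witness (hM : IsCoatom M) (h : OfTypeP M U W W1 W2) :
    ∃ T, TypePPair M T W W1 W2 ∧ ∃ V, OfTypeP T V W W2 W1 :=
  Pf.FTtypeP_pair_witness hM h

theorem of_typeP_pair (hM : IsCoatom M) (h : OfTypeP M U W W1 W2) {T V : Subgroup G} (hT : IsCoatom T)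
    (hV : OfTypeP T V W W2 W1) : TypePPair M T W W1 W2 :=
  Pf.of_typeP_pair hM h hT hV

theorem FT_primeTI_hyp (h : OfTypeP M U W W1 W2) : PrimeTIHyp M (der M) W W1 W2 :=
  Pf.FT_primeTI_hyp h

theorem FTtypeP_supp0_def (hM : IsCoatom M) (h : OfTypeP M U W W1 W2) :
    FTsupp0 M = FTsupp M ∪ classSupp (cycTIset W1 W2) M :=
  Pf.FTtypeP_supp0_def hM h

theorem FT_prDade_hypF (hM : IsCoatom M) (h : OfTypeP M U W W1 W2) :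
    PrimeDadeHyp ⊤ M (der M) (Fcore M) (FTsupp M) (FTsupp0 M) W W1 W2 :=
  Pf.FT_prDade_hypF hM h

theorem FT_prDade_hyp (hM : IsCoatom M) (h : OfTypeP M U W W1 W2) :
    PrimeDadeHyp ⊤ M (der M) (FTcore M) (FTsupp M) (FTsupp0 M) W W1 W2 :=
  Pf.FT_prDade_hyp hM h

theorem FTtypeP_coh_base (hM : IsCoatom M) (h : OfTypeP M U W W1 W2) :
    ∃ R, FTcohBase M W W1 W2 R :=
  Pf.FTtypeP_coh_base hM h

theorem coherent_ortho_cycTIiso (hM : IsCoatom M) (h : OfTypeP M U W W1 W2) {S1 : Finset (G → ℂ)}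
    {τ1 : (G → ℂ) →+ (G → ℂ)} (hS : ConjSubset S1 (calSP M))
    (hτ : CoherentWith M ⊤ S1 (sharp M) (FTDade0 M) τ1) {χ i j : G → ℂ} (hχ : χ ∈ S1) (hirr : IsIrr M χ)
    (hi : IsIrr W1 i) (hj : IsIrr W2 j) : ⟪τ1 χ, cycTIeta ⊤ W W1 W2 i j⟫[⊤] = 0 :=
  Pf.coherent_ortho_cycTIiso hM h hS hτ hχ hirr hi hj

/-- (5.8) in the odd order context -/
theorem FTtypeP_coherent_TIred (hM : IsCoatom M) (h : OfTypeP M U W W1 W2) {S1 : Finset (G → ℂ)}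
    {τ1 : (G → ℂ) →+ (G → ℂ)} (hS : ConjSubset S1 (calSP M))
    (hτ : CoherentWith M ⊤ S1 (sharp M) (FTDade0 M) τ1) {χ j : G → ℂ} (hχ : χ ∈ S1) (hirr : IsIrr M χ)
    (hj : IsIrr W2 j) (hμ : prTIred M W W1 W2 j ∈ S1) :
    τ1 (prTIred M W W1 W2 j) = prTIsign M W W1 W2 j • ∑ i ∈ Irr W1, cycTIeta ⊤ W W1 W2 i j ∨
    (τ1 (prTIred M W W1 W2 j) = -prTIsign M W W1 W2 j • ∑ i ∈ Irr W1, cycTIeta ⊤ W W1 W2 i (star j) ∧
      ∀ l, IsIrr W2 l → prTIred M W W1 W2 l ∈ S1 →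
        prTIred M W W1 W2 l 1 = prTIred M W W1 W2 j 1 → l = j ∨ l = star j) :=
  Pf.FTtypeP_coherent_TIred hM h hS hτ hχ hirr hj hμ

open Classical in
theorem size_red_subseq_seqInd_typeP (h : OfTypeP M U W W1 W2) {S1 : Finset (G → ℂ)}
    (hS : S1 ⊆ seqIndT (der M) M) (hred : ∀ φ ∈ S1, ¬ IsIrr M φ) :
    S1.card = ((Irr W2).filter fun j => prTIred M W W1 W2 j ∈ S1).card :=
  Pf.size_red_subseq_seqInd_typeP h hS hred

end OneMaximal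

/-- (8.16) -/
theorem FTtypeII_ker_TI {M : Subgroup G} (hM : IsCoatom M) (ht : FTtype M = 2) :
    NormedTI (FTsupp0 M) ⊤ M ∧ NormedTI (FTsupp M) ⊤ M ∧ NormedTI (FTsupp1 M) ⊤ M :=
  Pf.FTtypeII_ker_TI hM ht

/-- (8.17) -/
theorem FT_Dade_support_partition :
    (∀ p ∈ piOf (⊤ : Subgroup G), ∃ M : Subgroup G, IsCoatom M ∧ p ∈ piOf (FTcore M)) ∧
    (∀ M L : Subgroup G, IsCoatom M → IsCoatom L → NotConj L M → (♯(FTcore M)).Coprime ♯(FTcore L)) ∧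
    (∀ M : Subgroup G, IsCoatom M → (A1til M).ncard = (♯(FTcore M) - 1) * M.index) ∧
    (∀ M : Subgroup G, IsCoatom M → (1 : G) ∉ A1til M) ∧
    (∀ M L : Subgroup G, IsCoatom M → IsCoatom L → NotConj L M → Disjoint (A1til M) (A1til L)) ∧
    ((∀ M : Subgroup G, IsCoatom M → FTtype M = 1) →
      ∀ x : G, x ≠ 1 → ∃ M : Subgroup G, IsCoatom M ∧ x ∈ A1til M) ∧
    ∀ S T W W1 W2 : Subgroup G, TypePPair S T W W1 W2 →
      (∀ L : Subgroup G, IsCoatom L → Disjoint (classSupp (cycTIset W1 W2) ⊤) (A1til L)) ∧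
      ∀ x : G, x ≠ 1 → x ∈ classSupp (cycTIset W1 W2) ⊤ ∨
        ∃ L : Subgroup G, IsCoatom L ∧ x ∈ A1til L :=
  Pf.FT_Dade_support_partition

/-- (8.18) -/
theorem FT_Dade_support_disjoint {S T : Subgroup G} (hS : IsCoatom S) (hT : IsCoatom T)
    (hn : NotConj T S) :
    ((FTsupports S T ↔ ¬ Disjoint (FTsupp1 S) (FTsupp T)) ∧
      ∀ x ∈ FTsupp1 S ∩ FTsupp T, ¬ 𝐂[x] ≤ S ∧ 𝐂[x] ≤ T) ∧
    ((∃ x : G, FTsupports S (x •ᶜ T)) ↔ ¬ Disjoint (A1til S) (Atil T)) ∧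
    (Disjoint (A1til S) (Atil T) ∨ Disjoint (A1til T) (Atil S)) :=
  Pf.FT_Dade_support_disjoint hS hT hn

theorem FT_Dade1_support_disjoint {S T : Subgroup G} (hS : IsCoatom S) (hT : IsCoatom T)
    (hn : NotConj T S) : Disjoint (A1til S) (A1til T) :=
  Pf.FT_Dade1_support_disjoint hS hT hn

end Cfsg.Agent.OO
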