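import Cfsg.Agent.Lib.OO.MinOdd
import Cfsg.Agent.Lib.OO.CFDefs

/-! # Definitions for Peterfalvi section 8 -/

set_option autoImplicit false
set_option linter.unusedSectionVars false
set_option linter.unusedVariables false

namespace Cfsg.Agent.OO

open Subgroup Cfsg.Agent.Coprime
open scoped Pointwise

universe u

variable {G : Type u} [Group G] [Finite G]

/-- the set `𝒮 = {Ind_{M'}^M θ | θ ∈ Irr M', M_s ≰ ker θ}` -/
noncomputable abbrev calSP (M : Subgroup G) : Finset (G → ℂ) := seqIndD (der M) M (FTcore M) ⊥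

open Classical in
/-- the properties of the base `R` of (5.3)(b) for `𝒮` (`FTtypeP_subcoherent`, `FTtypeP_base_ortho`,
`FTtypeP_base_TIred`) -/
structure FTcohBase (M W W1 W2 : Subgroup G) (R : (G → ℂ) → Finset (G → ℂ)) : Prop where
  subcoh : Subcoherent M ⊤ (calSP M) (FTDade0 M) R
  ortho : ∀ φ ∈ calSP M, IsIrr M φ → ∀ α ∈ R φ, ∀ i ∈ Irr W1, ∀ j ∈ Irr W2,
    ⟪α, cycTIeta ⊤ W W1 W2 i j⟫[⊤] = 0
  red : ∀ j ∈ Irr W2, j ≠ cf1 W2 → R (prTIred M W W1 W2 j) =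
    (Irr W1).image (fun i => prTIsign M W W1 W2 j • cycTIeta ⊤ W W1 W2 i j) ∪
    (Irr W1).image (fun i => -(prTIsign M W W1 W2 j • cycTIeta ⊤ W W1 W2 i (star j)))

/-- `Ã₁(M)` -/
abbrev A1til (M : Subgroup G) : Set G := FTDadeSupp M (FTsupp1 M)
/-- `Ã(M)` -/
abbrev Atil (M : Subgroup G) : Set G := FTDadeSupp M (FTsupp M)
/-- `Ã₀(M)` -/
abbrev A0til (M : Subgroup G) : Set G := FTDadeSupp M (FTsupp0 M)

end Cfsg.Agent.OO
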