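import Cfsg.Agent.Lib.OO.PF8Defs

/-! # Definitions for Peterfalvi section 9 -/

set_option autoImplicit false
set_option linter.unusedSectionVars false
set_option linter.unusedVariables false

namespace Cfsg.Agent.OO

open Subgroup Cfsg.Agent.Coprime
open scoped Pointwise

universe u

variable {G : Type u} [Group G] [Finite G]

omit [Finite G] in
/-- `C(H / H₀)`: the elements of `N(H₀)` centralizing `H` modulo `H₀` -/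
def secCent (H H0 : Subgroup G) : Subgroup G where
  carrier := {x | x ∈ 𝐍(H0) ∧ ∀ h ∈ H, x * h * x⁻¹ * h⁻¹ ∈ H0}
  one_mem' := ⟨one_mem _, fun h _ => by simp⟩
  mul_mem' := fun {a b} ha hb => ⟨mul_mem ha.1 hb.1, fun h hh => by
    have := mul_mem ((mem_normalizer_iff.1 ha.1 _).1 (hb.2 h hh)) (ha.2 h hh)
    convert this using 1; group⟩
  inv_mem' := fun {a} ha => ⟨inv_mem ha.1, fun h hh => by
    have := (mem_normalizer_iff.1 (inv_mem ha.1) _).1 (inv_mem (ha.2 h hh))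
    have h2 : a⁻¹ * (a * h * a⁻¹ * h⁻¹)⁻¹ * a⁻¹⁻¹ = a⁻¹ * h * a⁻¹⁻¹ * h⁻¹ := by group
    rwa [h2] at this⟩

/-- Hypotheses (9.2), (9.4), (9.5) -/
structure PtypeHyp (M U W W1 W2 H0 : Subgroup G) : Prop where
  max : IsCoatom M
  typeP : OfTypeP M U W W1 W2
  not5 : FTtype M ≠ 5
  chief : IsChiefIn M H0 (Fcore M)
  cent_le : Fcore M ⊓ 𝐂(U) ≤ H0

/-- the prime `p` of (9.4) -/
noncomputable def Pp (M H0 : Subgroup G) : ℕ := (H0.relIndex (Fcore M)).minFac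
/-- `C = C_U(H / H₀)` -/
def Pc (M U H0 : Subgroup G) : Subgroup G := U ⊓ secCent (Fcore M) H0
/-- `u = |U / C|` -/
noncomputable def Pu (M U H0 : Subgroup G) : ℕ := (Pc M U H0).relIndex U
/-- `𝒳(Y)` -/
noncomputable abbrev calXH (M Y : Subgroup G) : Finset (G → ℂ) := IrrKerD (der M) (Fcore M) Y
/-- `𝒮(Y)` -/
noncomputable abbrev calSH (M Y : Subgroup G) : Finset (G → ℂ) := seqIndD (der M) M (Fcore M) Y
/-- case (9.7.b): `U` acts irreducibly on `H / H₀` -/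
def PGalois (M U H0 : Subgroup G) : Prop :=
  ∀ X : Subgroup G, H0 ≤ X → X ≤ Fcore M → U ≤ 𝐍(X) → X = H0 ∨ X = Fcore M
/-- degree `q u`, in `𝒮(H₀ C)` and induced from a linear character of `H C` -/
def IsIndHC (M U W1 H0 : Subgroup G) (ζ : G → ℂ) : Prop :=
  ζ 1 = (♯W1 * Pu M U H0 : ℕ) ∧ ζ ∈ calSH M (H0 ⊔ Pc M U H0) ∧
    ∃ ξ, IsLinChar (Fcore M ⊔ Pc M U H0) ξ ∧ ζ = cfInd M (Fcore M ⊔ Pc M U H0) ξ

/-- the data of case (9.7.a); `H₁` is the preimage of the subgroup of order `p` of `H / H₀` -/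
structure GaloisPn (M U W1 H0 H1 : Subgroup G) (a : ℕ) : Prop where
  le0 : H0 ≤ H1
  le : H1 ≤ Fcore M
  card : H0.relIndex H1 = Pp M H0
  norm : U ≤ 𝐍(H1)
  sup : ⨆ w ∈ W1, w •ᶜ H1 = Fcore M
  indep : ∀ w ∈ W1, w •ᶜ H1 ⊓ (⨆ v ∈ W1, ⨆ (_ : v ≠ w), v •ᶜ H1) = H0
  a_eq : a = (U ⊓ secCent H1 H0).relIndex U
  one_lt : 1 < a
  dvd : a ∣ Pp M H0 - 1
  cyc : IsCyclic (U ⁒ (U ⊓ secCent H1 H0))
  emb : ∃ f : G → (Fin (♯W1 - 1) → ZMod a), (∀ x ∈ U, ∀ y ∈ U, f (x * y) = f x + f y) ∧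
    ∀ x ∈ U, f x = 0 ↔ x ∈ Pc M U H0

/-- the field structure of case (9.7.b) -/
structure GaloisP (M U W1 H0 : Subgroup G) (F : Type) [Field F] [Fintype F] (φ ψ : G → F)
    (η : G → (F ≃+* F)) : Prop where
  card : Fintype.card F = Pp M H0 ^ ♯W1
  φ_mul : ∀ x ∈ Fcore M, ∀ y ∈ Fcore M, φ (x * y) = φ x + φ y
  φ_surj : ∀ z : F, ∃ x ∈ Fcore M, φ x = z
  φ_ker : ∀ x ∈ Fcore M, φ x = 0 ↔ x ∈ H0
  ψ_mul : ∀ x ∈ U, ∀ y ∈ U, ψ (x * y) = ψ x * ψ y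
  ψ_ne : ∀ x ∈ U, ψ x ≠ 0
  ψ_ker : ∀ x ∈ U, ψ x = 1 ↔ x ∈ Pc M U H0
  ψ_gen : AddSubgroup.closure (ψ '' U) = ⊤
  φ_ψ : ∀ x ∈ Fcore M, ∀ y ∈ U, φ (y * x * y⁻¹) = ψ y * φ x
  η_mul : ∀ x ∈ W1, ∀ y ∈ W1, η (x * y) = η x * η y
  η_inj : Set.InjOn η W1
  η_surj : ∀ α : F ≃+* F, ∃ w ∈ W1, η w = α
  φ_η : ∀ x ∈ Fcore M, ∀ w ∈ W1, φ (w * x * w⁻¹) = η w (φ x)

end Cfsg.Agent.OO
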