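import Cfsg.Agent.Lib.OO.PF8
import Cfsg.Agent.Lib.OO.PF9Defs
import Cfsg.Agent.Lib.OO.Pf.PF9_E

/-! # Interface: Peterfalvi section 9 -/

set_option autoImplicit false
set_option linter.unusedSectionVars false
set_option linter.unusedVariables false

namespace Cfsg.Agent.OO

open Subgroup Cfsg.Agent.Coprime
open scoped Pointwise

universe u

variable {G : Type u} [Group G] [Finite G] [MinOdd G]

variable {M U W W1 W2 H0 : Subgroup G}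

omit [MinOdd G] in
theorem Ptype_Fcore_sdprod (h : OfTypeP M U W W1 W2) : IsSdprod (Fcore M) (U ⊔ W1) M :=
  Pf.Ptype_Fcore_sdprod h
omit [MinOdd G] in
theorem Ptype_Fcore_coprime (h : OfTypeP M U W W1 W2) : (♯(Fcore M)).Coprime ♯(U ⊔ W1) :=
  Pf.Ptype_Fcore_coprime h
theorem Ptype_compl_Frobenius (hM : IsCoatom M) (h : OfTypeP M U W W1 W2) (h5 : FTtype M ≠ 5) :
    IsFrob (U ⊔ W1) U W1 :=
  Pf.Ptype_compl_Frobenius hM h h5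

/-- (9.3) -/
theorem typeII_IV_core (hM : IsCoatom M) (h : OfTypeP M U W W1 W2) (h5 : FTtype M ≠ 5) :
    (FTtype M = 2 → Fcore M ⊓ 𝐂(U) = ⊥ ∧ ♯(Fcore M) = ♯W2 ^ ♯W1) ∧
    (FTtype M ≠ 2 → (♯W2).Prime ∧ Fcore M ⊓ 𝐂(U ⊔ W1) = ⊥ ∧
      ♯(Fcore M) = ♯W2 ^ ♯W1 * ♯(Fcore M ⊓ 𝐂(U))) :=
  Pf.typeII_IV_core hM h h5

/-- (9.4) -/
theorem Ptype_Fcore_kernel_exists (hM : IsCoatom M) (h : OfTypeP M U W W1 W2) (h5 : FTtype M ≠ 5) :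
    ∃ H0, PtypeHyp M U W W1 W2 H0 :=
  Pf.Ptype_Fcore_kernel_exists hM h h5

theorem PtypeHyp.prime_p (h : PtypeHyp M U W W1 W2 H0) : (Pp M H0).Prime :=
  Pf.PtypeHyp.prime_p h
theorem PtypeHyp.prime_q (h : PtypeHyp M U W W1 W2 H0) : (♯W1).Prime :=
  Pf.PtypeHyp.prime_q h
theorem PtypeHyp.abelem (h : PtypeHyp M U W W1 W2 H0) :
    IsElementaryAbelian (Pp M H0) (Fcore M ⁒ H0) :=
  Pf.PtypeHyp.abelem h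
theorem PtypeHyp.der_le (h : PtypeHyp M U W W1 W2 H0) : der (Fcore M) ≤ H0 :=
  Pf.PtypeHyp.der_le h
theorem PtypeHyp.normal_C (h : PtypeHyp M U W W1 W2 H0) : Pc M U H0 ⊴ U ⊔ W1 :=
  Pf.PtypeHyp.normal_C h
theorem PtypeHyp.der_U_le (h : PtypeHyp M U W W1 W2 H0) : der U ≤ Pc M U H0 :=
  Pf.PtypeHyp.der_U_le h

theorem Ptype_Fcore_extensions_normal (h : PtypeHyp M U W W1 W2 H0) :
    H0 ⊔ Pc M U H0 ⊴ M ∧ Fcore M ⊔ Pc M U H0 ⊴ M ∧ H0 ⊔ der U ⊴ M ∧ H0 ⊔ der (Pc M U H0) ⊴ M :=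
  Pf.Ptype_Fcore_extensions_normal h

/-- (9.6) -/
theorem Ptype_Fcore_factor_facts (h : PtypeHyp M U W W1 W2 H0) :
    Pc M U H0 ≠ U ∧ H0.relIndex W2 = Pp M H0 ∧ H0.relIndex (Fcore M) = Pp M H0 ^ ♯W1 :=
  Pf.Ptype_Fcore_factor_facts h

theorem def_Ptype_factor_prime (h : PtypeHyp M U W W1 W2 H0) (hp : (♯W2).Prime) : Pp M H0 = ♯W2 :=
  Pf.def_Ptype_factor_prime h hp
theorem typeIII_IV_core_prime (h : PtypeHyp M U W W1 W2 H0) (h2 : FTtype M ≠ 2) : Pp M H0 = ♯W2 :=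
  Pf.typeIII_IV_core_prime h h2

theorem Ptype_quo_compl_Frobenius (h : PtypeHyp M U W W1 W2 H0) :
    IsFrob ((U ⊔ W1) ⁒ Pc M U H0) (U ⁒ Pc M U H0) (W1 ⁒ Pc M U H0) :=
  Pf.Ptype_quo_compl_Frobenius h

/-- (9.7)(a) -/
theorem typeP_Galois_Pn (h : PtypeHyp M U W W1 W2 H0) (hn : ¬ PGalois M U H0) :
    ∃ H1 a, GaloisPn M U W1 H0 H1 a :=
  Pf.typeP_Galois_Pn h hn

/-- (9.7)(b) -/
theorem typeP_Galois_P (h : PtypeHyp M U W W1 W2 H0) (hg : PGalois M U H0) :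
    (∃ (F : Type) (_ : Field F) (_ : Fintype F) (φ ψ : G → F) (η : G → (F ≃+* F)),
      GaloisP M U W1 H0 F φ ψ η) ∧
    IsCyclic (U ⁒ Pc M U H0) ∧ (Pu M U H0).Coprime (Pp M H0 - 1) ∧
    Pu M U H0 ∣ (Pp M H0 ^ ♯W1 - 1) / (Pp M H0 - 1) :=
  Pf.typeP_Galois_P h hg

open Classical in
/-- (9.8)(a,c,d); (b) is in `typeP_reducible_core_Ind` -/
theorem typeP_nonGalois_characters (h : PtypeHyp M U W W1 W2 H0) {H1 : Subgroup G} {a : ℕ}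
    (hn : GaloisPn M U W1 H0 H1 a) :
    (∀ χ ∈ calXH M H0, ∃ n : ℕ, χ 1 = (a * n : ℕ)) ∧
    (∃ ζ, IsIrr M ζ ∧ IsIndHC M U W1 H0 ζ) ∧
    (a ^ 2 * ♯(der U) ∣ (Pp M H0 - 1) * ♯U ∧
      (Pp M H0 - 1) * ♯U / (a ^ 2 * ♯(der U)) ≤
        ((calSH M (H0 ⊔ der U)).filter fun ζ => IsIrr M ζ ∧ ζ 1 = (♯W1 * a : ℕ)).card) :=
  Pf.typeP_nonGalois_characters h hn

/-- (9.9)(a,c); (b) is in `typeP_reducible_core_Ind` -/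
theorem typeP_Galois_characters (h : PtypeHyp M U W W1 W2 H0) (hg : PGalois M U H0) :
    (∀ χ ∈ calXH M H0, ∃ n : ℕ, χ 1 = (Pu M U H0 * n : ℕ)) ∧
    (∀ χ ∈ calXH M (H0 ⊔ der (Pc M U H0)), χ 1 = Pu M U H0 ∧
      ∃ ξ, IsLinChar (Fcore M ⊔ Pc M U H0) ξ ∧ χ = cfInd (der M) (Fcore M ⊔ Pc M U H0) ξ) ∧
    ((∀ ζ ∈ calSH M (H0 ⊔ der (Pc M U H0)), ¬ IsIrr M ζ) →
      Pc M U H0 = ⊥ ∧ Pu M U H0 = (Pp M H0 ^ ♯W1 - 1) / (Pp M H0 - 1) ∧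
      IsFrob (der M ⁒ H0) (Fcore M ⁒ H0) (U ⁒ H0)) :=
  Pf.typeP_Galois_characters h hg

open Classical in
/-- (9.8)(b) and (9.9)(b) -/
theorem typeP_reducible_core_Ind (h : PtypeHyp M U W W1 W2 H0) :
    ((calSH M H0).filter fun ζ => ¬ IsIrr M ζ).card = Pp M H0 - 1 ∧
    (∃ ζ ∈ calSH M H0, ¬ IsIrr M ζ) ∧
    ∀ ζ ∈ calSH M H0, ¬ IsIrr M ζ →
      (∃ j, IsIrr W2 j ∧ j ≠ cf1 W2 ∧ ζ = prTIred M W W1 W2 j) ∧ IsIndHC M U W1 H0 ζ :=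
  Pf.typeP_reducible_core_Ind h

/-- (9.10) -/
theorem typeP_reducible_core_cases (h : PtypeHyp M U W W1 W2 H0) :
    (∃ χ, IsIrr M χ ∧ χ ∈ calSH M (H0 ⊔ der (Pc M U H0)) ∧ χ 1 = (♯W1 * Pu M U H0 : ℕ) ∧
      ∃ ξ, IsLinChar (Fcore M ⊔ Pc M U H0) ξ ∧ χ = cfInd M (Fcore M ⊔ Pc M U H0) ξ) ∨
    (PGalois M U H0 ∧ IsFrob (der M ⁒ H0) (Fcore M ⁒ H0) (U ⁒ H0) ∧ IsCyclic U ∧
      ♯U = (Pp M H0 ^ ♯W1 - 1) / (Pp M H0 - 1) ∧ (FTtype M = 2 → IsFrob (der M) (Fcore M) U)) :=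
  Pf.typeP_reducible_core_cases h

/-- (9.11) -/
theorem Ptype_core_coherence (h : PtypeHyp M U W W1 W2 H0) :
    Coherent M ⊤ (calSH M (H0 ⊔ der (Pc M U H0))) (sharp M) (FTDade0 M) :=
  Pf.Ptype_core_coherence h

end Cfsg.Agent.OO
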